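import Cfsg.Agent.Lib.ClassNum.Classes
import Cfsg.Agent.S2384

/-!
Numerical bounds for class numbers of special linear groups.
-/

set_option autoImplicit false
set_option linter.unusedSectionVars false

namespace Cfsg.Agent.ClassNum

open Polynomial S2478

universe u

variable {F : Type u} [Field F] [Fintype F]

theorem cnt_small (q : ℕ) (hq : 1 ≤ q) : cnt q 1 1 = q - 1 ∧ cnt q 2 2 + 1 = q ^ 2 ∧ cnt q 3 3 + q = q ^ 3 ∧
    cnt q 4 2 + 1 = q ^ 2 := by
  obtain ⟨t, rfl⟩ : ∃ t, q = t + 1 := ⟨q - 1, by omega⟩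
  refine ⟨?_, ?_, ?_, ?_⟩ <;> norm_num [cnt, cw, Finset.sum_range_succ] <;> ring

theorem cnt_le' (q : ℕ) (hq : 1 ≤ q) (m k : ℕ) (hm : 1 ≤ m) : cnt q m k ≤ q ^ k := (cnt_le q hq m hm k).1

theorem divisors_gcd' {n r : ℕ} (hn : n ≠ 0) :
    (Nat.gcd n r).divisors.erase 1 = (n.divisors.erase 1).filter (fun d => d ∣ r) := by
  ext d
  simp only [Finset.mem_erase, Finset.mem_filter, Nat.mem_divisors]
  exact ⟨fun ⟨h1, h, _⟩ => ⟨⟨h1, h.trans (Nat.gcd_dvd_left _ _), hn⟩, h.trans (Nat.gcd_dvd_right _ _)⟩,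
    fun ⟨⟨h1, h, _⟩, h'⟩ => ⟨h1, Nat.dvd_gcd h h', Nat.gcd_ne_zero_left hn⟩⟩

/-- The correction term. -/
def corr (q n : ℕ) : ℕ :=
  ∑ d ∈ (Nat.gcd n (q - 1)).divisors.erase 1, (d ^ 2 - 1) * cnt q (n / d) (n / d)

theorem corr_le {q : ℕ} (hq : 2 ≤ q) {n : ℕ} (hn : 4 ≤ n) : corr q n + 3 * q ^ (n - 2) ≤ 2 * q ^ (n - 1) := by
  by_cases h8 : 8 ≤ n
  · set D := (Nat.gcd n (q - 1)).divisors.erase 1
    have hD : D ⊆ Finset.Icc 2 (q - 1) := fun d hd => by
      have h := Nat.mem_divisors.1 (Finset.mem_erase.1 hd).2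
      have h1 := (Finset.mem_erase.1 hd).1
      have h2 : d ∣ q - 1 := h.1.trans (Nat.gcd_dvd_right _ _)
      have h3 := Nat.le_of_dvd (by omega) h2
      have h4 : d ≠ 0 := by rintro rfl; exact absurd h2 (by simp; omega)
      exact Finset.mem_Icc.2 ⟨by omega, h3⟩
    have hterm : ∀ d ∈ D, (d ^ 2 - 1) * cnt q (n / d) (n / d) ≤ q ^ (n - 2) := by
      intro d hd
      have h := Finset.mem_Icc.1 (hD hd)
      have hdn := (Nat.mem_divisors.1 (Finset.mem_erase.1 hd).2).1.trans (Nat.gcd_dvd_left _ _)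
      have h1 : 1 ≤ n / d := Nat.div_pos (Nat.le_of_dvd (by omega) hdn) (by omega)
      calc (d ^ 2 - 1) * cnt q (n / d) (n / d) ≤ q ^ 2 * q ^ (n / 2) :=
            Nat.mul_le_mul ((Nat.sub_le _ _).trans (Nat.pow_le_pow_left (by omega) 2))
              ((cnt_le' q (by omega) _ _ h1).trans
                (Nat.pow_le_pow_right (by omega) (Nat.div_le_div_left h.1 two_pos)))
        _ ≤ _ := by rw [← pow_add]; exact Nat.pow_le_pow_right (by omega) (by omega)
    have hsum : corr q n ≤ D.card * q ^ (n - 2) := by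
      simpa [corr] using Finset.sum_le_card_nsmul _ _ _ hterm
    have hcard : D.card ≤ q - 2 := (Finset.card_le_card hD).trans (by simp; omega)
    calc corr q n + 3 * q ^ (n - 2) ≤ (q - 2) * q ^ (n - 2) + 3 * q ^ (n - 2) :=
          Nat.add_le_add_right (hsum.trans (Nat.mul_le_mul_right _ hcard)) _
      _ = (q - 2 + 3) * q ^ (n - 2) := by ring
      _ ≤ (2 * q) * q ^ (n - 2) := Nat.mul_le_mul_right _ (by omega)
      _ = _ := by rw [show n - 1 = n - 2 + 1 by omega, pow_succ]; ring
  · have c := cnt_small q (by omega)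
    have hb : ∀ m, cnt q (m + 1) (m + 1) ≤ q ^ (m + 1) := fun m => cnt_le' q (by omega) _ _ (by omega)
    have b2 := hb 1
    have b3 := hb 2
    unfold corr
    rw [divisors_gcd' (by omega), Finset.sum_filter]
    interval_cases n
    · rw [show (4 : ℕ).divisors.erase 1 = {2, 4} by decide, Finset.sum_insert (by decide), Finset.sum_singleton]
      norm_num
      rw [c.1]
      by_cases h4 : 4 ∣ q - 1
      · have := Nat.le_of_dvd (by omega) h4
        rw [if_pos h4, if_pos (dvd_trans (by norm_num) h4)]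
        nlinarith [Nat.sub_le q 1, Nat.pow_le_pow_left (show 5 ≤ q by omega) 2]
      · rw [if_neg h4, add_zero]
        by_cases h2 : 2 ∣ q - 1
        · have : 3 ≤ q := by omega
          rw [if_pos h2]
          nlinarith
        · rw [if_neg h2, zero_add]
          nlinarith
    · rw [show (5 : ℕ).divisors.erase 1 = {5} by decide, Finset.sum_singleton]
      norm_num
      rw [c.1]
      by_cases h5 : 5 ∣ q - 1
      · have := Nat.le_of_dvd (by omega) h5
        rw [if_pos h5]
        nlinarith [Nat.sub_le q 1, Nat.pow_le_pow_left (show 6 ≤ q by omega) 3]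
      · rw [if_neg h5, zero_add]
        nlinarith [Nat.pow_le_pow_left hq 3]
    · rw [show (6 : ℕ).divisors.erase 1 = {2, 3, 6} by decide, Finset.sum_insert (by decide),
        Finset.sum_insert (by decide), Finset.sum_singleton]
      norm_num
      rw [c.1]
      have e2 : (if 2 ∣ q - 1 then 3 * cnt q 3 3 else 0) ≤ 3 * q ^ 3 := by
        split_ifs
        · exact Nat.mul_le_mul_left _ b3
        · exact Nat.zero_le _
      have e3 : (if 3 ∣ q - 1 then 8 * cnt q 2 2 else 0) ≤ 8 * q ^ 2 := by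
        split_ifs
        · exact Nat.mul_le_mul_left _ b2
        · exact Nat.zero_le _
      by_cases h6 : 6 ∣ q - 1
      · have := Nat.le_of_dvd (by omega) h6
        rw [if_pos h6]
        have hsub := Nat.sub_le q 1
        have := Nat.mul_le_mul_right (q ^ 4) (show 7 ≤ q by omega)
        have := Nat.mul_le_mul_right (q ^ 3) (show 7 ≤ q by omega)
        have := Nat.mul_le_mul_right (q ^ 2) (show 7 ≤ q by omega)
        have := Nat.mul_le_mul_right q (show 7 ≤ q by omega)
        simp only [pow_succ, pow_zero, one_mul] at *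
        linarith
      · rw [if_neg h6, add_zero]
        by_cases h2 : 2 ∣ q - 1
        · have h3q : 3 ≤ q := by omega
          have h3 : ¬ 3 ∣ q - 1 := fun h => h6 (Nat.Coprime.mul_dvd_of_dvd_of_dvd (by norm_num) h2 h)
          rw [if_neg h3, add_zero]
          have := Nat.mul_le_mul_right (q ^ 4) h3q
          have := Nat.mul_le_mul_right (q ^ 3) h3q
          simp only [pow_succ, pow_zero, one_mul] at *
          linarith
        · rw [if_neg h2, zero_add]
          by_cases h3 : 3 ∣ q - 1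
          · have := Nat.le_of_dvd (by omega) h3
            have := Nat.mul_le_mul_right (q ^ 4) (show 4 ≤ q by omega)
            have := Nat.mul_le_mul_right (q ^ 3) (show 4 ≤ q by omega)
            have := Nat.mul_le_mul_right (q ^ 2) (show 4 ≤ q by omega)
            simp only [pow_succ, pow_zero, one_mul] at *
            linarith
          · rw [if_neg h3, zero_add]
            nlinarith [Nat.pow_le_pow_left hq 4]
    · rw [show (7 : ℕ).divisors.erase 1 = {7} by decide, Finset.sum_singleton]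
      norm_num
      rw [c.1]
      by_cases h7 : 7 ∣ q - 1
      · have := Nat.le_of_dvd (by omega) h7
        rw [if_pos h7]
        nlinarith [Nat.sub_le q 1, Nat.pow_le_pow_left (show 8 ≤ q by omega) 5]
      · rw [if_neg h7, zero_add]
        nlinarith [Nat.pow_le_pow_left hq 5]

theorem classes_mul_le {n : ℕ} :
    (Fintype.card F - 1) * Nat.card (ConjClasses (Matrix.SpecialLinearGroup (Fin n) F)) ≤
      cnt (Fintype.card F) n n + corr (Fintype.card F) n := by
  classical
  have h : Nat.card (ConjClasses (Matrix.SpecialLinearGroup (Fin n) F)) ≤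
      ∑ T ∈ (Finset.univ : Finset (S F n n)).filter (fun T => DT T = 1), eT T := by
    have h := classes_le (F := F) (n := n) (fun _ => True)
    simp only [and_true] at h
    exact (Nat.card_congr (Equiv.subtypeUnivEquiv
      (p := fun _ : ConjClasses (Matrix.SpecialLinearGroup (Fin n) F) => ∀ g, ConjClasses.mk g = _ → True)
      (fun _ _ _ => trivial))).symm.trans_le h
  exact (Nat.mul_le_mul_left _ h).trans ((two_scale n n).trans sum_sq_le)

theorem sl_classes_two : Nat.card (ConjClasses (Matrix.SpecialLinearGroup (Fin 2) F)) ≤ Fintype.card F + 4 ∧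
    2 * Nat.card (ConjClasses (Matrix.SpecialLinearGroup (Fin 2) F)) ≤ 5 * Fintype.card F := by
  have h := classes_mul_le (F := F) (n := 2)
  obtain ⟨q, hq⟩ : ∃ q, Fintype.card F = q := ⟨_, rfl⟩
  have h2 : 2 ≤ q := hq ▸ Fintype.one_lt_card
  rw [hq] at h ⊢
  have c := cnt_small q (by omega)
  have hcorr : corr q 2 ≤ 3 * (q - 1) ∧ (¬ 2 ∣ q - 1 → corr q 2 = 0) := by
    unfold corr
    rw [divisors_gcd' (by omega), Finset.sum_filter, show (2 : ℕ).divisors.erase 1 = {2} by decide,
      Finset.sum_singleton]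
    norm_num
    refine ⟨?_, fun h => by simp [h]⟩
    split_ifs
    · rw [c.1]
    · exact Nat.zero_le _
  obtain ⟨t, rfl⟩ : ∃ t, q = t + 1 := ⟨q - 1, by omega⟩
  simp only [Nat.add_sub_cancel] at h hcorr
  refine ⟨?_, ?_⟩
  · refine Nat.le_of_mul_le_mul_left ?_ (show 0 < t by omega)
    nlinarith
  · by_cases h2' : 2 ∣ t
    · refine Nat.le_of_mul_le_mul_left ?_ (show 0 < t by omega)
      have : 2 ≤ t := Nat.le_of_dvd (by omega) h2'
      nlinarith
    · have := hcorr.2 h2'
      refine Nat.le_of_mul_le_mul_left ?_ (show 0 < t by omega)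
      nlinarith

theorem sl_classes_ge_three {n : ℕ} (hn : 3 ≤ n) :
    Nat.card (ConjClasses (Matrix.SpecialLinearGroup (Fin n) F)) ≤
      Fintype.card F ^ (n - 1) + 3 * Fintype.card F ^ (n - 2) := by
  have h := classes_mul_le (F := F) (n := n)
  obtain ⟨q, hq⟩ : ∃ q, Fintype.card F = q := ⟨_, rfl⟩
  have h2 : 2 ≤ q := hq ▸ Fintype.one_lt_card
  rw [hq] at h ⊢
  refine Nat.le_of_mul_le_mul_left ?_ (show 0 < q - 1 by omega)
  refine h.trans ?_
  rcases eq_or_lt_of_le hn with rfl | hn4
  · have c := cnt_small q (by omega)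
    have hcorr : corr q 3 ≤ 8 * (q - 1) ∧ (¬ 3 ∣ q - 1 → corr q 3 = 0) := by
      unfold corr
      rw [divisors_gcd' (by omega), Finset.sum_filter, show (3 : ℕ).divisors.erase 1 = {3} by decide,
        Finset.sum_singleton]
      norm_num
      refine ⟨?_, fun h => by simp [h]⟩
      split_ifs
      · rw [c.1]
      · exact Nat.zero_le _
    obtain ⟨t, rfl⟩ : ∃ t, q = t + 1 := ⟨q - 1, by omega⟩
    simp only [Nat.add_sub_cancel] at h hcorr ⊢
    norm_num
    by_cases h3 : 3 ∣ t
    · have : 3 ≤ t := Nat.le_of_dvd (by omega) h3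
      nlinarith
    · have := hcorr.2 h3
      nlinarith
  · have h3 := cnt_le' q (by omega) n n (by omega)
    have h4 := corr_le h2 (by omega : 4 ≤ n)
    obtain ⟨j, rfl⟩ : ∃ j, n = j + 2 := ⟨n - 2, by omega⟩
    obtain ⟨t, rfl⟩ : ∃ t, q = t + 1 := ⟨q - 1, by omega⟩
    simp only [show j + 2 - 1 = j + 1 by omega, Nat.add_sub_cancel, pow_succ] at h4 h3 ⊢
    nlinarith

theorem sl_classes_lower {n : ℕ} (hn : 2 ≤ n) :
    Fintype.card F ^ (n - 1) < Nat.card (ConjClasses (Matrix.SpecialLinearGroup (Fin n) F)) := by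
  classical
  obtain ⟨p, hp⟩ := CharP.exists F
  haveI := hp
  haveI : Fact p.Prime := ⟨CharP.char_is_prime F p⟩
  rw [← S2384.result (F := F) rfl p n (by omega)]
  let t : Matrix.SpecialLinearGroup (Fin n) F := ⟨Matrix.transvection ⟨0, by omega⟩ ⟨1, by omega⟩ 1,
    Matrix.det_transvection_of_ne _ _ (by simp [Fin.ext_iff]) _⟩
  have ht : orderOf t = p := by
    refine orderOf_eq_prime (Subtype.ext ?_) fun h => ?_
    · have hk : ∀ k : ℕ, (Matrix.transvection (⟨0, by omega⟩ : Fin n) ⟨1, by omega⟩ (1 : F)) ^ k =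
          Matrix.transvection ⟨0, by omega⟩ ⟨1, by omega⟩ (k : F) := by
        intro k
        induction k with
        | zero => simp [Matrix.transvection_zero]
        | succ k ih =>
          rw [pow_succ, ih, Matrix.transvection_mul_transvection_same _ _ (by simp [Fin.ext_iff]),
            Nat.cast_succ]
      rw [Matrix.SpecialLinearGroup.coe_pow, Matrix.SpecialLinearGroup.coe_one]
      show Matrix.transvection _ _ _ ^ p = 1
      rw [hk, CharP.cast_eq_zero, Matrix.transvection_zero]
    · have h1 := congrArg (fun g : Matrix.SpecialLinearGroup (Fin n) F => g.1 ⟨0, by omega⟩ ⟨1, by omega⟩) h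
      simp [t, Matrix.transvection, Matrix.one_apply, Fin.ext_iff] at h1
  haveI : Fintype (ConjClasses (Matrix.SpecialLinearGroup (Fin n) F)) := Fintype.ofFinite _
  rw [Nat.card_eq_fintype_card, Nat.card_eq_fintype_card]
  refine Fintype.card_lt_of_injective_not_surjective Subtype.val Subtype.val_injective ?_
  intro hsurj
  obtain ⟨⟨_, g, rfl, hg⟩, he⟩ := hsurj (ConjClasses.mk t)
  obtain ⟨c, hc⟩ := isConj_iff.1 (ConjClasses.mk_eq_mk_iff_isConj.1 he)
  have : orderOf t = orderOf g := by
    rw [← hc]; exact orderOf_injective (MulAut.conj c).toMonoidHom (MulAut.conj c).injective g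
  rw [← this, ht, Nat.coprime_self] at hg
  exact (Fact.out : p.Prime).one_lt.ne' hg

end Cfsg.Agent.ClassNum
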