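import Cfsg.Agent.Lib.ClassNum.Counts

/-!
Conjugacy classes of the special linear group in terms of tuples.
-/

set_option autoImplicit false
set_option linter.unusedSectionVars false

namespace Cfsg.Agent.ClassNum

open Polynomial S2478

universe u

variable {F : Type u} [Field F]

/-- Number of summands attached to `q` of length greater than `k`. -/
noncomputable def longCount (s : Multiset (F[X] × ℕ)) (q : F[X]) (k : ℕ) : ℕ :=
  (s.map fun x => @ite ℕ (x.1 = q ∧ k < x.2) (Classical.propDecidable _) 1 0).sum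

theorem sum_min_succ [DecidableEq F[X]] (s : Multiset (F[X] × ℕ)) (q : F[X]) (k : ℕ) :
    (s.map fun x => if x.1 = q then q.natDegree * min (k + 1) x.2 else 0).sum =
      (s.map fun x => if x.1 = q then q.natDegree * min k x.2 else 0).sum + q.natDegree * longCount s q k := by
  classical
  rw [longCount, ← Multiset.sum_map_mul_left, ← Multiset.sum_map_add]
  refine congrArg Multiset.sum (Multiset.map_congr rfl fun x _ => ?_)
  by_cases h : x.1 = q
  · by_cases hk : k < x.2
    · rw [if_pos h, if_pos h, if_pos ⟨h, hk⟩, show min (k + 1) x.2 = min k x.2 + 1 by omega, mul_add]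
    · rw [if_pos h, if_pos h, if_neg (fun h' => hk h'.2), show min (k + 1) x.2 = min k x.2 by omega,
        mul_zero, add_zero]
  · simp [h]

theorem longCount_succ [DecidableEq F[X]] (s : Multiset (F[X] × ℕ)) (q : F[X]) (k : ℕ) :
    longCount s q k = s.count (q, k + 1) + longCount s q (k + 1) := by
  classical
  induction s using Multiset.induction with
  | empty => simp [longCount]
  | cons a s ih =>
    simp only [longCount, Multiset.map_cons, Multiset.sum_cons, Multiset.count_cons] at ih ⊢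
    rw [ih]
    obtain ⟨p, e⟩ := a
    simp only [Prod.mk.injEq]
    split_ifs <;> grind

/-- The substitution `f(X) ↦ ζ^(-deg f) f(ζ X)`. -/
noncomputable def sig (ζ : Fˣ) (f : F[X]) : F[X] :=
  C (((ζ⁻¹ : Fˣ) : F) ^ f.natDegree) * f.comp (C (ζ : F) * X)

theorem natDegree_compScale (ζ : Fˣ) (f : F[X]) : (f.comp (C (ζ : F) * X)).natDegree = f.natDegree := by
  rw [natDegree_comp, natDegree_C_mul_X _ ζ.ne_zero, mul_one]

theorem natDegree_sig (ζ : Fˣ) (f : F[X]) : (sig ζ f).natDegree = f.natDegree := by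
  rw [sig, natDegree_C_mul (pow_ne_zero _ (ζ⁻¹).ne_zero), natDegree_compScale]

theorem sig_monic (ζ : Fˣ) {f : F[X]} (hf : f.Monic) : (sig ζ f).Monic := by
  rw [Monic, sig, leadingCoeff_mul, leadingCoeff_C,
    leadingCoeff_comp (by rw [natDegree_C_mul_X _ ζ.ne_zero]; exact one_ne_zero), hf.leadingCoeff,
    leadingCoeff_C_mul_X, one_mul, ← mul_pow, Units.inv_mul, one_pow]

theorem sig_sig_inv (ζ : Fˣ) (f : F[X]) : sig ζ⁻¹ (sig ζ f) = f := by
  conv_lhs => rw [sig, natDegree_sig]
  rw [sig, mul_comp, C_comp, comp_assoc, mul_comp, C_comp, X_comp, ← mul_assoc, ← mul_assoc, ← C_mul,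
    ← C_mul, inv_inv, Units.mul_inv, ← mul_pow, Units.mul_inv,
    one_pow, C_1, one_mul, one_mul, comp_X]

theorem sig_injective (ζ : Fˣ) : Function.Injective (sig (F := F) ζ) :=
  Function.LeftInverse.injective (sig_sig_inv ζ)

theorem sig_mul (ζ : Fˣ) {f g : F[X]} (hf : f ≠ 0) (hg : g ≠ 0) : sig ζ (f * g) = sig ζ f * sig ζ g := by
  rw [sig, sig, sig, natDegree_mul hf hg, pow_add, C_mul, mul_comp]
  ring

theorem sig_irreducible (ζ : Fˣ) {f : F[X]} (hf : Irreducible f) : Irreducible (sig ζ f) := by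
  let E : F[X] ≃ₐ[F] F[X] := algEquivOfCompEqX (C (ζ : F) * X) (C ((ζ⁻¹ : Fˣ) : F) * X)
    (by rw [mul_comp, C_comp, X_comp, ← mul_assoc, ← C_mul, Units.mul_inv, C_1, one_mul])
    (by rw [mul_comp, C_comp, X_comp, ← mul_assoc, ← C_mul, Units.inv_mul, C_1, one_mul])
  have h : Irreducible (f.comp (C (ζ : F) * X)) := (MulEquiv.irreducible_iff (f := E.toMulEquiv)).2 hf
  rw [sig]
  exact (irreducible_isUnit_mul (isUnit_C.2 (IsUnit.pow _ (ζ⁻¹).isUnit))).2 h

theorem sig_prod (ζ : Fˣ) (s : Multiset F[X]) (hs : ∀ x ∈ s, x ≠ 0) : sig ζ s.prod = (s.map (sig ζ)).prod := by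
  induction s using Multiset.induction with
  | empty => simp [sig]
  | cons a s ih =>
    rw [Multiset.prod_cons, Multiset.map_cons, Multiset.prod_cons,
      sig_mul ζ (hs a (Multiset.mem_cons_self _ _))
        (Multiset.prod_ne_zero fun h => hs 0 (Multiset.mem_cons_of_mem h) rfl),
      ih fun x hx => hs x (Multiset.mem_cons_of_mem hx)]

variable {n : ℕ}

theorem kerdim_eq (G : Matrix (Fin n) (Fin n) F) (P : F[X]) :
    Module.finrank F (LinearMap.ker (aeval (Matrix.toLin' G) P)) + (aeval G P).rank = n := by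
  have h : aeval (Matrix.toLin' G) P = Matrix.toLin' (aeval G P) :=
    aeval_algHom_apply (Matrix.toLinAlgEquiv' (R := F) (n := Fin n)).toAlgHom G P
  rw [h, Matrix.rank, add_comm]
  have := LinearMap.finrank_range_add_finrank_ker (Matrix.toLin' (aeval G P))
  rw [Module.finrank_fin_fun] at this
  exact this

theorem aeval_conjUnit (c : GL (Fin n) F) (G : Matrix (Fin n) (Fin n) F) (P : F[X]) :
    aeval (c.1 * G * (c⁻¹ : GL (Fin n) F).1) P = c.1 * aeval G P * (c⁻¹ : GL (Fin n) F).1 := by
  induction P using Polynomial.induction_on' with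
  | add a b ha hb => rw [map_add, map_add, ha, hb, mul_add, add_mul]
  | monomial k a =>
    rw [aeval_monomial, aeval_monomial, Units.conj_pow, Algebra.algebraMap_eq_smul_one, smul_mul_assoc,
      one_mul, smul_mul_assoc, one_mul, mul_smul_comm, smul_mul_assoc]

variable [Fintype F]

theorem dat_bound (g : GL (Fin n) F) {s : Multiset (F[X] × ℕ)} (hs : IsData g.1 s) :
    ∀ x ∈ s, 1 ≤ x.2 ∧ x.2 ≤ n := by
  intro x hx
  have hg := data_good g hs
  refine ⟨(hg.1 x hx).2.2.1, ?_⟩
  have h1 := Multiset.le_sum_of_mem (Multiset.mem_map_of_mem (fun x : F[X] × ℕ => x.2 * x.1.natDegree) hx)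
  rw [hg.2] at h1
  exact le_trans (Nat.le_mul_of_pos_right _ (hg.1 x hx).1.natDegree_pos) h1

/-- Chosen data. -/
noncomputable def datG (g : GL (Fin n) F) : Multiset (F[X] × ℕ) := (exists_data g.1).choose

theorem datG_spec (g : GL (Fin n) F) : IsData g.1 (datG g) := (exists_data g.1).choose_spec

/-- The irreducible factors of a given exponent. -/
noncomputable def facs (g : GL (Fin n) F) (j : Fin n) : Multiset F[X] :=
  ((datG g).filter fun x => x.2 = (j : ℕ) + 1).map Prod.fst

theorem facs_good (g : GL (Fin n) F) (j : Fin n) {p : F[X]} (hp : p ∈ facs g j) :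
    Irreducible p ∧ p.Monic ∧ p.coeff 0 ≠ 0 := by
  obtain ⟨x, hx, rfl⟩ := Multiset.mem_map.1 hp
  have h := (data_good g (datG_spec g)).1 x (Multiset.mem_filter.1 hx).1
  exact ⟨h.1, h.2.1, h.2.2.2⟩

theorem filter_eq (g : GL (Fin n) F) (j : Fin n) :
    (datG g).filter (fun x => x.2 = (j : ℕ) + 1) = (facs g j).map fun p => (p, (j : ℕ) + 1) := by
  rw [facs, Multiset.map_map]
  conv_lhs => rw [← Multiset.map_id ((datG g).filter fun x => x.2 = (j : ℕ) + 1)]
  exact Multiset.map_congr rfl fun x hx => Prod.ext rfl (Multiset.mem_filter.1 hx).2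

/-- The tuple of an element. -/
noncomputable def tupG (g : GL (Fin n) F) : S F n n :=
  ⟨fun j => ⟨(facs g j).prod, by
    refine ⟨?_, ?_⟩
    · have := monic_multiset_prod_of_monic (facs g j) id fun x hx => (facs_good g j hx).2.1
      rwa [Multiset.map_id] at this
    · rw [coeff_zero_multiset_prod, Ne, Multiset.prod_eq_zero_iff]
      intro h0
      obtain ⟨x, hx, hx0⟩ := Multiset.mem_map.1 h0
      exact (facs_good g j hx).2.2 hx0⟩, by
    refine Eq.trans (Finset.sum_congr rfl fun j _ => ?_)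
      ((sum_split _ n _ (dat_bound g (datG_spec g))).trans (data_good g (datG_spec g)).2)
    rw [natDegree_multiset_prod_of_monic _ fun x hx => (facs_good g j hx).2.1, facs, Multiset.map_map,
      ← Multiset.sum_map_mul_left]
    refine congrArg Multiset.sum (Multiset.map_congr rfl fun x hx => ?_)
    simp only [Function.comp, (Multiset.mem_filter.1 hx).2]⟩

theorem normalizedFactors_tupG (g : GL (Fin n) F) (j : Fin n) [DecidableEq F] :
    UniqueFactorizationMonoid.normalizedFactors ((tupG g).1 j).1 = facs g j := by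
  show UniqueFactorizationMonoid.normalizedFactors (Multiset.prod _) = _
  rw [UniqueFactorizationMonoid.normalizedFactors_prod_eq _ fun x hx => (facs_good g j hx).1]
  conv_rhs => rw [← Multiset.map_id (facs g j)]
  exact Multiset.map_congr rfl fun x hx => (facs_good g j hx).2.1.normalize_eq_self

theorem isConj_of_tupG (g h : GL (Fin n) F) (e : tupG g = tupG h) : IsConj g h := by
  classical
  suffices hd : datG g = datG h by exact conj_of_data g h (datG_spec g) (hd ▸ datG_spec h)
  refine Multiset.ext.2 fun x => ?_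
  by_cases hx : 1 ≤ x.2 ∧ x.2 ≤ n
  · obtain ⟨j, hj⟩ : ∃ j : Fin n, x.2 = (j : ℕ) + 1 := ⟨⟨x.2 - 1, by omega⟩, by simp only; omega⟩
    have hh : facs g j = facs h j := by
      rw [← normalizedFactors_tupG g j, ← normalizedFactors_tupG h j, e]
    rw [← Multiset.count_filter_of_pos (p := fun y : F[X] × ℕ => y.2 = (j : ℕ) + 1) (s := datG g) hj,
      ← Multiset.count_filter_of_pos (p := fun y : F[X] × ℕ => y.2 = (j : ℕ) + 1) (s := datG h) hj,
      filter_eq, filter_eq, hh]
  · rw [Multiset.count_eq_zero_of_notMem fun h' => hx (dat_bound g (datG_spec g) x h'),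
      Multiset.count_eq_zero_of_notMem fun h' => hx (dat_bound h (datG_spec h) x h')]

theorem tupG_twist (g h : GL (Fin n) F) (c : GL (Fin n) F) (ζ : Fˣ)
    (e : (c * g * c⁻¹ : GL (Fin n) F).1 = (ζ : F) • h.1) (j : Fin n) :
    ((tupG h).1 j).1 = sig ζ ((tupG g).1 j).1 := by
  classical
  have hrank : ∀ (p : F[X]) (k : ℕ), Module.finrank F (LinearMap.ker (aeval (Matrix.toLin' g.1) (p ^ k))) =
      Module.finrank F (LinearMap.ker (aeval (Matrix.toLin' h.1) (sig ζ p ^ k))) := by
    intro p k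
    have h1 := kerdim_eq g.1 (p ^ k)
    have h2 := kerdim_eq h.1 (sig ζ p ^ k)
    suffices h3 : (aeval h.1 (sig ζ p ^ k)).rank = (aeval g.1 (p ^ k)).rank by omega
    have h4 : aeval h.1 ((p ^ k).comp (C (ζ : F) * X)) = c.1 * aeval g.1 (p ^ k) * (c⁻¹ : GL (Fin n) F).1 := by
      rw [aeval_comp, ← aeval_conjUnit]
      congr 1
      rw [map_mul, aeval_C, aeval_X, Algebra.algebraMap_eq_smul_one, smul_mul_assoc, one_mul, ← e]
      rfl
    have hs : aeval h.1 (sig ζ p ^ k) =
        Matrix.scalar (Fin n) ((((ζ⁻¹ : Fˣ) : F) ^ p.natDegree) ^ k) * aeval h.1 ((p ^ k).comp (C (ζ : F) * X)) := by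
      rw [sig, mul_pow, ← C_pow, ← pow_comp, map_mul, aeval_C]
      rfl
    rw [hs, h4, Matrix.rank_mul_eq_right_of_isUnit_det _ _ (by
        rw [← Matrix.isUnit_iff_isUnit_det]
        exact ((ζ⁻¹).isUnit.pow _).pow _ |>.map (Matrix.scalar (Fin n))),
      Matrix.rank_mul_eq_left_of_isUnit_det _ _ ((Matrix.isUnit_iff_isUnit_det _).1 (c⁻¹).isUnit),
      Matrix.rank_mul_eq_right_of_isUnit_det _ _ ((Matrix.isUnit_iff_isUnit_det _).1 c.isUnit)]
  have hcnt : ∀ p : F[X], Irreducible p → p.Monic → ∀ k,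
      (datG g).count (p, k + 1) = (datG h).count (sig ζ p, k + 1) := by
    intro p hp hpm
    have hl : ∀ k, longCount (datG g) p k = longCount (datG h) (sig ζ p) k := by
      intro k
      have hk := fun i => (finrank_ker_of_data (datG_spec g) p hp hpm i).symm.trans ((hrank p i).trans
        (finrank_ker_of_data (datG_spec h) _ (sig_irreducible ζ hp) (sig_monic ζ hpm) i))
      have h1 := hk (k + 1)
      rw [sum_min_succ, sum_min_succ, ← hk k, natDegree_sig] at h1
      exact Nat.eq_of_mul_eq_mul_left hp.natDegree_pos (Nat.add_left_cancel h1)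
    intro k
    have a := longCount_succ (datG g) p k
    have b := longCount_succ (datG h) (sig ζ p) k
    have := hl k
    have := hl (k + 1)
    omega
  have hcf : ∀ (g : GL (Fin n) F) (p : F[X]), (facs g j).count p = (datG g).count (p, (j : ℕ) + 1) := by
    intro g p
    rw [← Multiset.count_map_eq_count' (fun p : F[X] => (p, (j : ℕ) + 1)) (facs g j)
      (fun a b h => congrArg Prod.fst h) p, ← filter_eq, Multiset.count_filter_of_pos (p := fun y : F[X] × ℕ => y.2 = (j : ℕ) + 1) rfl]
  show (facs h j).prod = sig ζ (facs g j).prod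
  rw [sig_prod ζ _ fun x hx => (facs_good g j hx).1.ne_zero]
  refine congrArg Multiset.prod (Multiset.ext.2 fun x => ?_)
  by_cases hx : Irreducible x ∧ x.Monic
  · obtain ⟨y, hy, hyi, hym⟩ : ∃ y, sig ζ y = x ∧ Irreducible y ∧ y.Monic :=
      ⟨sig ζ⁻¹ x, by simpa using sig_sig_inv ζ⁻¹ x, sig_irreducible _ hx.1, sig_monic _ hx.2⟩
    subst hy
    rw [Multiset.count_map_eq_count' _ _ (sig_injective ζ), hcf, hcf]
    exact (hcnt y hyi hym _).symm
  · rw [Multiset.count_eq_zero_of_notMem fun h' => hx ⟨(facs_good h j h').1, (facs_good h j h').2.1⟩,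
      Multiset.count_eq_zero_of_notMem fun h' => by
        obtain ⟨y, hy, rfl⟩ := Multiset.mem_map.1 h'
        exact hx ⟨sig_irreducible ζ (facs_good g j hy).1, sig_monic ζ (facs_good g j hy).2.1⟩]

theorem tupG_conj (g c : GL (Fin n) F) : tupG (c * g * c⁻¹) = tupG g := by
  refine Subtype.ext (funext fun j => Subtype.ext ?_)
  rw [tupG_twist g (c * g * c⁻¹) c 1 (by rw [Units.val_one, one_smul]) j]
  simp [sig]

theorem inv_of_twist (g c : GL (Fin n) F) (ζ : Fˣ) (e : (c * g * c⁻¹ : GL (Fin n) F).1 = (ζ : F) • g.1) :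
    Inv (orderOf ζ) (tupG g) := by
  intro j i hi
  set f := ((tupG g).1 j).1 with hf
  have h := tupG_twist g g c ζ e j
  rw [← hf] at h
  have key : ∀ i, f.coeff i ≠ 0 → ζ ^ i = ζ ^ f.natDegree := by
    intro i hi
    have h' := congrArg (fun p => Polynomial.coeff p i) h
    simp only [sig, coeff_C_mul, comp_C_mul_X_coeff] at h'
    refine Units.ext ?_
    rw [Units.val_pow_eq_pow_val, Units.val_pow_eq_pow_val]
    have h'' : f.coeff i * 1 = f.coeff i * ((((ζ⁻¹ : Fˣ) : F) ^ f.natDegree) * (ζ : F) ^ i) := by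
      rw [mul_one]; conv_lhs => rw [h']
      ring
    have h3 := mul_left_cancel₀ hi h''
    calc (ζ : F) ^ i = ((ζ : F) ^ f.natDegree * ((ζ⁻¹ : Fˣ) : F) ^ f.natDegree) * (ζ : F) ^ i := by
          rw [← mul_pow, Units.mul_inv, one_pow, one_mul]
      _ = _ := by rw [mul_assoc, ← h3, mul_one]
  have h0 := key 0 ((tupG g).1 j).2.2
  rw [pow_zero] at h0
  exact orderOf_dvd_of_pow_eq_one ((key i hi).trans h0.symm)

theorem prod_split {β M : Type*} [CommMonoid M] (f : β × ℕ → M) (n : ℕ) (s : Multiset (β × ℕ))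
    (h : ∀ x ∈ s, 1 ≤ x.2 ∧ x.2 ≤ n) :
    ∏ j : Fin n, ((s.filter fun x => x.2 = (j : ℕ) + 1).map f).prod = (s.map f).prod := by
  induction s using Multiset.induction with
  | empty => simp
  | cons a t ih =>
    have hj : ∀ j : Fin n, (((a ::ₘ t).filter fun x => x.2 = (j : ℕ) + 1).map f).prod =
        (if a.2 = (j : ℕ) + 1 then f a else 1) * ((t.filter fun x => x.2 = (j : ℕ) + 1).map f).prod := by
      intro j
      by_cases hh : a.2 = (j : ℕ) + 1 <;> simp [hh]
    simp only [hj, Finset.prod_mul_distrib, ih fun x hx => h x (Multiset.mem_cons_of_mem hx),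
      Multiset.map_cons, Multiset.prod_cons]
    obtain ⟨h1, h2⟩ := h a (Multiset.mem_cons_self _ _)
    rw [Finset.prod_eq_single (⟨a.2 - 1, by omega⟩ : Fin n)]
    · rw [if_pos (by simp only; omega)]
    · intro j _ hne
      exact if_neg fun e => hne (Fin.ext (by simp only; omega))
    · simp

theorem DT_tupG (g : GL (Fin n) F) : DT (tupG g) = Matrix.GeneralLinearGroup.det g := by
  refine Units.ext ?_
  show _ = g.1.det
  rw [det_of_data (datG_spec g), ← prod_split _ n _ (dat_bound g (datG_spec g)), DT, Units.coe_prod]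
  refine Finset.prod_congr rfl fun j _ => ?_
  rw [Units.val_pow_eq_pow_val]
  show W (facs g j).prod ^ _ = _
  rw [filter_eq, Multiset.map_map]
  have hW : ∀ t : Multiset F[X], (∀ x ∈ t, x.Monic) → W t.prod = (t.map W).prod := by
    intro t ht
    induction t using Multiset.induction with
    | empty => simp [W]
    | cons a t iht =>
      have hm := fun x hx => ht x (Multiset.mem_cons_of_mem hx)
      rw [Multiset.prod_cons, Multiset.map_cons, Multiset.prod_cons, ← iht hm, W, W, W,
        (ht a (Multiset.mem_cons_self _ _)).natDegree_mul (by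
          have := monic_multiset_prod_of_monic t id hm
          rwa [Multiset.map_id] at this), mul_coeff_zero, pow_add]
      ring
  rw [hW _ fun x hx => (facs_good g j hx).2.1, ← Multiset.prod_map_pow]
  rfl

theorem pow_eT_mem_centralizer (R : GL (Fin n) F) (y : Fˣ) :
    ∃ h : GL (Fin n) F, h * R = R * h ∧ Matrix.GeneralLinearGroup.det h = y ^ eT (tupG R) := by
  let H : Subgroup Fˣ := (Subgroup.centralizer {R}).map Matrix.GeneralLinearGroup.det
  have h : y ^ eT (tupG R) ∈ H := by
    refine pow_eD_mem H (fun j hj z => ?_) y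
    obtain ⟨p, hp⟩ : ∃ p, p ∈ facs R j := by
      refine Multiset.exists_mem_of_ne_zero fun h0 => hj ?_
      show (facs R j).prod.natDegree = 0
      rw [h0, Multiset.prod_zero, natDegree_one]
    have hmem : (p, (j : ℕ) + 1) ∈ datG R := by
      have : (p, (j : ℕ) + 1) ∈ (facs R j).map fun p => (p, (j : ℕ) + 1) := Multiset.mem_map_of_mem _ hp
      rw [← filter_eq] at this
      exact (Multiset.mem_filter.1 this).1
    obtain ⟨C, hC, hd⟩ := commute_of_data (datG_spec R) hmem (z : F)
    have hu : IsUnit C := by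
      rw [Matrix.isUnit_iff_isUnit_det, hd]
      exact z.isUnit.pow _
    refine ⟨hu.unit, Subgroup.mem_centralizer_singleton_iff.2 (Units.ext hC.eq), Units.ext ?_⟩
    show C.det = _
    rw [hd, Units.val_pow_eq_pow_val]
  obtain ⟨k, hk, hk'⟩ := h
  exact ⟨k, Subgroup.mem_centralizer_singleton_iff.1 hk, hk'⟩

/-- The embedding into the general linear group. -/
noncomputable abbrev iot : Matrix.SpecialLinearGroup (Fin n) F →* GL (Fin n) F := Matrix.SpecialLinearGroup.toGL

theorem classes_le (P : S F n n → Prop) [DecidablePred P] [DecidableEq Fˣ] :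
    Nat.card {C : ConjClasses (Matrix.SpecialLinearGroup (Fin n) F) // ∀ g, ConjClasses.mk g = C → P (tupG (iot g))} ≤
      ∑ T ∈ (Finset.univ : Finset (S F n n)).filter (fun T => DT T = 1 ∧ P T), eT T := by
  classical
  have hdet : ∀ g : Matrix.SpecialLinearGroup (Fin n) F, Matrix.GeneralLinearGroup.det (iot g) = 1 :=
    fun g => Units.ext g.2
  let X := {C : ConjClasses (Matrix.SpecialLinearGroup (Fin n) F) //
    ∀ g, ConjClasses.mk g = C → P (tupG (iot g))}
  choose rep hrep using fun x : X => ConjClasses.exists_rep x.1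
  let R : S F n n → GL (Fin n) F := fun T => Function.invFun tupG T
  have hR : ∀ g : GL (Fin n) F, tupG (R (tupG g)) = tupG g := fun g => Function.invFun_eq ⟨g, rfl⟩
  have hcc : ∀ x : X, ∃ c : GL (Fin n) F, c * R (tupG (iot (rep x))) * c⁻¹ = iot (rep x) := fun x =>
    isConj_iff.1 (isConj_of_tupG _ _ (hR _))
  choose c hc using hcc
  let f : X → Σ T : {T : S F n n // DT T = 1 ∧ P T}, Fˣ ⧸ (powMonoidHom (eT T.1) : Fˣ →* Fˣ).range := fun x =>
    ⟨⟨tupG (iot (rep x)), by rw [DT_tupG, hdet], x.2 _ (hrep x)⟩,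
      QuotientGroup.mk (Matrix.GeneralLinearGroup.det (c x))⟩
  have hf : Function.Injective f := by
    intro x y h
    have key : ∀ T T' : S F n n, T = T' → ∀ a b : Fˣ, (Sigma.mk T (QuotientGroup.mk a) :
        Σ T : S F n n, Fˣ ⧸ (powMonoidHom (eT T) : Fˣ →* Fˣ).range) = Sigma.mk T' (QuotientGroup.mk b) →
        a⁻¹ * b ∈ (powMonoidHom (eT T) : Fˣ →* Fˣ).range := by
      rintro T _ rfl a b e
      exact QuotientGroup.eq.1 (eq_of_heq (Sigma.mk.inj_iff.1 e).2)
    have hT : tupG (iot (rep x)) = tupG (iot (rep y)) := congrArg (fun s => s.1.1) h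
    obtain ⟨z, hz⟩ := key _ _ hT _ _
      (congrArg (fun s => (⟨s.1.1, s.2⟩ : Σ T : S F n n, Fˣ ⧸ (powMonoidHom (eT T) : Fˣ →* Fˣ).range)) h)
    set T := tupG (iot (rep x)) with hTdef
    obtain ⟨k, hk, hkd⟩ := pow_eT_mem_centralizer (R T) z
    rw [hR] at hkd
    have hy : c y * R T * (c y)⁻¹ = iot (rep y) := by rw [hT]; exact hc y
    have hzd : Matrix.GeneralLinearGroup.det k =
        (Matrix.GeneralLinearGroup.det (c x))⁻¹ * Matrix.GeneralLinearGroup.det (c y) := hkd.trans hz
    let s : GL (Fin n) F := c y * k⁻¹ * (c x)⁻¹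
    have hs : Matrix.GeneralLinearGroup.det s = 1 := by
      show Matrix.GeneralLinearGroup.det (c y * k⁻¹ * (c x)⁻¹) = 1
      rw [map_mul, map_mul, map_inv, map_inv, hzd, mul_inv_rev, inv_inv]
      group
    let s' : Matrix.SpecialLinearGroup (Fin n) F := ⟨s.1, congrArg Units.val hs⟩
    have hinj : Function.Injective (iot (F := F) (n := n)) := fun a b h => Subtype.ext (congrArg Units.val h)
    refine Subtype.ext ?_
    rw [← hrep x, ← hrep y, ConjClasses.mk_eq_mk_iff_isConj]
    refine isConj_iff.2 ⟨s', hinj ?_⟩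
    rw [map_mul, map_mul, map_inv, show iot s' = s from Units.ext rfl, ← hc x, ← hy, ← hTdef]
    show c y * k⁻¹ * (c x)⁻¹ * (c x * R T * (c x)⁻¹) * (c y * k⁻¹ * (c x)⁻¹)⁻¹ = _
    calc _ = c y * (k⁻¹ * (R T * k)) * (c y)⁻¹ := by group
      _ = _ := by rw [← hk]; group
  refine (Nat.card_le_card_of_injective f hf).trans ?_
  rw [Nat.card_sigma]
  refine le_of_eq ?_
  rw [Finset.sum_subtype _ (p := fun T => DT T = 1 ∧ P T) (fun T => by simp) (fun T => eT T)]
  refine Finset.sum_congr rfl fun T _ => ?_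
  show (powMonoidHom (eT T.1) : Fˣ →* Fˣ).range.index = _
  rw [IsCyclic.index_powMonoidHom_range, Nat.card_units, Nat.card_eq_fintype_card]
  exact Nat.gcd_eq_right (eD_dvd_left _ _)

end Cfsg.Agent.ClassNum
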