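import Cfsg.Agent.Lib.ClassNum.Tuples

/-!
Counting tuples with divisibility or invariance conditions.
-/

set_option autoImplicit false
set_option linter.unusedSectionVars false

namespace Cfsg.Agent.ClassNum

open Polynomial S2478

universe u

variable {F : Type u} [Field F] [Fintype F]

theorem eT_dvd_weight {m k : ℕ} (T : S F m k) : eT T ∣ k := by
  have h := eD_dvd_sum (Fintype.card F) (dg T) (dg T) fun j hj => hj
  exact h.trans (dvd_of_eq T.2)

theorem card_dvd_le {n d : ℕ} (hd : 1 ≤ d) (hdn : d ∣ n) :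
    ((Finset.univ : Finset (S F n n)).filter fun T => d ∣ eT T).card ≤ cnt (Fintype.card F) (n / d) (n / d) := by
  classical
  obtain ⟨r, rfl⟩ := hdn
  rw [Nat.mul_div_cancel_left _ hd, ← (card_S (F := F) r r).1, Nat.card_eq_fintype_card, ← Finset.card_univ]
  have hι : ∀ i : Fin r, d * (i : ℕ) + (d - 1) < d * r := fun i => by
    have : d * ((i : ℕ) + 1) ≤ d * r := Nat.mul_le_mul_left _ i.2
    rw [mul_add, mul_one] at this
    omega
  let ι : Fin r → Fin (d * r) := fun i => ⟨d * (i : ℕ) + (d - 1), hι i⟩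
  have hinj : Function.Injective ι := fun a b h => Fin.ext (by
    have := congrArg Fin.val h
    simp only [ι] at this
    exact Nat.eq_of_mul_eq_mul_left hd (by omega))
  have hout : ∀ T : S F (d * r) (d * r), d ∣ eT T → ∀ j, j ∉ Set.range ι → (T.1 j).1.natDegree = 0 := by
    intro T hT j hj
    by_contra h
    obtain ⟨c, hc⟩ := hT.trans (eD_dvd (Fintype.card F) (dg T) h)
    have hc0 : 1 ≤ c := by
      rcases Nat.eq_zero_or_pos c with rfl | h
      · simp at hc
      · exact h
    have hcr : c - 1 < r := by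
      have h1 : d * c ≤ d * r := hc ▸ j.2
      have := Nat.le_of_mul_le_mul_left h1 hd
      omega
    refine hj ⟨⟨c - 1, hcr⟩, Fin.ext ?_⟩
    show d * (c - 1) + (d - 1) = j
    obtain ⟨c', rfl⟩ : ∃ c', c = c' + 1 := ⟨c - 1, by omega⟩
    rw [mul_add, mul_one] at hc
    rw [Nat.add_sub_cancel]
    omega
  let f : S F (d * r) (d * r) → (Fin r → Good F) := fun T i => T.1 (ι i)
  have hsum : ∀ T : S F (d * r) (d * r), d ∣ eT T →
      ∑ i : Fin r, ((i : ℕ) + 1) * (T.1 (ι i)).1.natDegree = r := by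
    intro T hT
    apply Nat.eq_of_mul_eq_mul_left hd
    refine Eq.trans ?_ T.2
    rw [Finset.mul_sum]
    refine Fintype.sum_of_injective ι hinj _ _ (fun j hj => by rw [hout T hT j hj, mul_zero]) fun i => ?_
    show d * (((i : ℕ) + 1) * _) = (d * (i : ℕ) + (d - 1) + 1) * _
    rw [← mul_assoc, show d * (i : ℕ) + (d - 1) + 1 = d * ((i : ℕ) + 1) by rw [mul_add, mul_one]; omega]
  refine Finset.card_le_card_of_injOn (fun T => if h : d ∣ eT T then (⟨f T, hsum T h⟩ : S F r r) else
    ⟨fun i => if i.1 + 1 = r then ⟨X + C 1, monic_X_add_C _, by simp⟩ else ⟨1, monic_one, by simp⟩, by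
      rcases Nat.eq_zero_or_pos r with rfl | hr
      · simp
      · rw [Finset.sum_eq_single (⟨r - 1, by omega⟩ : Fin r)]
        · simp only [show r - 1 + 1 = r by omega, if_pos, natDegree_X_add_C, mul_one]
        · intro i _ hi
          dsimp only
          rw [if_neg (fun e => hi (Fin.ext (by simp only; omega))), natDegree_one, mul_zero]
        · simp⟩) (fun T _ => Finset.mem_univ _) ?_
  intro T hT T' hT' h
  rw [Finset.coe_filter] at hT hT'
  simp only [dif_pos hT.2, dif_pos hT'.2, Subtype.mk.injEq] at h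
  refine Subtype.ext (funext fun j => ?_)
  by_cases hj : j ∈ Set.range ι
  · obtain ⟨i, rfl⟩ := hj
    exact congrFun h i
  · exact Subtype.ext ((eq_one_of_monic_natDegree_zero (T.1 j).2.1 (hout T hT.2 j hj)).trans
      (eq_one_of_monic_natDegree_zero (T'.1 j).2.1 (hout T' hT'.2 j hj)).symm)

theorem sum_sq_le {n : ℕ} :
    ∑ T : S F n n, eT T ^ 2 ≤ cnt (Fintype.card F) n n +
      ∑ d ∈ (Nat.gcd n (Fintype.card F - 1)).divisors.erase 1,
        (d ^ 2 - 1) * cnt (Fintype.card F) (n / d) (n / d) := by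
  classical
  set D := (Nat.gcd n (Fintype.card F - 1)).divisors.erase 1 with hD
  have hq : 0 < Fintype.card F - 1 := by have := Fintype.one_lt_card (α := F); omega
  calc ∑ T : S F n n, eT T ^ 2
      ≤ ∑ T : S F n n, (1 + ∑ d ∈ D, if d ∣ eT T then d ^ 2 - 1 else 0) := by
        refine Finset.sum_le_sum fun T _ => ?_
        rcases eq_or_ne (eT T) 1 with h | h
        · simp [h]
        · have hmem : eT T ∈ D := Finset.mem_erase.2 ⟨h, Nat.mem_divisors.2
            ⟨Nat.dvd_gcd (eT_dvd_weight T) (eD_dvd_left _ _), (Nat.gcd_pos_of_pos_right _ hq).ne'⟩⟩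
          have := Finset.single_le_sum (f := fun d => if d ∣ eT T then d ^ 2 - 1 else 0)
            (fun d _ => Nat.zero_le _) hmem
          simp only [dvd_refl, if_true] at this
          omega
    _ = cnt (Fintype.card F) n n +
          ∑ d ∈ D, (d ^ 2 - 1) * ((Finset.univ : Finset (S F n n)).filter fun T => d ∣ eT T).card := by
        rw [Finset.sum_add_distrib, Finset.sum_comm, Finset.sum_const, smul_eq_mul, mul_one, Finset.card_univ,
          ← Nat.card_eq_fintype_card, (card_S n n).1]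
        refine congrArg _ (Finset.sum_congr rfl fun d _ => ?_)
        rw [← Finset.sum_filter, Finset.sum_const, smul_eq_mul, mul_comm]
    _ ≤ _ := by
        refine Nat.add_le_add_left (Finset.sum_le_sum fun d hd => Nat.mul_le_mul_left _ ?_) _
        have hd' := Nat.mem_divisors.1 (Finset.mem_erase.1 hd).2
        exact card_dvd_le (Nat.pos_of_dvd_of_pos hd'.1 (Nat.gcd_pos_of_pos_right _ hq))
          (hd'.1.trans (Nat.gcd_dvd_left _ _))

/-- All the exponents occurring are multiples of `m`. -/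
def Inv {n k : ℕ} (m : ℕ) (T : S F n k) : Prop := ∀ j i, (T.1 j).1.coeff i ≠ 0 → m ∣ i

theorem Inv.dvd_deg {n k m : ℕ} {T : S F n k} (h : Inv m T) (j : Fin n) : m ∣ (T.1 j).1.natDegree :=
  h j _ (by rw [coeff_natDegree, (T.1 j).2.1.leadingCoeff]; exact one_ne_zero)

theorem inv_count {n m : ℕ} (hn : 1 ≤ n) (hm : 1 ≤ m) (hmn : m ∣ n) [DecidablePred (Inv (F := F) (n := n) (k := n) m)] :
    ∑ T ∈ (Finset.univ : Finset (S F n n)).filter (Inv m), eT T ≤
      min (Fintype.card F - 1) (n / m) * cnt (Fintype.card F) n (n / m) := by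
  classical
  obtain ⟨r, rfl⟩ := hmn
  rw [Nat.mul_div_cancel_left _ hm]
  have hexp : ∀ T : S F (m * r) (m * r), Inv m T → ∀ j, expand F m (contract m (T.1 j).1) = (T.1 j).1 := by
    intro T hT j
    ext i
    rw [coeff_expand hm]
    split_ifs with h
    · rw [coeff_contract (by omega), Nat.div_mul_cancel h]
    · by_contra h'
      exact h (hT j i (Ne.symm h'))
  have hdeg : ∀ T : S F (m * r) (m * r), Inv m T → ∀ j,
      (T.1 j).1.natDegree = (contract m (T.1 j).1).natDegree * m := by
    intro T hT j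
    conv_lhs => rw [← hexp T hT j]
    rw [natDegree_expand]
  have hwt : ∀ T : S F (m * r) (m * r), Inv m T →
      ∑ j : Fin (m * r), ((j : ℕ) + 1) * (contract m (T.1 j).1).natDegree = r := by
    intro T hT
    apply Nat.eq_of_mul_eq_mul_left hm
    refine Eq.trans ?_ T.2
    rw [Finset.mul_sum]
    exact Finset.sum_congr rfl fun j _ => by rw [hdeg T hT j]; ring
  have hb : ∀ T ∈ (Finset.univ : Finset (S F (m * r) (m * r))).filter (Inv m),
      eT T ≤ min (Fintype.card F - 1) r := by
    intro T hT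
    have hT' := (Finset.mem_filter.1 hT).2
    refine le_min (Nat.le_of_dvd (by have := Fintype.one_lt_card (α := F); omega) (eD_dvd_left _ _)) ?_
    rcases Nat.eq_zero_or_pos r with rfl | hr
    · simp at hn
    · refine Nat.le_of_dvd hr ?_
      have h := eD_dvd_sum (Fintype.card F) (dg T) (fun j => (contract m (T.1 j).1).natDegree) fun j hj => by
        have h1 := hdeg T hT' j
        have h0 : (T.1 j).1.natDegree = 0 := hj
        rw [h0] at h1
        rcases Nat.mul_eq_zero.1 h1.symm with h | h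
        · exact h
        · omega
      rwa [hwt T hT'] at h
  refine (Finset.sum_le_card_nsmul _ _ _ hb).trans ?_
  rw [smul_eq_mul, mul_comm, ← (card_S (F := F) (m * r) r).1, Nat.card_eq_fintype_card]
  refine Nat.mul_le_mul_left _ ?_
  rw [← Fintype.card_coe]
  refine Fintype.card_le_of_injective (fun T => (⟨fun j => ⟨contract m (T.1.1 j).1, ?_, ?_⟩,
    hwt T.1 (Finset.mem_filter.1 T.2).2⟩ : S F (m * r) r)) ?_
  · have h := (T.1.1 j).2.1
    rw [← hexp T.1 (Finset.mem_filter.1 T.2).2 j] at h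
    exact (monic_expand_iff hm).1 h
  · rw [coeff_contract (by omega), zero_mul]
    exact (T.1.1 j).2.2
  · intro T T' h
    refine Subtype.ext (Subtype.ext (funext fun j => Subtype.ext ?_))
    have h' := congrArg Subtype.val (congrFun (congrArg Subtype.val h) j)
    rw [← hexp T.1 (Finset.mem_filter.1 T.2).2 j, ← hexp T'.1 (Finset.mem_filter.1 T'.2).2 j]
    exact congrArg _ h'

theorem inv_top {n : ℕ} (hn : 1 ≤ n) {T T' : S F n n} (hT : Inv n T) (hT' : Inv n T')
    (hd : DT T = 1) (hd' : DT T' = 1) : T = T' ∧ eT T = 1 := by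
  classical
  have hshape : ∀ T : S F n n, Inv n T → (∀ j : Fin n, j ≠ ⟨0, hn⟩ → T.1 j = ⟨1, monic_one, by simp⟩) ∧
      (T.1 ⟨0, hn⟩).1.natDegree = n := by
    intro T hT
    have hz : ∀ j : Fin n, j ≠ ⟨0, hn⟩ → (T.1 j).1.natDegree = 0 := by
      intro j hj
      obtain ⟨c, hc⟩ := hT.dvd_deg j
      have hj1 : 1 ≤ (j : ℕ) := Nat.pos_of_ne_zero fun h => hj (Fin.ext h)
      have h1 := Finset.single_le_sum (f := fun i : Fin n => ((i : ℕ) + 1) * (T.1 i).1.natDegree)
        (fun i _ => Nat.zero_le _) (Finset.mem_univ j)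
      rw [T.2, hc] at h1
      rcases Nat.eq_zero_or_pos c with rfl | hc0
      · simpa using hc
      · exfalso
        have : 2 * (n * 1) ≤ ((j : ℕ) + 1) * (n * c) := Nat.mul_le_mul (by omega) (Nat.mul_le_mul_left _ hc0)
        omega
    refine ⟨fun j hj => Subtype.ext (eq_one_of_monic_natDegree_zero (T.1 j).2.1 (hz j hj)), ?_⟩
    have h := T.2
    rw [Finset.sum_eq_single (⟨0, hn⟩ : Fin n) (fun i _ hi => by rw [hz i hi, mul_zero]) (by simp)] at h
    simpa using h
  obtain ⟨h1, h2⟩ := hshape T hT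
  obtain ⟨h1', h2'⟩ := hshape T' hT'
  have hc : ∀ T : S F n n, Inv n T → DT T = 1 → (T.1 ⟨0, hn⟩).1.coeff 0 = (-1) ^ n := by
    intro T hT hd
    obtain ⟨h1, h2⟩ := hshape T hT
    rw [DT, Finset.prod_eq_single (⟨0, hn⟩ : Fin n) (fun j _ hj => ?_) (by simp), pow_one] at hd
    · have h := congrArg Units.val hd
      simp only [WU, Units.val_mk0, W, h2, Units.val_one] at h
      calc _ = ((-1 : F) ^ n * (-1) ^ n) * (T.1 ⟨0, hn⟩).1.coeff 0 := by rw [← mul_pow]; simp
        _ = _ := by rw [mul_assoc, h, mul_one]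
    · rw [h1 j hj]
      simp [WU, W]
  refine ⟨Subtype.ext (funext fun j => ?_), ?_⟩
  · by_cases hj : j = ⟨0, hn⟩
    · subst hj
      refine Subtype.ext (Polynomial.ext fun i => ?_)
      by_cases hi0 : i = 0
      · rw [hi0, hc T hT hd, hc T' hT' hd']
      · by_cases hin : i = n
        · subst hin
          have a := (T.1 ⟨0, hn⟩).2.1.coeff_natDegree
          have b := (T'.1 ⟨0, hn⟩).2.1.coeff_natDegree
          rw [h2] at a; rw [h2'] at b
          rw [a, b]
        · have hz : ∀ T : S F n n, Inv n T → (T.1 ⟨0, hn⟩).1.natDegree = n → (T.1 ⟨0, hn⟩).1.coeff i = 0 := by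
            intro T hT h2
            by_contra h
            obtain ⟨c, hc⟩ := hT _ i h
            have := le_natDegree_of_ne_zero h
            rw [h2, hc] at this
            rcases Nat.eq_zero_or_pos c with rfl | hc0
            · simp at hc; exact hi0 hc
            · have := Nat.le_mul_of_pos_right n hc0
              omega
          rw [hz T hT h2, hz T' hT' h2']
    · rw [h1 j hj, h1' j hj]
  · refine Nat.dvd_one.1 (eD_dvd (Fintype.card F) (dg T) (j := ⟨0, hn⟩) ?_)
    show (T.1 ⟨0, hn⟩).1.natDegree ≠ 0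
    omega

end Cfsg.Agent.ClassNum
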