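import Cfsg.Agent.Lib.ClassNum.Det

/-!
Consequences of elementary divisor data: determinants, commuting elements, kernel dimensions.
-/

set_option autoImplicit false
set_option linter.unusedSectionVars false

namespace Cfsg.Agent.ClassNum

open Polynomial S2478

universe u

variable {F : Type u} [Field F]

/-- The sign-normalised constant term. -/
noncomputable def W (f : F[X]) : F := (-1) ^ f.natDegree * f.coeff 0

theorem quot_finite {P : F[X]} (hP : P.Monic) : Module.Finite F (F[X] ⧸ F[X] ∙ P) :=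
  Module.Finite.of_basis (AdjoinRoot.powerBasis hP.ne_zero).basis

theorem quot_finrank {P : F[X]} (hP : P.Monic) : Module.finrank F (F[X] ⧸ F[X] ∙ P) = P.natDegree := by
  show Module.finrank F (AdjoinRoot P) = _
  rw [PowerBasis.finrank (AdjoinRoot.powerBasis hP.ne_zero), AdjoinRoot.powerBasis_dim]

/-- Kernel dimension of a power of an irreducible polynomial on a cyclic primary module. -/
theorem finrank_ker_mulQ {p : F[X]} (hp : Irreducible p) (hm : p.Monic) (k e : ℕ) :
    Module.finrank F (LinearMap.ker (mulQ (p ^ e) (p ^ k))) = p.natDegree * min k e := by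
  haveI := quot_finite (hm.pow e)
  rcases le_total e k with h | h
  · rw [min_eq_right h]
    have h0 : mulQ (p ^ e) (p ^ k) = 0 := LinearMap.ext fun x => by
      obtain ⟨a, rfl⟩ := Submodule.Quotient.mk_surjective _ x
      show Submodule.Quotient.mk (p ^ k • a) = 0
      rw [Submodule.Quotient.mk_eq_zero, Submodule.mem_span_singleton]
      refine ⟨p ^ (k - e) * a, ?_⟩
      rw [smul_eq_mul, smul_eq_mul, show p ^ k = p ^ e * p ^ (k - e) by rw [← pow_add, Nat.add_sub_cancel' h]]
      ring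
    rw [h0, LinearMap.ker_zero, finrank_top, quot_finrank (hm.pow e), natDegree_pow, mul_comm]
  · rw [min_eq_left h]
    haveI := quot_finite (hm.pow k)
    let φ : (F[X] ⧸ F[X] ∙ p ^ k) →ₗ[F[X]] (F[X] ⧸ F[X] ∙ p ^ e) :=
      Submodule.mapQ _ _ (LinearMap.lsmul F[X] F[X] (p ^ (e - k))) (by
        rw [Submodule.span_le, Set.singleton_subset_iff]
        show p ^ (e - k) • p ^ k ∈ F[X] ∙ p ^ e
        rw [smul_eq_mul, ← pow_add, Nat.sub_add_cancel h]
        exact Submodule.mem_span_singleton_self _)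
    have hmem : ∀ (j : ℕ) (a : F[X]), Submodule.Quotient.mk a = (0 : F[X] ⧸ F[X] ∙ p ^ j) ↔ p ^ j ∣ a := fun j a => by
      rw [Submodule.Quotient.mk_eq_zero, Ideal.submodule_span_eq, Ideal.mem_span_singleton]
    have hinj : Function.Injective (φ.restrictScalars F) := by
      refine (injective_iff_map_eq_zero _).2 fun x hx => ?_
      obtain ⟨a, rfl⟩ := Submodule.Quotient.mk_surjective _ x
      rw [hmem k]
      have hx' : Submodule.Quotient.mk (p ^ (e - k) • a) = (0 : F[X] ⧸ F[X] ∙ p ^ e) := hx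
      rw [hmem e, smul_eq_mul, show p ^ e = p ^ (e - k) * p ^ k by rw [← pow_add, Nat.sub_add_cancel h]] at hx'
      exact (mul_dvd_mul_iff_left (pow_ne_zero _ hp.ne_zero)).1 hx'
    have hrange : LinearMap.range (φ.restrictScalars F) = LinearMap.ker (mulQ (p ^ e) (p ^ k)) := by
      ext x
      obtain ⟨a, rfl⟩ := Submodule.Quotient.mk_surjective _ x
      have hker : Submodule.Quotient.mk a ∈ LinearMap.ker (mulQ (p ^ e) (p ^ k)) ↔ p ^ (e - k) ∣ a := by
        show Submodule.Quotient.mk (p ^ k • a) = (0 : F[X] ⧸ F[X] ∙ p ^ e) ↔ _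
        rw [hmem e, smul_eq_mul, show p ^ e = p ^ k * p ^ (e - k) by rw [← pow_add, Nat.add_sub_cancel' h],
          mul_dvd_mul_iff_left (pow_ne_zero _ hp.ne_zero)]
      rw [hker]
      constructor
      · rintro ⟨y, hy⟩
        obtain ⟨b, rfl⟩ := Submodule.Quotient.mk_surjective _ y
        have hy' : Submodule.Quotient.mk (p ^ (e - k) • b) = (Submodule.Quotient.mk a : F[X] ⧸ F[X] ∙ p ^ e) := hy
        rw [Submodule.Quotient.eq, Ideal.submodule_span_eq, Ideal.mem_span_singleton, smul_eq_mul] at hy'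
        have h1 : p ^ (e - k) ∣ p ^ (e - k) * b - a := (pow_dvd_pow p (Nat.sub_le e k)).trans hy'
        have h2 := dvd_sub (dvd_mul_right (p ^ (e - k)) b) h1
        rwa [sub_sub_cancel] at h2
      · rintro ⟨b, rfl⟩
        exact ⟨Submodule.Quotient.mk b, rfl⟩
    rw [← hrange, LinearMap.finrank_range_of_inj hinj, quot_finrank (hm.pow k), natDegree_pow, mul_comm]

theorem ker_mulQ_of_ne {p q : F[X]} (hp : Irreducible p) (hpm : p.Monic) (hq : Irreducible q) (hqm : q.Monic)
    (hne : p ≠ q) (k e : ℕ) : LinearMap.ker (mulQ (p ^ e) (q ^ k)) = ⊥ := by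
  have hco : IsCoprime (p ^ e) (q ^ k) := by
    refine IsCoprime.pow ((hp.coprime_iff_not_dvd).2 fun h => hne ?_)
    exact eq_of_monic_of_associated hpm hqm (hp.associated_of_dvd hq h)
  rw [Submodule.eq_bot_iff]
  intro x hx
  obtain ⟨a, rfl⟩ := Submodule.Quotient.mk_surjective _ x
  have hx' : Submodule.Quotient.mk (q ^ k • a) = (0 : F[X] ⧸ F[X] ∙ p ^ e) := hx
  rw [Submodule.Quotient.mk_eq_zero, Ideal.submodule_span_eq, Ideal.mem_span_singleton, smul_eq_mul] at hx'
  rw [Submodule.Quotient.mk_eq_zero, Ideal.submodule_span_eq, Ideal.mem_span_singleton]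
  exact hco.dvd_of_dvd_mul_left hx'

/-- Componentwise multiplication. -/
noncomputable def diagMul {ι : Type u} (p : ι → F[X]) (e : ι → ℕ) (v : ι → F[X]) :
    ((i : ι) → F[X] ⧸ F[X] ∙ p i ^ e i) →ₗ[F] ((i : ι) → F[X] ⧸ F[X] ∙ p i ^ e i) :=
  LinearMap.pi fun i => (mulQ (p i ^ e i) (v i)).comp (LinearMap.proj i)

section data

variable {n : ℕ} {A : Matrix (Fin n) (Fin n) F} {ι : Type u} [Fintype ι] {p : ι → F[X]} {e : ι → ℕ}
  (Φ : Module.AEval' (Matrix.toLin' A) ≃ₗ[F[X]] ((i : ι) → F[X] ⧸ F[X] ∙ p i ^ e i))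
include Φ

/-- The linear identification with the product of cyclic modules. -/
noncomputable def coord : (Fin n → F) ≃ₗ[F] ((i : ι) → F[X] ⧸ F[X] ∙ p i ^ e i) :=
  (Module.AEval'.of (Matrix.toLin' A)).trans (Φ.restrictScalars F)

/-- The transported endomorphism. -/
noncomputable def conjMul (v : ι → F[X]) : Module.End F (Fin n → F) :=
  (coord Φ).symm.toLinearMap ∘ₗ diagMul p e v ∘ₗ (coord Φ).toLinearMap

theorem aeval_toLin' (g : F[X]) : aeval (Matrix.toLin' A) g = conjMul Φ fun _ => g := by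
  refine LinearMap.ext fun x => ?_
  show _ = (coord Φ).symm (fun i => g • Φ (Module.AEval'.of _ x) i)
  rw [LinearEquiv.eq_symm_apply]
  show Φ (Module.AEval'.of _ (aeval (Matrix.toLin' A) g x)) = g • Φ (Module.AEval'.of _ x)
  rw [← map_smul]
  exact congrArg Φ (Module.AEval.of_aeval_smul (Matrix.toLin' A) g x)

theorem conjMul_commute (v : ι → F[X]) : Commute (conjMul Φ v) (Matrix.toLin' A) := by
  have hX : Matrix.toLin' A = conjMul Φ fun _ => X := by rw [← aeval_toLin' Φ, aeval_X]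
  rw [hX]
  refine LinearMap.ext fun x => ?_
  simp only [conjMul, Module.End.mul_apply, LinearMap.comp_apply, LinearEquiv.coe_coe,
    LinearEquiv.apply_symm_apply]
  congr 1
  funext i
  exact smul_comm (v i) (X : F[X]) _

variable (hp : ∀ i, Irreducible (p i) ∧ (p i).Monic ∧ 1 ≤ e i)
include hp

theorem det_conjMul (v : ι → F[X]) :
    LinearMap.det (conjMul Φ v) = ∏ i, LinearMap.det (mulQ (p i ^ e i) (v i)) := by
  haveI : ∀ i, Module.Finite F (F[X] ⧸ F[X] ∙ p i ^ e i) := fun i => quot_finite ((hp i).2.1.pow _)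
  have h := LinearMap.det_conj (diagMul p e v) (coord Φ).symm
  rw [LinearEquiv.symm_symm] at h
  exact h.trans (det_piDep _ _)

theorem det_eq_prod : A.det = ∏ i, W (p i) ^ e i := by
  rw [← LinearMap.det_toLin', show Matrix.toLin' A = conjMul Φ fun _ => X by rw [← aeval_toLin' Φ, aeval_X],
    det_conjMul Φ hp]
  exact Finset.prod_congr rfl fun i _ => by rw [det_mulQ_pow (hp i).2.1, det_mulQ_X (hp i).2.1, W]

theorem exists_commute_det_pow [Finite F] (i₀ : ι) (y : F) :
    ∃ C : Module.End F (Fin n → F), Commute C (Matrix.toLin' A) ∧ LinearMap.det C = y ^ e i₀ := by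
  classical
  obtain ⟨v, hv⟩ := exists_det_mulQ_pow (hp i₀).1 (hp i₀).2.1 (e i₀) y
  refine ⟨conjMul Φ (Function.update (fun _ => 1) i₀ v), conjMul_commute Φ _, ?_⟩
  rw [det_conjMul Φ hp, Finset.prod_eq_single i₀]
  · rw [Function.update_self, hv]
  · intro i _ hi
    rw [Function.update_of_ne hi]
    have : mulQ (p i ^ e i) 1 = LinearMap.id := LinearMap.ext fun x => one_smul F[X] x
    rw [this, LinearMap.det_id]
  · simp

theorem finrank_ker_aeval (q : F[X]) (hq : Irreducible q) (hqm : q.Monic) (k : ℕ) [DecidableEq F[X]] :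
    Module.finrank F (LinearMap.ker (aeval (Matrix.toLin' A) (q ^ k))) =
      ∑ i, if p i = q then q.natDegree * min k (e i) else 0 := by
  haveI : ∀ i, Module.Finite F (F[X] ⧸ F[X] ∙ p i ^ e i) := fun i => quot_finite ((hp i).2.1.pow _)
  have h1 : (LinearMap.ker (aeval (Matrix.toLin' A) (q ^ k))).map (coord Φ).toLinearMap =
      LinearMap.ker (diagMul p e fun _ => q ^ k) := by
    rw [aeval_toLin' Φ, Submodule.map_equiv_eq_comap_symm]
    ext x
    simp [conjMul]
  rw [← LinearEquiv.finrank_map_eq (coord Φ), h1]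
  haveI : ∀ i, Module.Free F (LinearMap.ker (mulQ (p i ^ e i) (q ^ k))) := fun i => Module.Free.of_divisionRing F _
  let E : LinearMap.ker (diagMul p e fun _ => q ^ k) ≃ₗ[F]
      ((i : ι) → LinearMap.ker (mulQ (p i ^ e i) (q ^ k))) :=
    { toFun := fun x i => ⟨x.1 i, congrFun (x.2 : diagMul p e (fun _ => q ^ k) x.1 = 0) i⟩
      map_add' := fun _ _ => rfl
      map_smul' := fun _ _ => rfl
      invFun := fun y => ⟨fun i => (y i).1, funext fun i => (y i).2⟩
      left_inv := fun _ => rfl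
      right_inv := fun _ => rfl }
  rw [E.finrank_eq, Module.finrank_pi_fintype]
  refine Finset.sum_congr rfl fun i _ => ?_
  split_ifs with h
  · rw [h, finrank_ker_mulQ hq hqm]
  · rw [ker_mulQ_of_ne (hp i).1 (hp i).2.1 hq hqm h, finrank_bot]

end data

theorem det_of_data {n : ℕ} {A : Matrix (Fin n) (Fin n) F} {s : Multiset (F[X] × ℕ)} (h : IsData A s) :
    A.det = (s.map fun x => W x.1 ^ x.2).prod := by
  obtain ⟨ι, _, p, e, ⟨Φ⟩, hp, rfl⟩ := h
  rw [det_eq_prod Φ hp, Multiset.map_map, ← Finset.prod_eq_multiset_prod]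
  rfl

theorem commute_of_data [Finite F] {n : ℕ} {A : Matrix (Fin n) (Fin n) F} {s : Multiset (F[X] × ℕ)}
    (h : IsData A s) {x : F[X] × ℕ} (hx : x ∈ s) (y : F) :
    ∃ C : Matrix (Fin n) (Fin n) F, Commute C A ∧ C.det = y ^ x.2 := by
  obtain ⟨ι, _, p, e, ⟨Φ⟩, hp, rfl⟩ := h
  obtain ⟨i, -, rfl⟩ := Multiset.mem_map.1 hx
  obtain ⟨C, hC, hd⟩ := exists_commute_det_pow Φ hp i y
  refine ⟨LinearMap.toMatrix' C, ?_, by rw [LinearMap.det_toMatrix']; exact hd⟩
  have h := congrArg LinearMap.toMatrix' hC.eq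
  rw [LinearMap.toMatrix'_mul, LinearMap.toMatrix'_mul, LinearMap.toMatrix'_toLin'] at h
  exact h

theorem finrank_ker_of_data [DecidableEq F[X]] {n : ℕ} {A : Matrix (Fin n) (Fin n) F}
    {s : Multiset (F[X] × ℕ)} (h : IsData A s) (q : F[X]) (hq : Irreducible q) (hqm : q.Monic) (k : ℕ) :
    Module.finrank F (LinearMap.ker (aeval (Matrix.toLin' A) (q ^ k))) =
      (s.map fun x => if x.1 = q then q.natDegree * min k x.2 else 0).sum := by
  obtain ⟨ι, _, p, e, ⟨Φ⟩, hp, rfl⟩ := h
  rw [finrank_ker_aeval Φ hp q hq hqm k, Multiset.map_map, ← Finset.sum_eq_multiset_sum]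
  rfl

end Cfsg.Agent.ClassNum
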