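import Cfsg.Agent.S2478

/-!
Determinants of module endomorphisms attached to elementary divisors.
-/

set_option autoImplicit false
set_option linter.unusedSectionVars false

namespace Cfsg.Agent.ClassNum

open Polynomial

universe u v w

variable {F : Type u} [Field F]

/-- Determinant of a dependent product of endomorphisms. -/
theorem det_piDep {ι : Type v} [Fintype ι] (M : ι → Type w) [∀ i, AddCommGroup (M i)] [∀ i, Module F (M i)]
    [∀ i, FiniteDimensional F (M i)] (f : ∀ i, M i →ₗ[F] M i) :
    LinearMap.det (LinearMap.pi fun i => (f i).comp (LinearMap.proj i)) = ∏ i, LinearMap.det (f i) := by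
  classical
  letI : LinearOrder ι := LinearOrder.lift' (Fintype.equivFin ι) (Fintype.equivFin ι).injective
  let b := fun i => Module.finBasis F (M i)
  let B := Pi.basis b
  rw [← LinearMap.det_toMatrix B]
  simp only [← LinearMap.det_toMatrix (b _)]
  have h : LinearMap.toMatrix B B (LinearMap.pi fun i => (f i).comp (LinearMap.proj i)) =
      Matrix.blockDiagonal' fun i => LinearMap.toMatrix (b i) (b i) (f i) := by
    ext ⟨i₁, i₂⟩ ⟨j₁, j₂⟩
    simp only [B, LinearMap.toMatrix_apply, Pi.basis_apply, Pi.basis_repr, LinearMap.pi_apply,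
      LinearMap.coe_comp, Function.comp_apply, LinearMap.coe_proj, Function.eval]
    by_cases hij : i₁ = j₁
    · subst hij
      rw [Pi.single_eq_same, Matrix.blockDiagonal'_apply_eq, LinearMap.toMatrix_apply]
    · rw [Pi.single_eq_of_ne hij, map_zero, map_zero, Finsupp.coe_zero, Pi.zero_apply,
        Matrix.blockDiagonal'_apply_ne _ _ _ hij]
  rw [h, (Matrix.blockTriangular_blockDiagonal' _).det_fintype]
  refine Finset.prod_congr rfl fun i _ => ?_
  let e : {x : (j : ι) × Fin (Module.finrank F (M j)) // x.1 = i} ≃ Fin (Module.finrank F (M i)) :=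
    { toFun := fun x => x.2 ▸ x.1.2
      invFun := fun a => ⟨⟨i, a⟩, rfl⟩
      left_inv := fun ⟨⟨j, a⟩, hj⟩ => by
        change j = i at hj
        subst hj
        rfl
      right_inv := fun a => rfl }
  rw [← Matrix.det_reindex_self e]
  congr 1
  ext a c
  show Matrix.blockDiagonal' (fun i => LinearMap.toMatrix (b i) (b i) (f i)) ⟨i, a⟩ ⟨i, c⟩ = _
  rw [Matrix.blockDiagonal'_apply_eq]

/-- The value of the determinant of `v(M)` in terms of the characteristic polynomial. -/
noncomputable def detVal {L : Type*} [Field L] (v P : L[X]) : L :=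
  v.leadingCoeff ^ P.natDegree * (v.roots.map fun b => (-1) ^ P.natDegree * P.eval b).prod

theorem detVal_pow {L : Type*} [Field L] (v P : L[X]) (e : ℕ) :
    detVal v (P ^ e) = detVal v P ^ e := by
  rw [detVal, detVal, natDegree_pow, mul_pow, ← pow_mul, mul_comm e, ← Multiset.prod_map_pow]
  congr 2
  exact Multiset.map_congr rfl fun b _ => by rw [eval_pow, mul_pow, ← pow_mul]

theorem det_aeval_eq {L : Type*} [Field L] [IsAlgClosed L] {N : ℕ} (M : Matrix (Fin N) (Fin N) L) (v : L[X]) :
    (aeval M v).det = detVal v M.charpoly := by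
  classical
  have hN : M.charpoly.natDegree = N := by rw [Matrix.charpoly_natDegree_eq_dim, Fintype.card_fin]
  have h := (IsAlgClosed.splits v).eq_prod_roots
  have key : ∀ s : Multiset L, (aeval M (s.map fun b => X - C b).prod).det =
      (s.map fun b => (-1) ^ N * M.charpoly.eval b).prod := by
    intro s
    induction s using Multiset.induction with
    | empty => simp
    | cons a s ih =>
      rw [Multiset.map_cons, Multiset.prod_cons, map_mul, Matrix.det_mul, ih, Multiset.map_cons,
        Multiset.prod_cons]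
      congr 1
      rw [Matrix.eval_charpoly, map_sub, aeval_X, aeval_C, ← neg_sub, Matrix.det_neg, Fintype.card_fin]
      rfl
  conv_lhs => rw [h]
  rw [detVal, hN, map_mul, Matrix.det_mul, aeval_C, key, Algebra.algebraMap_eq_smul_one, Matrix.det_smul,
    Matrix.det_one, mul_one, Fintype.card_fin]

/-- Multiplication by `v` on `F[X]/(P)`. -/
noncomputable def mulQ (P v : F[X]) : (F[X] ⧸ F[X] ∙ P) →ₗ[F] (F[X] ⧸ F[X] ∙ P) :=
  (LinearMap.lsmul F[X] (F[X] ⧸ F[X] ∙ P) v).restrictScalars F

theorem det_mulQ_eq_norm {P : F[X]} (v : F[X]) :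
    LinearMap.det (mulQ P v) = Algebra.norm F (AdjoinRoot.mk P v) := by
  rw [Algebra.norm_apply]
  refine congrArg LinearMap.det (LinearMap.ext fun x => ?_)
  obtain ⟨a, rfl⟩ := Submodule.Quotient.mk_surjective _ x
  show Submodule.Quotient.mk (v • a) = AdjoinRoot.mk P v * AdjoinRoot.mk P a
  rw [← map_mul]
  rfl

theorem map_det_mulQ {P : F[X]} (hP : P.Monic) (v : F[X]) :
    algebraMap F (AlgebraicClosure F) (LinearMap.det (mulQ P v)) =
      detVal (v.map (algebraMap F (AlgebraicClosure F))) (P.map (algebraMap F (AlgebraicClosure F))) := by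
  classical
  let pb := AdjoinRoot.powerBasis hP.ne_zero
  have hM : Algebra.leftMulMatrix pb.basis (AdjoinRoot.mk P v) =
      aeval (Algebra.leftMulMatrix pb.basis pb.gen) v := by
    rw [aeval_algHom_apply]
    congr 1
    rw [AdjoinRoot.powerBasis_gen, AdjoinRoot.aeval_eq]
  have hc : (Algebra.leftMulMatrix pb.basis pb.gen).charpoly = P := by
    rw [charpoly_leftMulMatrix, AdjoinRoot.minpoly_powerBasis_gen_of_monic hP]
  rw [det_mulQ_eq_norm, Algebra.norm_eq_matrix_det pb.basis, hM, RingHom.map_det]
  have h2 : (algebraMap F (AlgebraicClosure F)).mapMatrix (aeval (Algebra.leftMulMatrix pb.basis pb.gen) v) =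
      aeval ((Algebra.leftMulMatrix pb.basis pb.gen).map (algebraMap F (AlgebraicClosure F)))
        (v.map (algebraMap F (AlgebraicClosure F))) := by
    rw [aeval_map_algebraMap]
    exact (aeval_algHom_apply (Algebra.ofId F (AlgebraicClosure F)).mapMatrix _ v).symm
  rw [h2, det_aeval_eq]
  congr 1
  conv_rhs => rw [← hc]
  exact Matrix.charpoly_map _ _

theorem det_mulQ_pow {p : F[X]} (hp : p.Monic) (e : ℕ) (v : F[X]) :
    LinearMap.det (mulQ (p ^ e) v) = LinearMap.det (mulQ p v) ^ e := by
  apply (algebraMap F (AlgebraicClosure F)).injective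
  rw [map_pow, map_det_mulQ (hp.pow e), map_det_mulQ hp, Polynomial.map_pow, detVal_pow]

theorem det_mulQ_X {p : F[X]} (hp : p.Monic) :
    LinearMap.det (mulQ p X) = (-1) ^ p.natDegree * p.coeff 0 := by
  classical
  apply (algebraMap F (AlgebraicClosure F)).injective
  rw [map_det_mulQ hp, detVal, Polynomial.map_X, monic_X.leadingCoeff, one_pow, one_mul, roots_X,
    Multiset.map_singleton, Multiset.prod_singleton, natDegree_map, ← coeff_zero_eq_eval_zero, coeff_map,
    map_mul, map_pow, map_neg, map_one]

theorem exists_det_mulQ_pow [Finite F] {p : F[X]} (hp : Irreducible p) (hm : p.Monic) (e : ℕ) (y : F) :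
    ∃ v : F[X], LinearMap.det (mulQ (p ^ e) v) = y ^ e := by
  haveI := Fact.mk hp
  haveI : Module.Finite F (AdjoinRoot p) := Module.Finite.of_basis (AdjoinRoot.powerBasis hm.ne_zero).basis
  haveI : Finite (AdjoinRoot p) := Module.finite_of_finite F
  obtain ⟨z, hz⟩ := FiniteField.norm_surjective F (AdjoinRoot p) y
  obtain ⟨v, rfl⟩ := AdjoinRoot.mk_surjective z
  exact ⟨v, by rw [det_mulQ_pow hm, det_mulQ_eq_norm, hz]⟩

end Cfsg.Agent.ClassNum
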