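import Mathlib

/-!
Conjugacy classes of the kernel of a surjective sign character.
-/

set_option autoImplicit false

namespace Cfsg.Agent.ClassNum

variable {G : Type*} [Group G] [Finite G] (χ : G →* ℤˣ)

/-- The classes outside the kernel. -/
abbrev OutCl : Type _ := {C : ConjClasses G // ∀ a, ConjClasses.mk a = C → χ a ≠ 1}

/-- The classes which split in the kernel. -/
abbrev SplitCl : Type _ :=
  {C : ConjClasses G // ∀ a, ConjClasses.mk a = C → χ a = 1 ∧ ∀ z, Commute z a → χ z = 1}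

omit [Finite G] in
theorem chi_conj {a b : G} (h : IsConj a b) : χ b = χ a := by
  obtain ⟨c, rfl⟩ := isConj_iff.1 h
  rw [map_mul, map_mul, map_inv, mul_comm (χ c) (χ a), mul_inv_cancel_right]

omit [Finite G] in
theorem out_iff (a : G) : (∀ b, ConjClasses.mk b = ConjClasses.mk a → χ b ≠ 1) ↔ χ a ≠ 1 :=
  ⟨fun h => h a rfl, fun h b hb => by rwa [chi_conj χ (ConjClasses.mk_eq_mk_iff_isConj.1 hb.symm)]⟩

/-- Pairs of commuting elements the first of which lies outside the kernel. -/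
theorem card_out_pairs :
    Nat.card {p : G × G // Commute p.1 p.2 ∧ χ p.1 ≠ 1} = Nat.card (OutCl χ) * Nat.card G := by
  choose r hr using fun C : ConjClasses G => ConjClasses.exists_rep C
  choose g hg using fun x : G => isConj_iff.1 (ConjClasses.mk_eq_mk_iff_isConj.1 (hr (ConjClasses.mk x)))
  rw [← Nat.card_prod]
  refine Nat.card_eq_of_bijective
    (fun p => (⟨ConjClasses.mk p.1.1, (out_iff χ _).2 p.2.2⟩, p.1.2 * g p.1.1)) ⟨?_, ?_⟩
  · rintro ⟨⟨x, y⟩, hxy, hx⟩ ⟨⟨x', y'⟩, hxy', hx'⟩ h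
    simp only [Prod.mk.injEq, Subtype.mk.injEq] at h
    obtain ⟨hC, hy⟩ := h
    have h1 : (y * g x) * r (ConjClasses.mk x) * (y * g x)⁻¹ = x := by
      rw [mul_inv_rev, show y * g x * r (ConjClasses.mk x) * ((g x)⁻¹ * y⁻¹) =
        y * (g x * r (ConjClasses.mk x) * (g x)⁻¹) * y⁻¹ by group, hg, ← hxy.eq, mul_inv_cancel_right]
    have h2 : (y' * g x') * r (ConjClasses.mk x') * (y' * g x')⁻¹ = x' := by
      rw [mul_inv_rev, show y' * g x' * r (ConjClasses.mk x') * ((g x')⁻¹ * y'⁻¹) =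
        y' * (g x' * r (ConjClasses.mk x') * (g x')⁻¹) * y'⁻¹ by group, hg, ← hxy'.eq, mul_inv_cancel_right]
    rw [hC, hy, h2] at h1
    subst h1
    exact Subtype.ext (Prod.ext rfl (mul_right_cancel hy))
  · rintro ⟨⟨C, hC⟩, u⟩
    have hx : ConjClasses.mk (u * r C * u⁻¹) = C :=
      (ConjClasses.mk_eq_mk_iff_isConj.2 (isConj_iff.2 ⟨u, rfl⟩).symm).trans (hr C)
    have e := hg (u * r C * u⁻¹)
    rw [hx] at e
    have hc : Commute (u * r C * u⁻¹) (u * (g (u * r C * u⁻¹))⁻¹) := by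
      generalize g (u * r C * u⁻¹) = w at e
      show u * r C * u⁻¹ * (u * w⁻¹) = u * w⁻¹ * (u * r C * u⁻¹)
      nth_rewrite 2 [← e]
      group
    refine ⟨⟨(u * r C * u⁻¹, u * (g (u * r C * u⁻¹))⁻¹), hc, hC _ hx⟩, ?_⟩
    simp [hx]

/-- The fundamental identity for a kernel of index two. -/
theorem classes_index_two (hχ : Function.Surjective χ) :
    Nat.card (ConjClasses χ.ker) + 3 * Nat.card (OutCl χ) = 2 * Nat.card (ConjClasses G) := by
  classical
  set A := Nat.card {p : G × G // Commute p.1 p.2 ∧ χ p.1 = 1 ∧ χ p.2 = 1}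
  set B := Nat.card {p : G × G // Commute p.1 p.2 ∧ χ p.1 ≠ 1 ∧ χ p.2 = 1}
  set C := Nat.card {p : G × G // Commute p.1 p.2 ∧ χ p.1 = 1 ∧ χ p.2 ≠ 1}
  set D := Nat.card {p : G × G // Commute p.1 p.2 ∧ χ p.1 ≠ 1 ∧ χ p.2 ≠ 1}
  have split : ∀ P Q : G × G → Prop, Nat.card {p // P p} =
      Nat.card {p // P p ∧ Q p} + Nat.card {p // P p ∧ ¬ Q p} := by
    intro P Q
    rw [← Nat.card_congr (Equiv.sumCompl fun p : {p // P p} => Q p.1), Nat.card_sum,
      Nat.card_congr (Equiv.subtypeSubtypeEquivSubtypeInter P Q),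
      Nat.card_congr (Equiv.subtypeSubtypeEquivSubtypeInter P fun p => ¬ Q p)]
  have htot : A + B + C + D = Nat.card (ConjClasses G) * Nat.card G := by
    rw [← card_comm_eq_card_conjClasses_mul_card, split _ (fun p : G × G => χ p.1 = 1),
      split (fun p : G × G => Commute p.1 p.2 ∧ χ p.1 = 1) (fun p => χ p.2 = 1),
      split (fun p : G × G => Commute p.1 p.2 ∧ ¬ χ p.1 = 1) (fun p => χ p.2 = 1)]
    simp only [and_assoc, A, B, C, D, ne_eq]
    omega
  have hA : A = Nat.card (ConjClasses χ.ker) * Nat.card χ.ker := by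
    rw [← card_comm_eq_card_conjClasses_mul_card]
    exact Nat.card_eq_of_bijective
      (fun p => ⟨(⟨p.1.1, p.2.2.1⟩, ⟨p.1.2, p.2.2.2⟩), Subtype.ext p.2.1⟩)
      ⟨fun p p' h => Subtype.ext (Prod.ext (congrArg (fun x => (x.1.1 : G)) h) (congrArg (fun x => (x.1.2 : G)) h)),
        fun x => ⟨⟨(x.1.1, x.1.2), congrArg Subtype.val x.2, x.1.1.2, x.1.2.2⟩, rfl⟩⟩
  have hC : C = B := Nat.card_congr ((Equiv.prodComm G G).subtypeEquiv fun p =>
    ⟨fun h => ⟨h.1.symm, h.2.2, h.2.1⟩, fun h => ⟨h.1.symm, h.2.2, h.2.1⟩⟩)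
  have key : ∀ u v : ℤˣ, u ≠ 1 → ((u * v ≠ 1 ↔ v = 1) ∧ (u⁻¹ * v = 1 ↔ v ≠ 1)) := by
    intro u v hu
    rcases Int.units_eq_one_or v with rfl | rfl <;> simp [(Int.units_eq_one_or u).resolve_left hu]
  have hD : D = B := by
    refine (Nat.card_eq_of_bijective (fun p : {p : G × G // Commute p.1 p.2 ∧ χ p.1 ≠ 1 ∧ χ p.2 = 1} =>
      (⟨(p.1.1, p.1.1 * p.1.2), (Commute.refl _).mul_right p.2.1, p.2.2.1, by
        rw [map_mul]; exact ((key _ _ p.2.2.1).1).2 p.2.2.2⟩ :
        {p : G × G // Commute p.1 p.2 ∧ χ p.1 ≠ 1 ∧ χ p.2 ≠ 1})) ⟨?_, ?_⟩).symm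
    · rintro ⟨⟨x, y⟩, _⟩ ⟨⟨x', y'⟩, _⟩ h
      simp only [Subtype.mk.injEq, Prod.mk.injEq] at h
      obtain ⟨rfl, h⟩ := h
      exact Subtype.ext (Prod.ext rfl (mul_left_cancel h))
    · rintro ⟨⟨x, y⟩, hxy, hx, hy⟩
      refine ⟨⟨(x, x⁻¹ * y), (Commute.refl x).inv_right.mul_right hxy, hx, ?_⟩, by simp⟩
      rw [map_mul, map_inv]
      exact ((key _ _ hx).2).2 hy
  have hout : B + D = Nat.card (OutCl χ) * Nat.card G := by
    rw [← card_out_pairs, split (fun p : G × G => Commute p.1 p.2 ∧ χ p.1 ≠ 1) (fun p => χ p.2 = 1)]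
    simp only [and_assoc, B, D, ne_eq]
  have hidx : Nat.card G = 2 * Nat.card χ.ker := by
    rw [← Subgroup.card_mul_index χ.ker, Subgroup.index_ker, MonoidHom.range_eq_top.2 hχ, Subgroup.card_top,
      Nat.card_eq_fintype_card (α := ℤˣ), mul_comm]
    rfl
  rw [hA, hC, hD] at htot
  rw [hD] at hout
  rw [hidx] at htot hout
  have hpos : 0 < Nat.card χ.ker := Nat.card_pos
  have h2 : (Nat.card (ConjClasses χ.ker) + 3 * Nat.card (OutCl χ)) * Nat.card χ.ker =
      2 * Nat.card (ConjClasses G) * Nat.card χ.ker := by nlinarith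
  exact Nat.eq_of_mul_eq_mul_right hpos h2

/-- Every class is outside the kernel or meets a class of the kernel. -/
theorem classes_le_ker_add_out :
    Nat.card (ConjClasses G) ≤ Nat.card (ConjClasses χ.ker) + Nat.card (OutCl χ) := by
  rw [← Nat.card_sum]
  choose r hr using fun C : ConjClasses G => ConjClasses.exists_rep C
  classical
  refine Nat.card_le_card_of_injective (fun C => if h : χ (r C) = 1 then Sum.inl (ConjClasses.mk ⟨r C, h⟩)
    else Sum.inr ⟨C, fun a ha => by rw [← hr C] at ha; rwa [chi_conj χ (ConjClasses.mk_eq_mk_iff_isConj.1 ha.symm)]⟩)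
    fun C C' h => ?_
  by_cases h1 : χ (r C) = 1 <;> by_cases h2 : χ (r C') = 1
  · simp only [dif_pos h1, dif_pos h2, Sum.inl.injEq, ConjClasses.mk_eq_mk_iff_isConj] at h
    rw [← hr C, ← hr C', ConjClasses.mk_eq_mk_iff_isConj]
    exact χ.ker.subtype.map_isConj h
  · simp [dif_pos h1, dif_neg h2] at h
  · simp [dif_neg h1, dif_pos h2] at h
  · simpa [dif_neg h1, dif_neg h2] using h

/-- A class of the group meets at most two classes of the kernel, and one if it does not split. -/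
theorem ker_add_out_le :
    Nat.card (ConjClasses χ.ker) + Nat.card (OutCl χ) ≤ Nat.card (ConjClasses G) + Nat.card (SplitCl χ) := by
  classical
  choose r hr using fun C : ConjClasses χ.ker => ConjClasses.exists_rep C
  let π : ConjClasses χ.ker → ConjClasses G := fun C => ConjClasses.mk (r C : G)
  let base : ConjClasses G → Option (ConjClasses χ.ker) := fun X =>
    if h : ∃ C, π C = X then some h.choose else none
  have hbase : ∀ C, ∃ D, base (π C) = some D ∧ π D = π C := fun C => by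
    have h : ∃ D, π D = π C := ⟨C, rfl⟩
    exact ⟨h.choose, dif_pos h, h.choose_spec⟩
  have conj_of : ∀ C D, π C = π D → ∀ z, z * (r C : G) * z⁻¹ = r D → χ z = 1 → C = D := by
    intro C D _ z hz hχz
    rw [← hr C, ← hr D, ConjClasses.mk_eq_mk_iff_isConj]
    exact isConj_iff.2 ⟨⟨z, hχz⟩, Subtype.ext hz⟩
  have hsplit : ∀ C, base (π C) ≠ some C → ∀ a, ConjClasses.mk a = π C → χ a = 1 ∧ ∀ z, Commute z a → χ z = 1 := by
    intro C hC a ha
    have hca := ConjClasses.mk_eq_mk_iff_isConj.1 ha.symm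
    refine ⟨by rw [chi_conj χ hca]; exact (r C).2, fun z hz => ?_⟩
    obtain ⟨D, hD, hπ⟩ := hbase C
    obtain ⟨w, hw⟩ := isConj_iff.1 hca
    obtain ⟨u, hu⟩ := isConj_iff.1 (ConjClasses.mk_eq_mk_iff_isConj.1 hπ.symm)
    by_contra hne
    have hne' : χ u ≠ 1 := fun hu1 => hC (by rw [hD, conj_of C D hπ.symm u hu hu1])
    have hfix : (w⁻¹ * z * w) * (r C : G) * (w⁻¹ * z * w)⁻¹ = r C := by
      rw [show (w⁻¹ * z * w) * (r C : G) * (w⁻¹ * z * w)⁻¹ = w⁻¹ * (z * (w * r C * w⁻¹) * z⁻¹) * w by group,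
        hw, hz.eq, mul_inv_cancel_right, ← hw]
      group
    have h1 : (u * (w⁻¹ * z * w)) * (r C : G) * (u * (w⁻¹ * z * w))⁻¹ = r D := by
      rw [show u * (w⁻¹ * z * w) * (r C : G) * (u * (w⁻¹ * z * w))⁻¹ =
        u * ((w⁻¹ * z * w) * r C * (w⁻¹ * z * w)⁻¹) * u⁻¹ by group, hfix, hu]
    have h2 : χ (u * (w⁻¹ * z * w)) = 1 := by
      rw [map_mul, map_mul, map_mul, map_inv, (Int.units_eq_one_or _).resolve_left hne,
        (Int.units_eq_one_or _).resolve_left hne']
      rcases Int.units_eq_one_or (χ w) with hw' | hw' <;> rw [hw'] <;> decide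
    exact hC (by rw [hD, conj_of C D hπ.symm _ h1 h2])
  let f : ConjClasses χ.ker ⊕ OutCl χ → ConjClasses G ⊕ SplitCl χ := Sum.elim
    (fun C => if h : base (π C) = some C then Sum.inl (π C) else Sum.inr ⟨π C, hsplit C h⟩) (fun X => Sum.inl X.1)
  rw [← Nat.card_sum, ← Nat.card_sum]
  refine Nat.card_le_card_of_injective f ?_
  have other : ∀ C D, π C = π D → base (π C) ≠ some C → base (π D) ≠ some D → C = D := by
    intro C D hCD hC hD
    obtain ⟨E, hE, hπ⟩ := hbase C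
    obtain ⟨u, hu⟩ := isConj_iff.1 (ConjClasses.mk_eq_mk_iff_isConj.1 hπ.symm)
    obtain ⟨v, hv⟩ := isConj_iff.1 (ConjClasses.mk_eq_mk_iff_isConj.1 (hπ.trans hCD).symm)
    have hu' : χ u ≠ 1 := fun h => hC (by rw [hE, conj_of C E hπ.symm u hu h])
    have hv' : χ v ≠ 1 := fun h => hD (by rw [← hCD, hE, conj_of D E (hπ.trans hCD).symm v hv h])
    refine conj_of C D hCD (v⁻¹ * u) ?_ ?_
    · rw [show v⁻¹ * u * (r C : G) * (v⁻¹ * u)⁻¹ = v⁻¹ * (u * r C * u⁻¹) * v by group, hu, ← hv]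
      group
    · rw [map_mul, map_inv, (Int.units_eq_one_or _).resolve_left hu', (Int.units_eq_one_or _).resolve_left hv']
      rfl
  rintro (C | X) (D | Y) h <;> simp only [f, Sum.elim_inl, Sum.elim_inr] at h
  · by_cases hC : base (π C) = some C <;> by_cases hD : base (π D) = some D
    · simp only [dif_pos hC, dif_pos hD, Sum.inl.injEq] at h
      rw [h, hD, Option.some.injEq] at hC
      rw [hC]
    · simp [dif_pos hC, dif_neg hD] at h
    · simp [dif_neg hC, dif_pos hD] at h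
    · simp only [dif_neg hC, dif_neg hD, Sum.inr.injEq, Subtype.mk.injEq] at h
      rw [other C D h hC hD]
  · by_cases hC : base (π C) = some C
    · simp only [dif_pos hC, Sum.inl.injEq] at h
      exact absurd (r C).2 (Y.2 _ h)
    · simp [dif_neg hC] at h
  · by_cases hD : base (π D) = some D
    · simp only [dif_pos hD, Sum.inl.injEq] at h
      exact absurd (r D).2 (X.2 _ h.symm)
    · simp [dif_neg hD] at h
  · simp only [Sum.inl.injEq] at h
    rw [Subtype.ext h]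

/-- Bounds for the classes of the kernel. -/
theorem classes_ker_bounds (hχ : Function.Surjective χ) :
    Nat.card (ConjClasses G) ≤ 2 * Nat.card (ConjClasses χ.ker) ∧
      Nat.card (ConjClasses χ.ker) ≤ 2 * Nat.card (ConjClasses G) ∧
      2 * Nat.card (ConjClasses χ.ker) ≤ Nat.card (ConjClasses G) + 3 * Nat.card (SplitCl χ) := by
  have h1 := classes_index_two χ hχ
  have h2 := classes_le_ker_add_out χ
  have h3 := ker_add_out_le χ
  omega

end Cfsg.Agent.ClassNum
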