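import Cfsg.Agent.Lib.Forms.UnipotentSym

/-!
Invariant symmetric forms of a unipotent matrix of given Jordan type: congruence and determinants.
-/

set_option autoImplicit false
set_option linter.unusedSectionVars false

namespace Cfsg.Agent.ClassNum

open scoped Matrix
open Cfsg.Agent.JordanType Cfsg.Agent.S2581 Polynomial
open Cfsg.Agent.UnipotentCentralizer (G_recursion G_vanish_left block isUnit_trans commute_aeval proj_aeval proj_add proj_sub proj_smul colsM colsM_adm proj_colsM)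
open Cfsg.Agent.UnipotentForms (G_vanish block_isUnit block_mul block_transform transform_invariant exists_sqrt_poly)

variable {K : Type*} [Field K] [Fintype K]

omit [Fintype K] in
theorem sym_zero {ι : Type*} {G : Matrix ι ι K} (h : Gᵀ = G) (a b : ι) : G a b = 0 → G b a = 0 :=
  fun h0 => (congrFun (congrFun h a) b).trans h0

/-- Invariant symmetric forms with congruent blocks are congruent under the centraliser. -/
theorem exists_congr_symm_forms (h2 : (2 : K) ≠ 0) {t : ℕ} {d : Fin t → ℕ} (hd : ∀ k, 1 ≤ d k)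
    {G G' : Matrix (Idx d) (Idx d) K}
    (hJ : (1 + (shift K d)ᵀ) * G * (1 + shift K d) = G) (hG : Gᵀ = G) (hu : IsUnit G)
    (hJ' : (1 + (shift K d)ᵀ) * G' * (1 + shift K d) = G') (hG' : G'ᵀ = G') (hu' : IsUnit G')
    (hblocks : ∀ i, ∃ y, yᵀ * block hd G i * y = block hd G' i) :
    ∃ X : Matrix (Idx d) (Idx d) K, Commute (shift K d) X ∧ IsUnit X ∧ Xᵀ * G * X = G' := by
  classical
  haveI : Finite (Matrix (Idx d) (Idx d) K) := inferInstanceAs (Finite (Idx d → Idx d → K))
  choose y hy using hblocks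
  have hyu : ∀ i, IsUnit (y i) := fun i => by
    have h1 := (Matrix.isUnit_iff_isUnit_det _).1 (block_isUnit hd hJ' (sym_zero hG') hu' i)
    rw [← hy, Matrix.det_mul] at h1
    exact (Matrix.isUnit_iff_isUnit_det _).2 (IsUnit.mul_iff.1 h1).2
  set X₀ := ofCols (colsM (0 : Rest d → K) y) with hX₀
  have hX₀c : Commute (shift K d) X₀ := ofCols_commute (colsM_adm _ _)
  have hX₀p : ∀ i, proj hd X₀ i = y i := fun i => proj_colsM hd _ _ i
  have hX₀u : IsUnit X₀ := isUnit_of_proj hd hX₀c fun i => by rw [hX₀p]; exact hyu i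
  set G₁ := X₀ᵀ * G * X₀ with hG₁
  have hJ₁ : (1 + (shift K d)ᵀ) * G₁ * (1 + shift K d) = G₁ := transform_invariant hJ hX₀c
  have hA₁ : G₁ᵀ = G₁ := by
    rw [hG₁, Matrix.transpose_mul, Matrix.transpose_mul, Matrix.transpose_transpose, hG, mul_assoc]
  have hu₁ : IsUnit G₁ := ((Matrix.isUnit_transpose X₀).2 hX₀u |>.mul hu).mul hX₀u
  have hblock : ∀ i, block hd G₁ i = block hd G' i := fun i => by
    rw [hG₁, block_transform hd hJ (sym_zero hG) hu hX₀c, hX₀p, hy]
  have hdet₁ := (Matrix.isUnit_iff_isUnit_det _).1 hu₁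
  set Y := G₁⁻¹ * G' with hY
  have hGY : G₁ * Y = G' := by rw [hY, Matrix.mul_nonsing_inv_cancel_left _ _ hdet₁]
  have hYc : Commute (shift K d) Y := by
    suffices h : Commute (1 + shift K d) Y by simpa using h.sub_left (Commute.one_left _)
    refine ((isUnit_trans hJ₁ hu₁).mul hu₁).mul_left_cancel ?_
    rw [← mul_assoc, hJ₁, hGY, ← mul_assoc, mul_assoc _ G₁ Y, hGY, hJ']
  set s := Y - 1 with hs
  have hsc : Commute (shift K d) s := hYc.sub_right (Commute.one_right _)
  have hs0 : ∀ i, proj hd s i = 0 := fun i => by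
    rw [hs, proj_sub, proj_one hd, sub_eq_zero]
    refine (block_isUnit hd hJ₁ (sym_zero hA₁) hu₁ i).mul_left_cancel ?_
    rw [← block_mul hd hJ₁ (sym_zero hA₁) hYc, hGY, mul_one, hblock]
  have hsA : sᵀ * G₁ = G₁ * s := by
    have h := congrArg Matrix.transpose hGY
    rw [Matrix.transpose_mul, hA₁, hG', ← hGY] at h
    rw [hs, Matrix.transpose_sub, Matrix.transpose_one, sub_mul, one_mul, mul_sub, mul_one, h]
  obtain ⟨a, ha⟩ : ∃ a, s ^ a = 0 := by
    obtain ⟨a, b, hab, he⟩ := Finite.exists_ne_map_eq_of_infinite (fun k : ℕ => s ^ k)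
    wlog hlt : a < b generalizing a b
    · exact this b a hab.symm he.symm (by omega)
    refine ⟨a, ?_⟩
    have hu1 : IsUnit (1 - s ^ (b - a)) := by
      refine isUnit_of_proj hd ((Commute.one_right _).sub_right (hsc.pow_right _)) fun i => ?_
      obtain ⟨k, hk⟩ : ∃ k, b - a = k + 1 := ⟨b - a - 1, by omega⟩
      rw [proj_sub, proj_one hd, hk, pow_succ', proj_mul hd hsc (hsc.pow_right _), hs0, zero_mul, sub_zero]
      exact isUnit_one
    refine hu1.mul_left_eq_zero.1 ?_
    rw [mul_sub, mul_one, ← pow_add, show a + (b - a) = b by omega, ← show s ^ a = s ^ b from he, sub_self]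
  obtain ⟨f, r, hf0, hf⟩ := exists_sqrt_poly (K := K) h2 a
  set x := aeval s f with hx
  have hxA : ∀ g : K[X], (aeval s g)ᵀ * G₁ = G₁ * aeval s g := by
    intro g
    induction g using Polynomial.induction_on' with
    | add g g' hg hg' => rw [map_add, Matrix.transpose_add, add_mul, mul_add, hg, hg']
    | monomial k c =>
      rw [aeval_monomial, ← Algebra.smul_def, Matrix.transpose_smul, Algebra.smul_mul_assoc,
        Algebra.mul_smul_comm]
      congr 1
      induction k with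
      | zero => simp
      | succ k ih => rw [pow_succ, Matrix.transpose_mul, mul_assoc, ih, ← mul_assoc, hsA, mul_assoc,
          (Commute.self_pow s k).eq]
  have hxc : Commute (shift K d) x := commute_aeval hsc f
  have hxu : IsUnit x := isUnit_of_proj hd hxc fun i => by
    rw [hx, proj_aeval hd hsc i (hs0 i), hf0, one_smul]
    exact isUnit_one
  refine ⟨X₀ * x, hX₀c.mul_right hxc, hX₀u.mul hxu, ?_⟩
  rw [Matrix.transpose_mul, show xᵀ * X₀ᵀ * G * (X₀ * x) = xᵀ * G₁ * x by rw [hG₁]; simp only [mul_assoc],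
    hxA, mul_assoc, ← map_mul, hf, map_add, map_add, map_one, aeval_X, map_mul, map_pow, aeval_X, pow_succ, ha,
    zero_mul, zero_mul, add_zero, hs, add_sub_cancel, hGY]


section
variable {t : ℕ} {d : Fin t → ℕ} (hd : ∀ k, 1 ≤ d k) {G : Matrix (Idx d) (Idx d) K}
  (hJ : (1 + (shift K d)ᵀ) * G * (1 + shift K d) = G)

include hJ in
theorem antidiag (hsym : ∀ a b, G a b = 0 → G b a = 0) (k l : Fin t) (hkl : d k = d l) :
    ∀ (s : ℕ) (hs : s < d k),
      G ⟨k, ⟨s, hs⟩⟩ ⟨l, ⟨d k - 1 - s, by omega⟩⟩ =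
        (-1 : K) ^ s * G ⟨k, ⟨0, by omega⟩⟩ ⟨l, ⟨d k - 1, by omega⟩⟩
  | 0, hs => by simp
  | s + 1, hs => by
    have ih := antidiag hsym k l hkl s (by omega)
    have e : (⟨l, ⟨d k - 1 - s, by omega⟩⟩ : Idx d) = ⟨l, ⟨d k - 1 - (s + 1) + 1, by omega⟩⟩ :=
      congrArg (Sigma.mk _) (Fin.ext (by simp only; omega))
    have h := G_recursion hJ (⟨k, ⟨s, by omega⟩⟩ : Idx d) ⟨l, ⟨d k - 1 - (s + 1), by omega⟩⟩
      (by simp only; omega)
    rw [dif_pos (by simp only; omega), G_vanish hJ hsym (⟨k, ⟨s + 1, _⟩⟩ : Idx d) ⟨l, ⟨d k - 1 - (s + 1) + 1, _⟩⟩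
      (Or.inl (by simp only; omega)), add_zero, ← e, ih] at h
    rw [pow_succ, mul_neg, mul_one, neg_mul, eq_comm, neg_eq_iff_eq_neg]
    exact h

include hJ in
theorem block_flip (h2 : (2 : K) ≠ 0) (hG : Gᵀ = G) (i : Fin (Finset.univ.sup d + 1)) :
    (Odd (i : ℕ) → (block hd G i)ᵀ = block hd G i) ∧
    (Even (i : ℕ) → UnipotentForms.Alt (block hd G i)) := by
  have hswap : ∀ a b, G b a = G a b := fun a b => congrFun (congrFun hG a) b
  have key : ∀ k l : KB d i, block hd G i l k = (-1 : K) ^ ((i : ℕ) - 1) * block hd G i k l := by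
    intro k l
    have hkl : d k.1 = d l.1 := k.2.trans l.2.symm
    have hk := k.2
    have hl := l.2
    have hk1 := hd k.1
    have h := antidiag hJ (sym_zero hG) k.1 l.1 hkl (d k.1 - 1) (by omega)
    show G ⟨l.1, ⟨0, hd l.1⟩⟩ ⟨k.1, ⟨d k.1 - 1, _⟩⟩ = _ * G ⟨k.1, ⟨0, hd k.1⟩⟩ ⟨l.1, ⟨d l.1 - 1, _⟩⟩
    rw [hswap]
    have e1 : (⟨l.1, ⟨d k.1 - 1 - (d k.1 - 1), by omega⟩⟩ : Idx d) = ⟨l.1, ⟨0, hd l.1⟩⟩ :=
      congrArg (Sigma.mk _) (Fin.ext (by simp only; omega))
    have e2 : (⟨l.1, ⟨d k.1 - 1, by omega⟩⟩ : Idx d) = ⟨l.1, ⟨d l.1 - 1, by omega⟩⟩ :=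
      congrArg (Sigma.mk _) (Fin.ext (by simp only; omega))
    rw [e1, e2] at h
    rw [h]
    exact congrArg (fun x => (-1 : K) ^ (x - 1) * _) hk
  refine ⟨fun hi => Matrix.ext fun l k => ?_, fun hi => ?_⟩
  · rw [Matrix.transpose_apply, key l k, (Nat.Odd.sub_odd hi odd_one).neg_one_pow, one_mul]
  · rcases Nat.eq_zero_or_pos (i : ℕ) with h0 | h0
    · haveI : IsEmpty (KB d i) := ⟨fun k => by have := hd k.1; have := k.2; omega⟩
      exact ⟨Subsingleton.elim _ _, isEmptyElim⟩
    have hs : (-1 : K) ^ ((i : ℕ) - 1) = -1 := (Nat.Even.sub_odd h0 hi odd_one).neg_one_pow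
    refine ⟨Matrix.ext fun l k => ?_, fun k => ?_⟩
    · rw [Matrix.transpose_apply, key l k, hs, Matrix.neg_apply, neg_one_mul]
    · have e := key k k
      rw [hs, neg_one_mul] at e
      exact (mul_eq_zero.1 (show (2 : K) * block hd G i k k = 0 by linear_combination e)).resolve_left h2

include hd hJ in
theorem even_card_sym (h2 : (2 : K) ≠ 0) (hG : Gᵀ = G) (hu : IsUnit G) {i : ℕ} (hi : Even i) :
    Even (Finset.univ.filter fun k => d k = i).card := by
  classical
  by_cases h : ∃ k, d k = i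
  · obtain ⟨k, hk⟩ := h
    have hle : i ≤ Finset.univ.sup d := hk ▸ Finset.le_sup (Finset.mem_univ k)
    have h := UnipotentForms.even_card_of_even h2 hd hJ hG hu ⟨i, by omega⟩ hi
    rwa [← Fintype.card_subtype]
  · push Not at h
    rw [Finset.filter_false_of_mem fun k _ => h k, Finset.card_empty]
    exact Even.zero

/-- The grading of the indices. -/
def grade (d : Fin t → ℕ) (a : Idx d) : ℤ ×ₗ ℕ := toLex (2 * (a.2 : ℤ) - d a.1, d a.1)

/-- The reversal of the indices. -/
def rev (d : Fin t → ℕ) : Idx d ≃ Idx d := Equiv.sigmaCongrRight fun _ => Fin.revPerm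

include hJ in
theorem det_mul_det (hG : Gᵀ = G) {G' : Matrix (Idx d) (Idx d) K}
    (hJ' : (1 + (shift K d)ᵀ) * G' * (1 + shift K d) = G') (hG' : G'ᵀ = G') (P : ℕ → K)
    (hP : ∀ i : Fin (Finset.univ.sup d + 1), P i = (block hd G i).det * (block hd G' i).det) :
    G.det * G'.det = ∏ x ∈ Finset.univ.image (grade d), P (ofLex x).2 := by
  classical
  have hsign : ((Equiv.Perm.sign (rev d) : ℤ) : K) * ((Equiv.Perm.sign (rev d) : ℤ) : K) = 1 := by
    rw [← Int.cast_mul, ← Units.val_mul, Int.units_mul_self, Units.val_one, Int.cast_one]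
  have hrev : ∀ a : Idx d, rev d a = ⟨a.1, Fin.rev a.2⟩ := fun a => rfl
  have htri : ∀ {G : Matrix (Idx d) (Idx d) K}, (1 + (shift K d)ᵀ) * G * (1 + shift K d) = G → Gᵀ = G →
      Matrix.BlockTriangular (G.submatrix id (rev d)) (grade d) := by
    intro G hJ hG a c hlt
    by_contra hne
    rw [Matrix.submatrix_apply, id, hrev] at hne
    have c1 : ¬ (d a.1 ≤ (a.2 : ℕ) + (Fin.rev c.2 : ℕ) ∨ d c.1 ≤ (a.2 : ℕ) + (Fin.rev c.2 : ℕ)) := fun hc =>
      hne (G_vanish hJ (sym_zero hG) _ _ hc)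
    rw [Fin.val_rev] at c1
    have ha := a.2.2
    have hc := c.2.2
    rw [grade, grade, Prod.Lex.lt_iff] at hlt
    simp only [ofLex_toLex] at hlt
    omega
  have hblock : ∀ {G : Matrix (Idx d) (Idx d) K}, (1 + (shift K d)ᵀ) * G * (1 + shift K d) = G → Gᵀ = G →
      ∀ (a : Idx d) (i : Fin (Finset.univ.sup d + 1)), (i : ℕ) = d a.1 →
        ((G.submatrix id (rev d)).toSquareBlock (grade d) (grade d a)).det =
          ((-1 : K) ^ (a.2 : ℕ)) ^ Fintype.card (KB d i) * (block hd G i).det := by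
    intro G hJ hG a i hi
    have ha := a.2.2
    let e : KB d i → {c : Idx d // grade d c = grade d a} := fun k =>
      ⟨⟨k.1, ⟨a.2, by have := k.2; omega⟩⟩, by
        show toLex ((2 : ℤ) * (a.2 : ℕ) - d k.1, d k.1) = _
        rw [k.2.trans hi]
        rfl⟩
    have he : Function.Bijective e := by
      refine ⟨fun k k' h => Subtype.ext (congrArg (fun x => x.1.1) h), fun c => ?_⟩
      obtain ⟨⟨k, s⟩, hc⟩ := c
      have h := congrArg ofLex hc
      simp only [grade, ofLex_toLex, Prod.mk.injEq] at h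
      exact ⟨⟨k, h.2.trans hi.symm⟩, Subtype.ext (congrArg (Sigma.mk _) (Fin.ext (by simp only; omega)))⟩
    rw [← Matrix.det_smul, ← Matrix.det_submatrix_equiv_self (Equiv.ofBijective e he)]
    congr 1
    ext k l
    have hk := k.2
    have hl := l.2
    show G ⟨k.1, ⟨a.2, _⟩⟩ (rev d ⟨l.1, ⟨a.2, _⟩⟩) = _
    rw [hrev, Matrix.smul_apply, smul_eq_mul]
    have h := antidiag hJ (sym_zero hG) k.1 l.1 (hk.trans hl.symm) a.2 (by omega)
    refine Eq.trans ?_ (h.trans ?_)
    · exact congrArg (G _) (congrArg (Sigma.mk _) (Fin.ext (by rw [Fin.val_rev]; simp only; omega)))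
    · show _ = _ * G ⟨k.1, ⟨0, _⟩⟩ ⟨l.1, ⟨d l.1 - 1, _⟩⟩
      exact congrArg (fun x => _ * G _ x) (congrArg (Sigma.mk _) (Fin.ext (by simp only; omega)))
  have h1 := Matrix.det_permute' (rev d) G
  have h2 := Matrix.det_permute' (rev d) G'
  have e : G.det * G'.det = (G.submatrix id (rev d)).det * (G'.submatrix id (rev d)).det := by
    rw [h1, h2]
    linear_combination (-(G.det * G'.det)) * hsign
  rw [e, (htri hJ hG).det, (htri hJ' hG').det, ← Finset.prod_mul_distrib]
  refine Finset.prod_congr rfl fun x hx => ?_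
  obtain ⟨a, -, rfl⟩ := Finset.mem_image.1 hx
  have hle : d a.1 ≤ Finset.univ.sup d := Finset.le_sup (Finset.mem_univ _)
  rw [hblock hJ hG a ⟨d a.1, by omega⟩ rfl, hblock hJ' hG' a ⟨d a.1, by omega⟩ rfl,
    show (ofLex (grade d a)).2 = d a.1 from rfl, show P (d a.1) = _ from hP ⟨d a.1, by omega⟩,
    mul_mul_mul_comm, ← mul_pow, ← mul_pow (-1 : K), neg_one_mul, neg_neg, one_pow, one_pow, one_mul]

include hJ in
theorem nonsquare_flip (hG : Gᵀ = G) (hu : IsUnit G) {G' : Matrix (Idx d) (Idx d) K}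
    (hJ' : (1 + (shift K d)ᵀ) * G' * (1 + shift K d) = G') (hG' : G'ᵀ = G') (hu' : IsUnit G')
    (i₀ : Fin (Finset.univ.sup d + 1)) (hi₀ : Odd (i₀ : ℕ))
    (hne : ¬ IsSquare ((block hd G i₀).det * (block hd G' i₀).det))
    (hsq : ∀ i, i ≠ i₀ → Odd (i : ℕ) → IsSquare ((block hd G i).det * (block hd G' i).det)) :
    ¬ IsSquare (G.det * G'.det) := by
  classical
  let P : ℕ → K := fun i => if h : i < Finset.univ.sup d + 1 then
    (block hd G ⟨i, h⟩).det * (block hd G' ⟨i, h⟩).det else 1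
  have hP : ∀ i : Fin (Finset.univ.sup d + 1), P i = (block hd G i).det * (block hd G' i).det :=
    fun i => dif_pos i.2
  obtain ⟨k, hk⟩ : ∃ k, d k = i₀ := by
    by_contra hc
    push Not at hc
    haveI : IsEmpty (KB d i₀) := ⟨fun k => hc k.1 k.2⟩
    exact hne (by rw [Matrix.det_isEmpty, Matrix.det_isEmpty, one_mul]; exact IsSquare.one)
  set I := Finset.univ.image (grade d) with hI
  set s := I.filter fun x => (ofLex x).2 = (i₀ : ℕ) with hs
  have hcard : s.card = (i₀ : ℕ) := by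
    have hs' : s = (Finset.univ : Finset (Fin (d k))).image fun j => grade d ⟨k, j⟩ := by
      ext x
      simp only [hs, hI, Finset.mem_filter, Finset.mem_image, Finset.mem_univ, true_and]
      constructor
      · rintro ⟨⟨⟨l, j⟩, rfl⟩, hx⟩
        change d l = i₀ at hx
        refine ⟨⟨j, by omega⟩, ?_⟩
        simp only [grade, hx, hk]
      · rintro ⟨j, rfl⟩
        exact ⟨⟨⟨k, j⟩, rfl⟩, hk⟩
    rw [hs', Finset.card_image_of_injective _ fun j j' h => Fin.ext (by
      have h' := congrArg ofLex h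
      simp only [grade, ofLex_toLex, Prod.mk.injEq] at h'
      omega), Finset.card_univ, Fintype.card_fin, hk]
  -- pair up the indices of an even length
  have heven : ∀ i : Fin (Finset.univ.sup d + 1), Even (i : ℕ) →
      IsSquare (P i ^ (I.filter fun x => (ofLex x).2 = (i : ℕ)).card) := by
    intro i hi
    by_cases h : ∃ l, d l = i
    · obtain ⟨l, hl⟩ := h
      have hs' : (I.filter fun x => (ofLex x).2 = (i : ℕ)) =
          (Finset.univ : Finset (Fin (d l))).image fun j => grade d ⟨l, j⟩ := by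
        ext x
        simp only [hI, Finset.mem_filter, Finset.mem_image, Finset.mem_univ, true_and]
        constructor
        · rintro ⟨⟨⟨l', j⟩, rfl⟩, hx⟩
          change d l' = i at hx
          refine ⟨⟨j, by omega⟩, ?_⟩
          simp only [grade, hx, hl]
        · rintro ⟨j, rfl⟩
          exact ⟨⟨⟨l, j⟩, rfl⟩, hl⟩
      rw [hs', Finset.card_image_of_injective _ fun j j' h => Fin.ext (by
        have h' := congrArg ofLex h
        simp only [grade, ofLex_toLex, Prod.mk.injEq] at h'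
        omega), Finset.card_univ, Fintype.card_fin, hl]
      exact hi.isSquare_pow _
    · rw [Finset.filter_false_of_mem fun x hx => ?_, Finset.card_empty, pow_zero]
      · exact IsSquare.one
      · obtain ⟨a, -, rfl⟩ := Finset.mem_image.1 hx
        exact fun e => h ⟨a.1, e⟩
  have hrest : IsSquare (∏ x ∈ I.filter (fun x => ¬ (ofLex x).2 = (i₀ : ℕ)), P (ofLex x).2) := by
    rw [← Finset.prod_fiberwise_of_maps_to (t := (Finset.univ : Finset (Fin (Finset.univ.sup d + 1))).image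
      (fun i : Fin (Finset.univ.sup d + 1) => (i : ℕ))) (g := fun x : ℤ ×ₗ ℕ => (ofLex x).2) (fun x hx => ?_)]
    · refine Finset.prod_induction _ IsSquare (fun a b ha hb => ha.mul hb) IsSquare.one fun j hj => ?_
      obtain ⟨i, -, rfl⟩ := Finset.mem_image.1 hj
      rw [Finset.prod_congr rfl (g := fun _ => P i) fun x hx => by rw [(Finset.mem_filter.1 hx).2],
        Finset.prod_const]
      by_cases he : i = i₀
      · subst he
        rw [Finset.filter_false_of_mem fun x hx => (Finset.mem_filter.1 hx).2, Finset.card_empty, pow_zero]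
        exact IsSquare.one
      rcases Nat.even_or_odd (i : ℕ) with hi | hi
      · have h := heven i hi
        have e : (I.filter fun x => ¬ (ofLex x).2 = (i₀ : ℕ)).filter (fun x => (ofLex x).2 = (i : ℕ)) =
            I.filter fun x => (ofLex x).2 = (i : ℕ) := by
          rw [Finset.filter_filter]
          refine Finset.filter_congr fun x _ => ⟨fun h => h.2, fun h => ⟨fun e => he (Fin.ext (h.symm.trans e)), h⟩⟩
        rwa [e]
      · rw [hP]
        exact (hsq i he hi).pow _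
    · obtain ⟨a, -, rfl⟩ := Finset.mem_image.1 (Finset.mem_filter.1 hx).1
      have hle : d a.1 ≤ Finset.univ.sup d := Finset.le_sup (Finset.mem_univ _)
      exact Finset.mem_image.2 ⟨⟨d a.1, by omega⟩, Finset.mem_univ _, rfl⟩
  rw [det_mul_det hd hJ hG hJ' hG' P hP, ← Finset.prod_filter_mul_prod_filter_not I (fun x => (ofLex x).2 = (i₀ : ℕ)),
    Finset.prod_congr rfl (g := fun _ => P i₀) fun x hx => by rw [(Finset.mem_filter.1 hx).2], Finset.prod_const,
    ← hs, hcard]
  intro hall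
  obtain ⟨r, hr⟩ := hi₀
  have h0 : ∀ i : Fin (Finset.univ.sup d + 1), P i ≠ 0 := fun i => by
    rw [hP]
    exact mul_ne_zero ((Matrix.isUnit_iff_isUnit_det _).1 (block_isUnit hd hJ (sym_zero hG) hu i)).ne_zero
      ((Matrix.isUnit_iff_isUnit_det _).1 (block_isUnit hd hJ' (sym_zero hG') hu' i)).ne_zero
  have hR0 : ∏ x ∈ I.filter (fun x => ¬ (ofLex x).2 = (i₀ : ℕ)), P (ofLex x).2 ≠ 0 :=
    Finset.prod_ne_zero_iff.2 fun x hx => by
      obtain ⟨a, -, rfl⟩ := Finset.mem_image.1 (Finset.mem_filter.1 hx).1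
      have hle : d a.1 ≤ Finset.univ.sup d := Finset.le_sup (Finset.mem_univ _)
      exact h0 ⟨d a.1, by omega⟩
  refine hne ((hP i₀) ▸ ?_)
  obtain ⟨u, hu0⟩ := hall
  obtain ⟨v, hv⟩ := hrest
  have hv0 : v ≠ 0 := fun e => hR0 (by rw [hv, e, zero_mul])
  have hp0 := pow_ne_zero r (h0 i₀)
  refine ⟨u / (v * P i₀ ^ r), ?_⟩
  have hpw : P i₀ ^ (i₀ : ℕ) = P i₀ * (P i₀ ^ r * P i₀ ^ r) := by
    rw [← pow_add, ← pow_succ']
    congr 1
    omega
  rw [hv, hpw] at hu0
  field_simp
  linear_combination hu0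

end

end Cfsg.Agent.ClassNum
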