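import Cfsg.Agent.Lib.ClassNum.SpClasses
import Cfsg.Agent.Lib.ClassNum.OrthForms
import Cfsg.Agent.Lib.Discriminant.Gram

/-!
Conjugacy classes of orthogonal groups in odd characteristic: self-dual tuples with signs, and the
flipping of one sign, which changes the discriminant.
-/

set_option autoImplicit false
set_option linter.unusedSectionVars false

namespace Cfsg.Agent.ClassNum

open Polynomial S2478 FormsLib FormTorus JordanType
open scoped Matrix

universe u

variable {F : Type u} [Field F]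

/-- Admissible tuples with signs, the parity rule being read at the exponent `φ i`. -/
def DG (F : Type u) [Field F] (φ : ℕ → ℕ) (m k : ℕ) : Type u :=
  {x : S F m k × (Fin m → Bool × Bool) // ∀ j : Fin m, Val (φ ((j : ℕ) + 1)) (x.1.1 j).1 (x.2 j)}

/-- The orthogonal group of a Gram matrix. -/
def orthS {N : ℕ} (M : Matrix (Fin N) (Fin N) F) : Subgroup (GL (Fin N) F) :=
  Cfsg.preserving (Units.coeHom (Matrix (Fin N) (Fin N) F)) fun u v => u ⬝ᵥ (M *ᵥ v)

variable [Fintype F]

theorem isSquare_mul_iff' {a b : F} (ha : a ≠ 0) (hb : b ≠ 0) :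
    IsSquare (a * b) ↔ (IsSquare a ↔ IsSquare b) := by
  by_cases h : IsSquare b
  · obtain ⟨r, rfl⟩ := h
    have hr : r ≠ 0 := fun e => hb (by rw [e, mul_zero])
    rw [mul_comm, Disc.isSquare_mul_self_mul hr]
    exact ⟨fun h => iff_of_true h ⟨r, rfl⟩, fun h => h.2 ⟨r, rfl⟩⟩
  · rw [Disc.isSquare_mul_iff ha h]
    exact ⟨fun h' => iff_of_false h' h, fun h' h'' => h (h'.1 h'')⟩

section coord

variable {V : Type*} [AddCommGroup V] [Module F V] [FiniteDimensional F V] {B : LinearMap.BilinForm F V}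

theorem exists_isometry_gker_orth (h2 : (2 : F) ≠ 0) (hV : IsTraceForm (RingHom.id F) (1 : F) B)
    (hB : ∀ u v, B u v = B v u) {A A' : Module.End F V} (hA : ∀ u v, B (A u) (A v) = B u v)
    (hA' : ∀ u v, B (A' u) (A' v) = B u v) {c : F} (hc : c * c = 1) {t : ℕ} {d : Fin t → ℕ}
    (hd : ∀ k, 1 ≤ d k) {L L' : (Idx d → F) →ₗ[F] V} (hL : IsCoord A c L) (hL' : IsCoord A' c L')
    (hs : ∀ i : Fin (Finset.univ.sup d + 1), Odd (i : ℕ) →
      IsSquare ((UnipotentCentralizer.block hd (gram B L') i).det *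
        (UnipotentCentralizer.block hd (gram B L) i).det)) :
    ∃ g : gker A c →ₗ[F] gker A' c, (∀ u v, B (g u : V) (g v : V) = B (u : V) (v : V)) ∧
      ∀ (u : gker A c) (hu : A u ∈ gker A c), (g ⟨A u, hu⟩ : V) = A' (g u : V) := by
  classical
  have hJ := gram_invariant hA hc hL
  have hG := gram_symm hB L
  have hu := gram_isUnit hV hA hc hL
  have hJ' := gram_invariant hA' hc hL'
  have hG' := gram_symm hB L'
  have hu' := gram_isUnit hV hA' hc hL'
  have hdet : ∀ {G : Matrix (Idx d) (Idx d) F}, (1 + (shift F d)ᵀ) * G * (1 + shift F d) = G →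
      Gᵀ = G → IsUnit G → ∀ i, (UnipotentCentralizer.block hd G i).det ≠ 0 :=
    fun h1 h2 h3 i => ((Matrix.isUnit_iff_isUnit_det _).1
      (UnipotentForms.block_isUnit hd h1 (sym_zero h2) h3 i)).ne_zero
  obtain ⟨X, hX, -, hXG⟩ := exists_congr_symm_forms h2 hd hJ' hG' hu' hJ hG hu fun i => by
    rcases Nat.even_or_odd (i : ℕ) with hi | hi
    · exact UnipotentForms.exists_congr_alt _ _ ((block_flip hd hJ' h2 hG' i).2 hi)
        ((block_flip hd hJ h2 hG i).2 hi) (hdet hJ' hG' hu' i) (hdet hJ hG hu i)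
    · exact UnipotentForms.exists_congr_sym h2 _ _ ((block_flip hd hJ' h2 hG' i).1 hi)
        ((block_flip hd hJ h2 hG i).1 hi) (hdet hJ' hG' hu' i) (hdet hJ hG hu i) (hs i hi)
  exact exists_isometry_coord A A' hc hL hL' hX hXG

theorem three_split' {A : Module.End F V} (h21 : (1 : F) ≠ -1) {c : F} (hc : c = 1 ∨ c = -1) (v : V) :
    ∃ a ∈ gker A c, ∃ b ∈ gker A (-c), ∃ z ∈ grest A, a + b + z = v := by
  obtain ⟨a, ha, b, hb, z, hz, rfl⟩ := three_split (A := A) h21 v
  rcases hc with rfl | rfl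
  · exact ⟨a, ha, b, hb, z, hz, rfl⟩
  · exact ⟨b, hb, a, by rwa [neg_neg], z, hz, by rw [add_comm b]⟩

theorem three_orth' {ε : F} (hV : IsTraceForm (RingHom.id F) ε B) {A : Module.End F V}
    (hA : ∀ u v, B (A u) (A v) = B u v) (h21 : (1 : F) ≠ -1) {c : F} (hc : c = 1 ∨ c = -1) {a b z : V}
    (ha : a ∈ gker A c) (hb : b ∈ gker A (-c)) (hz : z ∈ grest A) :
    (B a b = 0 ∧ B b a = 0) ∧ (B a z = 0 ∧ B z a = 0) ∧ (B b z = 0 ∧ B z b = 0) := by
  rcases hc with rfl | rfl
  · exact three_orth hV hA h21 ha hb hz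
  · rw [neg_neg] at hb
    have h := three_orth hV hA h21 hb ha hz
    exact ⟨⟨h.1.2, h.1.1⟩, h.2.2, h.2.1⟩

theorem three_indep {A : Module.End F V} (h21 : (1 : F) ≠ -1) {c : F} (hc : c = 1 ∨ c = -1) {a b z : V}
    (ha : a ∈ gker A c) (hb : b ∈ gker A (-c)) (hz : z ∈ grest A) (h : a + b + z = 0) :
    a = 0 ∧ b = 0 ∧ z = 0 := by
  have key : ∀ {a b z : V}, a ∈ gker A 1 → b ∈ gker A (-1) → z ∈ grest A → a + b + z = 0 →
      a = 0 ∧ b = 0 ∧ z = 0 := by
    intro a b z ha hb hz h
    have ha0 : a = 0 := by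
      refine Submodule.disjoint_def.1 (isCompl_gker A 1).disjoint _ ha ?_
      rw [show a = -(b + z) by linear_combination (norm := module) h]
      exact neg_mem (add_mem (gker_le_grange A h21 hb) hz.1)
    subst ha0
    rw [zero_add] at h
    have hb0 : b = 0 := by
      refine Submodule.disjoint_def.1 (isCompl_gker A (-1)).disjoint _ hb ?_
      rw [show b = -z by linear_combination (norm := module) h]
      exact neg_mem hz.2
    subst hb0
    exact ⟨rfl, rfl, by simpa using h⟩
  rcases hc with rfl | rfl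
  · exact key ha hb hz h
  · rw [neg_neg] at hb
    obtain ⟨h1, h2, h3⟩ := key hb ha hz (by rw [← h]; abel)
    exact ⟨h2, h1, h3⟩

end coord

theorem square_det_of_partial {N : ℕ} {M : Matrix (Fin N) (Fin N) F} (h21 : (1 : F) ≠ -1)
    (hV : IsTraceForm (RingHom.id F) (1 : F) (Matrix.toBilin' M))
    {A A' : Module.End F (Fin N → F)}
    (hA : ∀ u v, Matrix.toBilin' M (A u) (A v) = Matrix.toBilin' M u v)
    (hA' : ∀ u v, Matrix.toBilin' M (A' u) (A' v) = Matrix.toBilin' M u v)
    (P : (Fin N → F) ≃ₗ[F] (Fin N → F)) (hP : ∀ v, P (A v) = A' (P v)) {c : F} (hc : c = 1 ∨ c = -1)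
    (g : gker A (-c) →ₗ[F] gker A' (-c))
    (hg : ∀ u v, Matrix.toBilin' M (g u : Fin N → F) (g v : Fin N → F) =
      Matrix.toBilin' M (u : Fin N → F) (v : Fin N → F))
    {t : ℕ} {d : Fin t → ℕ} {L L' : (Idx d → F) →ₗ[F] (Fin N → F)}
    (hL : IsCoord A c L) (hL' : IsCoord A' c L') :
    IsSquare ((gram (Matrix.toBilin' M) L).det * (gram (Matrix.toBilin' M) L').det) := by
  classical
  set B := Matrix.toBilin' M with hB
  obtain ⟨g₃, hg₃, -⟩ := exists_isometry_rest hV h21 hA hA' P hP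
  let bW := Module.finBasis F (gker A (-c) × grest A)
  let Φ : (Idx d → F) × (gker A (-c) × grest A) →ₗ[F] (Fin N → F) :=
    L.coprod ((gker A (-c)).subtype.coprod (grest A).subtype)
  let Φ' : (Idx d → F) × (gker A (-c) × grest A) →ₗ[F] (Fin N → F) :=
    L'.coprod (((gker A' (-c)).subtype.comp g).coprod ((grest A').subtype.comp g₃.toLinearMap))
  have hgi : Function.Injective g := fun u v huv => Subtype.ext (sub_eq_zero.1 (hV.nondeg _ fun w => by
    obtain ⟨a, ha, b, hb, z, hz, rfl⟩ := three_split' (A := A) h21 hc w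
    have o := three_orth' hV hA h21 hc ha (sub_mem u.2 v.2) hz
    rw [map_add, map_add, o.1.2, o.2.2.1, zero_add, add_zero, ← Submodule.coe_sub, hB, ← hg _ ⟨b, hb⟩,
      map_sub, huv, sub_self, Submodule.coe_zero, map_zero, LinearMap.zero_apply]))
  have hbij : Function.Bijective Φ := by
    refine ⟨LinearMap.ker_eq_bot.1 (LinearMap.ker_eq_bot'.2 fun x hx => ?_), fun v => ?_⟩
    · obtain ⟨y, b, z⟩ := x
      simp only [Φ, LinearMap.coprod_apply, Submodule.subtype_apply, ← add_assoc] at hx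
      obtain ⟨h1, h2, h3⟩ := three_indep h21 hc (hL.2.1 ▸ LinearMap.mem_range_self L y) b.2 z.2 hx
      exact Prod.ext (hL.1 (by rw [h1]; exact (map_zero L).symm)) (Prod.ext (Subtype.ext h2) (Subtype.ext h3))
    · obtain ⟨a, ha, b, hb, z, hz, rfl⟩ := three_split' (A := A) h21 hc v
      obtain ⟨y, rfl⟩ : a ∈ LinearMap.range L := hL.2.1.symm ▸ ha
      exact ⟨(y, ⟨b, hb⟩, ⟨z, hz⟩), by simp [Φ, ← add_assoc]⟩
  have hinj' : Function.Injective Φ' := LinearMap.ker_eq_bot.1 (LinearMap.ker_eq_bot'.2 fun x hx => by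
    obtain ⟨y, b, z⟩ := x
    simp only [Φ', LinearMap.coprod_apply, LinearMap.comp_apply, Submodule.subtype_apply, LinearEquiv.coe_coe,
      ← add_assoc] at hx
    obtain ⟨h1, h2, h3⟩ := three_indep h21 hc (hL'.2.1 ▸ LinearMap.mem_range_self L' y) (g b).2 (g₃ z).2 hx
    refine Prod.ext (hL'.1 (by rw [h1]; exact (map_zero L').symm)) (Prod.ext (hgi ?_) (g₃.injective ?_))
    · show g b = g 0
      rw [map_zero]; exact Subtype.ext h2
    · show g₃ z = g₃ 0
      rw [map_zero]; exact Subtype.ext h3)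
  let e := LinearEquiv.ofBijective Φ hbij
  have hsur' : Function.Surjective Φ' :=
    (LinearMap.injective_iff_surjective_of_finrank_eq_finrank e.finrank_eq).1 hinj'
  let e' := LinearEquiv.ofBijective Φ' ⟨hinj', hsur'⟩
  let b₀ := (Pi.basisFun F (Idx d)).prod bW
  let X : Matrix (Fin (Module.finrank F (gker A (-c) × grest A))) (Fin (Module.finrank F (gker A (-c) × grest A))) F := Matrix.of fun i j =>
    B (((bW i).1 : Fin N → F) + ((bW i).2 : Fin N → F)) (((bW j).1 : Fin N → F) + ((bW j).2 : Fin N → F))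
  have hgram : ∀ (L : (Idx d → F) →ₗ[F] (Fin N → F)) (i j : Idx d),
      B (L (Pi.single i 1)) (L (Pi.single j 1)) = gram B L i j := fun L i j => by
    rw [← gram_apply]
    simp
  have h1 : (Matrix.of fun i j => B (b₀.map e i) (b₀.map e j)) = Matrix.fromBlocks (gram B L) 0 0 X := by
    ext (i | i) (j | j)
    · simp only [Matrix.of_apply, Module.Basis.map_apply, b₀, Module.Basis.prod_apply, Matrix.fromBlocks_apply₁₁]
      simp [e, Φ, hgram]
    · have o := three_orth' hV hA h21 hc (hL.2.1 ▸ LinearMap.mem_range_self L (Pi.single i 1)) (bW j).1.2 (bW j).2.2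
      simp [e, Φ, b₀, o.1.1, o.2.1.1]
    · have o := three_orth' hV hA h21 hc (hL.2.1 ▸ LinearMap.mem_range_self L (Pi.single j 1)) (bW i).1.2 (bW i).2.2
      simp [e, Φ, b₀, o.1.2, o.2.1.2]
    · simp [e, Φ, b₀, X]
  have he'a : ∀ x, e' x = Φ' x := fun x => rfl
  have h1' : (Matrix.of fun i j => B (b₀.map e' i) (b₀.map e' j)) = Matrix.fromBlocks (gram B L') 0 0 X := by
    ext (i | i) (j | j)
    · simp [he'a, Φ', b₀, hgram]
    · have o := three_orth' hV hA' h21 hc (hL'.2.1 ▸ LinearMap.mem_range_self L' (Pi.single i 1))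
        (g (bW j).1).2 (g₃ (bW j).2).2
      simp [he'a, Φ', b₀, o.1.1, o.2.1.1]
    · have o := three_orth' hV hA' h21 hc (hL'.2.1 ▸ LinearMap.mem_range_self L' (Pi.single j 1))
        (g (bW i).1).2 (g₃ (bW i).2).2
      simp [he'a, Φ', b₀, o.1.2, o.2.1.2]
    · have ha : (0 : Fin N → F) ∈ gker A c := zero_mem _
      have ha' : (0 : Fin N → F) ∈ gker A' c := zero_mem _
      have o1 := three_orth' hV hA h21 hc ha (bW i).1.2 (bW j).2.2
      have o2 := three_orth' hV hA h21 hc ha (bW j).1.2 (bW i).2.2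
      have p1 := three_orth' hV hA' h21 hc ha' (g (bW i).1).2 (g₃ (bW j).2).2
      have p2 := three_orth' hV hA' h21 hc ha' (g (bW j).1).2 (g₃ (bW i).2).2
      simp [he'a, Φ', b₀, X, o1.2.2.1, o2.2.2.2, p1.2.2.1, p2.2.2.2, hg, hg₃]
  obtain ⟨p, hp, he⟩ := Disc.exists_det_gram (b₀.map e) M (fun u v => B u v) fun u v =>
    Matrix.toBilin'_apply' M u v
  obtain ⟨p', hp', he'⟩ := Disc.exists_det_gram (b₀.map e') M (fun u v => B u v) fun u v =>
    Matrix.toBilin'_apply' M u v
  rw [h1, Matrix.det_fromBlocks_zero₁₂] at he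
  rw [h1', Matrix.det_fromBlocks_zero₁₂] at he'
  have hM : M.det ≠ 0 := fun h0 => by
    obtain ⟨v, hv, hv0⟩ := Matrix.exists_vecMul_eq_zero_iff.2 h0
    refine hv (hV.nondeg v fun w => ?_)
    rw [Matrix.toBilin'_apply', Matrix.dotProduct_mulVec, hv0, zero_dotProduct]
  have hX : X.det ≠ 0 := fun h0 => mul_ne_zero (mul_ne_zero hp hp) hM (by rw [← he, h0, mul_zero])
  refine ⟨p * p' * M.det / X.det, ?_⟩
  field_simp
  linear_combination ((gram B L').det * X.det) * he + (p * p * M.det) * he'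

/-- The sign attached to an odd exponent. -/
noncomputable def sgnO {N t : ℕ} {d : Fin t → ℕ} (hd : ∀ k, 1 ≤ d k) (M : Matrix (Idx d) (Idx d) F)
    (j : Fin N) : Bool :=
  @decide (Odd ((j : ℕ) + 1) ∧ ∃ i : Fin (Finset.univ.sup d + 1), (i : ℕ) = (j : ℕ) + 1 ∧
    ¬ IsSquare (UnipotentCentralizer.block hd M i).det) (Classical.propDecidable _)

theorem sgnO_iff {N t : ℕ} {d : Fin t → ℕ} (hd : ∀ k, 1 ≤ d k) (M : Matrix (Idx d) (Idx d) F)
    (j : Fin N) (i : Fin (Finset.univ.sup d + 1)) (hi : (i : ℕ) = (j : ℕ) + 1) (ho : Odd ((j : ℕ) + 1)) :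
    sgnO hd M j = true ↔ ¬ IsSquare (UnipotentCentralizer.block hd M i).det := by
  rw [sgnO, @decide_eq_true_iff]
  refine ⟨?_, fun h => ⟨ho, i, hi, h⟩⟩
  rintro ⟨-, l, hl, h⟩
  obtain rfl : l = i := Fin.ext (hl.trans hi.symm)
  exact h

theorem sgnO_true {N t : ℕ} {d : Fin t → ℕ} (hd : ∀ k, 1 ≤ d k) (M : Matrix (Idx d) (Idx d) F)
    (j : Fin N) (h : sgnO hd M j = true) :
    Odd ((j : ℕ) + 1) ∧ 0 < (Finset.univ.filter fun k => d k = (j : ℕ) + 1).card := by
  classical
  rw [sgnO, @decide_eq_true_iff] at h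
  obtain ⟨he, i, hi, hns⟩ := h
  refine ⟨he, Finset.card_pos.2 ?_⟩
  by_contra hc
  haveI : IsEmpty (S2581.KB d i) :=
    ⟨fun k => hc ⟨k.1, Finset.mem_filter.2 ⟨Finset.mem_univ _, k.2.trans hi⟩⟩⟩
  rw [Matrix.det_isEmpty] at hns
  exact hns IsSquare.one

/-- A tuple with a flippable sign. -/
def Flippable {N : ℕ} (T : S F N N) : Prop :=
  ∃ p : Fin N × Bool, Odd ((p.1 : ℕ) + 1) ∧ (T.1 p.1).1.eval (bif p.2 then (-1 : F) else 1) = 0

/-- One component of a pair. -/
def comp (b : Bool) (s : Bool × Bool) : Bool := bif b then s.2 else s.1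

/-- Change one component of a pair. -/
def toggle (b : Bool) (s : Bool × Bool) : Bool × Bool := bif b then (s.1, !s.2) else (!s.1, s.2)

/-- Flip the distinguished sign. -/
noncomputable def flipS {N : ℕ} (T : S F N N) (s : Fin N → Bool × Bool) : Fin N → Bool × Bool :=
  @dite _ (Flippable T) (Classical.propDecidable _)
    (fun h => Function.update s h.choose.1 (toggle h.choose.2 (s h.choose.1))) fun _ => s

theorem flipS_of {N : ℕ} {T : S F N N} (h : Flippable T) (s : Fin N → Bool × Bool) :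
    flipS T s = Function.update s h.choose.1 (toggle h.choose.2 (s h.choose.1)) := by
  rw [flipS, dif_pos h]

theorem flipS_flipS {N : ℕ} (T : S F N N) (s : Fin N → Bool × Bool) : flipS T (flipS T s) = s := by
  by_cases h : Flippable T
  · rw [flipS_of h, flipS_of h, Function.update_idem, Function.update_self]
    refine funext fun j => ?_
    rcases eq_or_ne j h.choose.1 with rfl | hj
    · rw [Function.update_self]
      rcases h.choose.2 <;> simp [toggle]
    · rw [Function.update_of_ne hj]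
  · simp [flipS, h]

theorem val_flipS {N : ℕ} (x : DG F Nat.succ N N) :
    ∀ j : Fin N, Val (Nat.succ ((j : ℕ) + 1)) (x.1.1.1 j).1 (flipS x.1.1 x.1.2 j) := by
  intro j
  by_cases h : Flippable x.1.1
  · rw [flipS_of h]
    rcases eq_or_ne j h.choose.1 with rfl | hj
    · rw [Function.update_self]
      obtain ⟨h1, h2, h3, h4⟩ := x.2 h.choose.1
      have hodd := h.choose_spec.1
      have hev := h.choose_spec.2
      refine ⟨h1, fun ho => absurd ho (Nat.not_odd_iff_even.2 hodd.add_one), fun e => ?_, fun e => ?_⟩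
      · generalize h.choose.2 = b at e hev
        cases b
        · exact hev
        · exact h3 (by simpa [toggle] using e)
      · generalize h.choose.2 = b at e hev
        cases b
        · exact h4 (by simpa [toggle] using e)
        · exact hev
    · rw [Function.update_of_ne hj]
      exact x.2 j
  · simp only [flipS, h, dite_false]
    exact x.2 j

theorem rm_zero_of {f : F[X]} {c : F} (h : f.eval c ≠ 0) : f.rootMultiplicity c = 0 :=
  rootMultiplicity_eq_zero h

/-- Twice the classes of an orthogonal group with a given property of their tuples inject into such tuples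
with signs. -/
theorem classes_le_orth_of (h2 : (2 : F) ≠ 0) {N : ℕ} (M : Matrix (Fin N) (Fin N) F) (hM : Mᵀ = M)
    (hMu : M.det ≠ 0) (p : S F N N → Prop) :
    2 * Nat.card {C : ConjClasses ↥(orthS M) // ∀ a, ConjClasses.mk a = C → p (tupG (a : GL (Fin N) F))} ≤
      Nat.card {x : DG F Nat.succ N N // p x.1.1} + Nat.card (DG F (fun _ => 1) N N) := by
  classical
  let G := orthS M
  haveI : ∀ φ, Finite (DG F φ N N) := fun φ => by
    haveI := (card_S (F := F) N N).2
    exact Subtype.finite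
  have h21 : (1 : F) ≠ -1 := fun h => h2 (by linear_combination h)
  set B := Matrix.toBilin' M with hBdef
  have hsym : ∀ u v, B u v = B v u := fun u v => by
    rw [hBdef, Matrix.toBilin'_apply', Matrix.toBilin'_apply', dotProduct_comm, ← Matrix.vecMul_transpose, hM,
      ← Matrix.dotProduct_mulVec]
  have hV : IsTraceForm (RingHom.id F) (1 : F) B :=
    { invol := fun a => rfl
      eps := by simp
      flip := fun u v => by rw [RingHom.id_apply, one_mul, hsym]
      trace := fun u => ⟨2⁻¹ * B u u, by rw [RingHom.id_apply, one_mul, ← add_mul, ← two_mul,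
        mul_inv_cancel₀ h2, one_mul]⟩
      nondeg := fun u hu => (Matrix.nondegenerate_toBilin'_iff.2
        (Matrix.nondegenerate_of_det_ne_zero hMu)).1 u hu }
  have hpres : ∀ (a : G) u v, B (Matrix.toLin' (a : GL (Fin N) F).1 u) (Matrix.toLin' (a : GL (Fin N) F).1 v) =
      B u v := fun a u v => by
    rw [hBdef, Matrix.toBilin'_apply', Matrix.toBilin'_apply', Matrix.toLin'_apply, Matrix.toLin'_apply]
    exact a.2 u v
  haveI : Nonempty G := ⟨1⟩
  let T : G → S F N N := fun a => tupG (a : GL (Fin N) F)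
  let R : S F N N → G := fun t => Function.invFun T t
  have hR : ∀ a, T (R (T a)) = T a := fun a => Function.invFun_eq (f := T) ⟨a, rfl⟩
  have hP : ∀ a : G, ∃ P : (Fin N → F) ≃ₗ[F] (Fin N → F),
      ∀ v, P (Matrix.toLin' (R (T a) : GL (Fin N) F).1 v) = Matrix.toLin' (a : GL (Fin N) F).1 (P v) := by
    intro a
    obtain ⟨c, hc⟩ := isConj_iff.1 (isConj_of_tupG _ _ (hR a))
    refine ⟨(Matrix.GeneralLinearGroup.toLin c).toLinearEquiv, fun v => ?_⟩
    show c.1 *ᵥ ((R (T a) : GL (Fin N) F).1 *ᵥ v) = (a : GL (Fin N) F).1 *ᵥ (c.1 *ᵥ v)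
    rw [Matrix.mulVec_mulVec, Matrix.mulVec_mulVec, ← Units.val_mul, ← Units.val_mul,
      mul_inv_eq_iff_eq_mul.1 hc]
  choose P hP using hP
  have sq : ∀ b : Bool, (bif b then (-1 : F) else 1) * (bif b then -1 else 1) = 1 := fun b => by
    cases b <;> simp
  choose t d L hd hL using fun (x : S F N N) (b : Bool) =>
    exists_coord (Matrix.toLin' (R x : GL (Fin N) F).1) (sq b)
  have hd1 : ∀ x b k, 1 ≤ d x b k := fun x b k => (hd x b k).1
  have hdN : ∀ x b k, d x b k ≤ N := fun x b k => by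
    have := (hd x b k).2; rwa [Module.finrank_fin_fun] at this
  let LA : ∀ (a : G) (b : Bool), (Idx (d (T a) b) → F) →ₗ[F] (Fin N → F) :=
    fun a b => (P a).toLinearMap ∘ₗ L (T a) b
  have hLA : ∀ (a : G) b, IsCoord (Matrix.toLin' (a : GL (Fin N) F).1) (bif b then -1 else 1) (LA a b) := by
    intro a b
    obtain ⟨h1, h2, h3⟩ := hL (T a) b
    refine ⟨(P a).injective.comp h1, ?_, fun x => ?_⟩
    · rw [LinearMap.range_comp, h2]
      exact gker_map (P a) (hP a) _
    · show (_ : F) • Matrix.toLin' (a : GL (Fin N) F).1 (P a (L (T a) b x)) = P a (L (T a) b _)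
      rw [← h3 x, map_smul, hP a]
  let sg : G → Fin N → Bool × Bool := fun a j =>
    (sgnO (hd1 (T a) false) (gram B (LA a false)) j, sgnO (hd1 (T a) true) (gram B (LA a true)) j)
  have hcomp : ∀ a b j, comp b (sg a j) = sgnO (hd1 (T a) b) (gram B (LA a b)) j := fun a b j => by
    cases b <;> rfl
  have hroot : ∀ (a : G) (b : Bool) (j : Fin N), ((T a).1 j).1.rootMultiplicity (bif b then -1 else 1) =
      (Finset.univ.filter fun k => d (T a) b k = (j : ℕ) + 1).card :=
    fun a b j => count_coord (a : GL (Fin N) F) (sq b) (hLA a b) j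
  have hev : ∀ a b (j : Fin N), sgnO (hd1 (T a) b) (gram B (LA a b)) j = true →
      Odd ((j : ℕ) + 1) ∧ ((T a).1 j).1.eval (bif b then -1 else 1) = 0 := by
    intro a b j h
    obtain ⟨ho, hpos⟩ := sgnO_true _ _ _ h
    rw [← hroot a b j] at hpos
    exact ⟨ho, (rootMultiplicity_pos ((T a).1 j).2.1.ne_zero).1 hpos⟩
  have hdual : ∀ a j, dualPoly (RingHom.id F) ((T a).1 j).1 = ((T a).1 j).1 := fun a j =>
    sdual_tupG (ε := (1 : F)) hV (fun u v => hpres a u v) j
  have hval : ∀ a (j : Fin N), Val (Nat.succ ((j : ℕ) + 1)) ((T a).1 j).1 (sg a j) := by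
    intro a j
    refine ⟨hdual a j, fun hodd => ?_, fun h => (hev a false j h).2, fun h => (hev a true j h).2⟩
    have he : Even ((j : ℕ) + 1) := by
      obtain ⟨r, hr⟩ := hodd
      exact ⟨r, by omega⟩
    have h1 := even_card_sym (hd1 (T a) false) (gram_invariant (hpres a) (sq false) (hLA a false)) h2
      (gram_symm hsym _) (gram_isUnit hV (hpres a) (sq false) (hLA a false)) he
    have h2' := even_card_sym (hd1 (T a) true) (gram_invariant (hpres a) (sq true) (hLA a true)) h2
      (gram_symm hsym _) (gram_isUnit hV (hpres a) (sq true) (hLA a true)) he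
    rw [← hroot a false j] at h1
    rw [← hroot a true j] at h2'
    refine ⟨h1, h2', Prod.ext ?_ ?_⟩
    · exact Bool.eq_false_iff.2 fun h => Nat.not_odd_iff_even.2 he (hev a false j h).1
    · exact Bool.eq_false_iff.2 fun h => Nat.not_odd_iff_even.2 he (hev a true j h).1
  -- comparison of two elements with the same tuple
  have hcoord : ∀ a a' : G, T a = T a' → ∀ b, ∃ L' : (Idx (d (T a) b) → F) →ₗ[F] (Fin N → F),
      IsCoord (Matrix.toLin' (a' : GL (Fin N) F).1) (bif b then -1 else 1) L' ∧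
      ∀ j : Fin N, sgnO (hd1 (T a') b) (gram B (LA a' b)) j = sgnO (hd1 (T a) b) (gram B L') j := by
    intro a a' hT b
    have aux : ∀ (x : S F N N), x = T a → ∀ L'' : (Idx (d x b) → F) →ₗ[F] (Fin N → F),
        IsCoord (Matrix.toLin' (a' : GL (Fin N) F).1) (bif b then -1 else 1) L'' →
        ∃ L' : (Idx (d (T a) b) → F) →ₗ[F] (Fin N → F),
          IsCoord (Matrix.toLin' (a' : GL (Fin N) F).1) (bif b then -1 else 1) L' ∧
          ∀ j : Fin N, sgnO (hd1 x b) (gram B L'') j = sgnO (hd1 (T a) b) (gram B L') j := by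
      rintro _ rfl L'' h
      exact ⟨L'', h, fun j => rfl⟩
    exact aux (T a') hT.symm (LA a' b) (hLA a' b)
  have hblock : ∀ (a : G) (b : Bool) (L' : (Idx (d (T a) b) → F) →ₗ[F] (Fin N → F)) (a' : G),
      IsCoord (Matrix.toLin' (a' : GL (Fin N) F).1) (bif b then -1 else 1) L' →
      ∀ (i : Fin (Finset.univ.sup (d (T a) b) + 1)) (j : Fin N), (i : ℕ) = (j : ℕ) + 1 → Odd ((j : ℕ) + 1) →
        (IsSquare ((UnipotentCentralizer.block (hd1 (T a) b) (gram B L') i).det *
          (UnipotentCentralizer.block (hd1 (T a) b) (gram B (LA a b)) i).det) ↔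
          sgnO (hd1 (T a) b) (gram B L') j = sgnO (hd1 (T a) b) (gram B (LA a b)) j) := by
    intro a b L' a' hL' i j hij ho
    rw [isSquare_mul_iff' (((Matrix.isUnit_iff_isUnit_det _).1 (UnipotentForms.block_isUnit _
      (gram_invariant (hpres a') (sq b) hL') (sym_zero (gram_symm hsym _))
      (gram_isUnit hV (hpres a') (sq b) hL') i)).ne_zero)
      (((Matrix.isUnit_iff_isUnit_det _).1 (UnipotentForms.block_isUnit _
      (gram_invariant (hpres a) (sq b) (hLA a b)) (sym_zero (gram_symm hsym _))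
      (gram_isUnit hV (hpres a) (sq b) (hLA a b)) i)).ne_zero), Bool.eq_iff_iff, sgnO_iff _ _ j i hij ho,
      sgnO_iff _ _ j i hij ho, not_iff_not]
  have hidx : ∀ (a : G) (b : Bool) (i : Fin (Finset.univ.sup (d (T a) b) + 1)), Odd (i : ℕ) →
      ∃ j : Fin N, (i : ℕ) = (j : ℕ) + 1 := by
    intro a b i hi
    have h1 : Finset.univ.sup (d (T a) b) ≤ N := Finset.sup_le fun k _ => hdN _ b k
    obtain ⟨r, hr⟩ := hi
    exact ⟨⟨2 * r, by omega⟩, by simp only; omega⟩
  have hiso : ∀ a a' : G, T a = T a' → ∀ b, (∀ j, comp b (sg a j) = comp b (sg a' j)) →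
      ∃ g : gker (Matrix.toLin' (a : GL (Fin N) F).1) (bif b then -1 else 1) →ₗ[F]
        gker (Matrix.toLin' (a' : GL (Fin N) F).1) (bif b then -1 else 1),
        (∀ u v, B (g u : Fin N → F) (g v : Fin N → F) = B (u : Fin N → F) (v : Fin N → F)) ∧
        ∀ (u : gker (Matrix.toLin' (a : GL (Fin N) F).1) (bif b then -1 else 1))
          (hu : Matrix.toLin' (a : GL (Fin N) F).1 (u : Fin N → F) ∈
            gker (Matrix.toLin' (a : GL (Fin N) F).1) (bif b then -1 else 1)),
          (g ⟨_, hu⟩ : Fin N → F) = Matrix.toLin' (a' : GL (Fin N) F).1 (g u : Fin N → F) := by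
    intro a a' hT b hs
    obtain ⟨L', hL', hs'⟩ := hcoord a a' hT b
    refine exists_isometry_gker_orth h2 hV hsym (hpres a) (hpres a') (sq b) (hd1 (T a) b) (hLA a b) hL'
      fun i hi => ?_
    obtain ⟨j, hj⟩ := hidx a b i hi
    rw [hblock a b L' a' hL' i j hj (hj ▸ hi), ← hs', ← hcomp, ← hcomp, hs j]
  have hconj : ∀ a a' : G, T a = T a' → sg a = sg a' → IsConj a a' := by
    intro a a' hT hs
    obtain ⟨g₁, hg₁, hg₁A⟩ := hiso a a' hT false fun j => by rw [hs]
    obtain ⟨g₂, hg₂, hg₂A⟩ := hiso a a' hT true fun j => by rw [hs]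
    obtain ⟨c, hc⟩ := isConj_iff.1 (isConj_of_tupG (a : GL (Fin N) F) (a' : GL (Fin N) F) hT)
    obtain ⟨g, hg, hgA⟩ := exists_glue_three hV h21 (hpres a) (hpres a')
      (Matrix.GeneralLinearGroup.toLin c).toLinearEquiv (fun v => by
        show c.1 *ᵥ ((a : GL (Fin N) F).1 *ᵥ v) = (a' : GL (Fin N) F).1 *ᵥ (c.1 *ᵥ v)
        rw [Matrix.mulVec_mulVec, Matrix.mulVec_mulVec, ← Units.val_mul, ← Units.val_mul,
          mul_inv_eq_iff_eq_mul.1 hc])
      g₁ hg₁ hg₁A g₂ hg₂ hg₂A
    let gm : GL (Fin N) F := ⟨LinearMap.toMatrix' g.toLinearMap, LinearMap.toMatrix' g.symm.toLinearMap,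
      by rw [← LinearMap.toMatrix'_comp]; simp, by rw [← LinearMap.toMatrix'_comp]; simp⟩
    have hgm : ∀ v, gm.1 *ᵥ v = g v := fun v => by
      show LinearMap.toMatrix' g.toLinearMap *ᵥ v = _
      rw [LinearMap.toMatrix'_mulVec]; rfl
    have hmem : gm ∈ G := fun u v => by
      show (gm.1 *ᵥ u) ⬝ᵥ (M *ᵥ (gm.1 *ᵥ v)) = _
      rw [hgm, hgm, ← Matrix.toBilin'_apply', ← hBdef, hg, hBdef, Matrix.toBilin'_apply']
    refine isConj_iff.2 ⟨⟨gm, hmem⟩, mul_inv_eq_iff_eq_mul.2 (Subtype.ext (Units.ext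
      (Matrix.ext_of_mulVec_single fun i => ?_)))⟩
    show (gm.1 * (a : GL (Fin N) F).1) *ᵥ _ = ((a' : GL (Fin N) F).1 * gm.1) *ᵥ _
    rw [← Matrix.mulVec_mulVec, ← Matrix.mulVec_mulVec, hgm, hgm]
    exact hgA _
  have habs : ∀ a a' : G, T a = T a' → Flippable (T a) → sg a' = flipS (T a) (sg a) → False := by
    intro a a' hT hf hs
    rw [flipS_of hf] at hs
    set j₀ := hf.choose.1 with hj₀
    have ho : Odd ((j₀ : ℕ) + 1) := hf.choose_spec.1
    have hroot0 : ((T a).1 j₀).1.eval (bif hf.choose.2 then (-1 : F) else 1) = 0 := hf.choose_spec.2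
    generalize hf.choose.2 = b at hs hroot0
    have hne : ∀ j, j ≠ j₀ → sg a' j = sg a j := fun j hj => by rw [hs, Function.update_of_ne hj]
    have hj : comp b (sg a' j₀) = !(comp b (sg a j₀)) ∧ comp (!b) (sg a' j₀) = comp (!b) (sg a j₀) := by
      rw [hs, Function.update_self]
      cases b <;> exact ⟨rfl, rfl⟩
    obtain ⟨g, hg, -⟩ := hiso a a' hT (!b) fun j => by
      rcases eq_or_ne j j₀ with rfl | h
      · exact hj.2.symm
      · rw [hne j h]
    obtain ⟨L', hL', hs'⟩ := hcoord a a' hT b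
    obtain ⟨c, hc⟩ := isConj_iff.1 (isConj_of_tupG (a : GL (Fin N) F) (a' : GL (Fin N) F) hT)
    have hpos : 0 < (Finset.univ.filter fun k => d (T a) b k = (j₀ : ℕ) + 1).card := by
      rw [← hroot a b j₀]
      exact (rootMultiplicity_pos ((T a).1 j₀).2.1.ne_zero).2 hroot0
    obtain ⟨k, hk⟩ := Finset.card_pos.1 hpos
    have hkd := (Finset.mem_filter.1 hk).2
    have hle : (j₀ : ℕ) + 1 ≤ Finset.univ.sup (d (T a) b) := hkd ▸ Finset.le_sup (Finset.mem_univ k)
    let i₀ : Fin (Finset.univ.sup (d (T a) b) + 1) := ⟨(j₀ : ℕ) + 1, by omega⟩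
    have hnb : (bif !b then (-1 : F) else 1) = -(bif b then (-1 : F) else 1) := by cases b <;> simp
    have hsquare : IsSquare ((gram B (LA a b)).det * (gram B L').det) := by
      have aux : ∀ c' : F, c' = (bif !b then (-1 : F) else 1) →
          ∀ g : gker (Matrix.toLin' (a : GL (Fin N) F).1) c' →ₗ[F] gker (Matrix.toLin' (a' : GL (Fin N) F).1) c',
          (∀ u v, B (g u : Fin N → F) (g v : Fin N → F) = B (u : Fin N → F) (v : Fin N → F)) →
          c' = -(bif b then (-1 : F) else 1) →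
          IsSquare ((gram B (LA a b)).det * (gram B L').det) := by
        intro c' _ g hg hc'
        subst hc'
        exact square_det_of_partial h21 hV (hpres a) (hpres a') (Matrix.GeneralLinearGroup.toLin c).toLinearEquiv
          (fun v => by
            show c.1 *ᵥ ((a : GL (Fin N) F).1 *ᵥ v) = (a' : GL (Fin N) F).1 *ᵥ (c.1 *ᵥ v)
            rw [Matrix.mulVec_mulVec, Matrix.mulVec_mulVec, ← Units.val_mul, ← Units.val_mul,
              mul_inv_eq_iff_eq_mul.1 hc])
          (by cases b <;> simp) g hg (hLA a b) hL'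
      exact aux _ rfl g hg hnb
    refine nonsquare_flip (hd1 (T a) b) (gram_invariant (hpres a') (sq b) hL') (gram_symm hsym _)
      (gram_isUnit hV (hpres a') (sq b) hL') (gram_invariant (hpres a) (sq b) (hLA a b)) (gram_symm hsym _)
      (gram_isUnit hV (hpres a) (sq b) (hLA a b)) i₀ ho ?_ (fun i hi hio => ?_) (by rw [mul_comm]; exact hsquare)
    · rw [hblock a b L' a' hL' i₀ j₀ rfl ho, ← hs', ← hcomp, ← hcomp, hj.1]
      exact fun h => by cases comp b (sg a j₀) <;> simp at h
    · obtain ⟨j, hij⟩ := hidx a b i hio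
      have hjne : j ≠ j₀ := fun e => hi (Fin.ext (by rw [hij, e]))
      rw [hblock a b L' a' hL' i j hij (hij ▸ hio), ← hs', ← hcomp, ← hcomp, hne j hjne]
  choose rep hrep using fun C : ConjClasses G => ConjClasses.exists_rep C
  let f : ConjClasses G → DG F Nat.succ N N := fun x => ⟨(T (rep x), sg (rep x)), hval (rep x)⟩
  have hff : ∀ a, ¬ Flippable (T a) → ∀ j : Fin N,
      Val ((fun _ => 1) ((j : ℕ) + 1)) ((T a).1 j).1 (false, false) := by
    intro a hn j
    refine ⟨hdual a j, fun _ => ?_, fun h => absurd h Bool.false_ne_true, fun h => absurd h Bool.false_ne_true⟩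
    rcases Nat.even_or_odd ((j : ℕ) + 1) with he | ho
    · obtain ⟨h1, h2, -⟩ := (hval a j).2.1 he.add_one
      exact ⟨h1, h2, rfl⟩
    · refine ⟨?_, ?_, rfl⟩
      · rw [rm_zero_of (c := (1 : F)) fun h => hn ⟨(j, false), ho, h⟩]; exact Even.zero
      · rw [rm_zero_of (c := (-1 : F)) fun h => hn ⟨(j, true), ho, h⟩]; exact Even.zero
  let Ψ : ConjClasses G ⊕ ConjClasses G → DG F Nat.succ N N ⊕ DG F (fun _ => 1) N N := Sum.elim (fun x => .inl (f x))
    fun x => if h : Flippable (T (rep x)) then .inl ⟨(T (rep x), flipS (T (rep x)) (sg (rep x))), val_flipS (f x)⟩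
      else .inr ⟨(T (rep x), fun _ => (false, false)), hff _ h⟩
  have hsgff : ∀ a, ¬ Flippable (T a) → sg a = fun _ => (false, false) := by
    intro a hn
    funext j
    refine Prod.ext ?_ ?_
    · exact Bool.eq_false_iff.2 fun h => hn ⟨(j, false), hev a false j h⟩
    · exact Bool.eq_false_iff.2 fun h => hn ⟨(j, true), hev a true j h⟩
  have hfinj : Function.Injective f := fun x y h => by
    have hp := congrArg Subtype.val h
    rw [← hrep x, ← hrep y, ConjClasses.mk_eq_mk_iff_isConj]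
    exact hconj _ _ (congrArg Prod.fst hp) (congrArg Prod.snd hp)
  have hΨ : Function.Injective Ψ := by
    rintro (x | x) (y | y) h <;> simp only [Ψ, Sum.elim_inl, Sum.elim_inr] at h
    · exact congrArg Sum.inl (hfinj (Sum.inl_injective h))
    · by_cases hy : Flippable (T (rep y))
      · rw [dif_pos hy] at h
        have hp := congrArg Subtype.val (Sum.inl_injective h)
        exact (habs (rep y) (rep x) (congrArg Prod.fst hp).symm hy (congrArg Prod.snd hp)).elim
      · rw [dif_neg hy] at h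
        exact absurd h Sum.inl_ne_inr
    · by_cases hx : Flippable (T (rep x))
      · rw [dif_pos hx] at h
        have hp := congrArg Subtype.val (Sum.inl_injective h)
        exact (habs (rep x) (rep y) (congrArg Prod.fst hp) hx (congrArg Prod.snd hp).symm).elim
      · rw [dif_neg hx] at h
        exact absurd h.symm Sum.inl_ne_inr
    · refine congrArg Sum.inr (hfinj (Subtype.ext ?_))
      by_cases hx : Flippable (T (rep x)) <;> by_cases hy : Flippable (T (rep y))
      · rw [dif_pos hx, dif_pos hy] at h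
        have hp := congrArg Subtype.val (Sum.inl_injective h)
        have h1 : T (rep x) = T (rep y) := congrArg Prod.fst hp
        have h2 : flipS (T (rep x)) (sg (rep x)) = flipS (T (rep y)) (sg (rep y)) := congrArg Prod.snd hp
        rw [← h1] at h2
        have h3 := congrArg (flipS (T (rep x))) h2
        rw [flipS_flipS, flipS_flipS] at h3
        exact Prod.ext h1 h3
      · rw [dif_pos hx, dif_neg hy] at h
        exact absurd h Sum.inl_ne_inr
      · rw [dif_neg hx, dif_pos hy] at h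
        exact absurd h.symm Sum.inl_ne_inr
      · rw [dif_neg hx, dif_neg hy] at h
        have hp := congrArg Subtype.val (Sum.inr_injective h)
        have h1 : T (rep x) = T (rep y) := congrArg Prod.fst hp
        exact Prod.ext h1 ((hsgff _ hx).trans (hsgff _ hy).symm)
  let K := {C : ConjClasses ↥(orthS M) // ∀ a, ConjClasses.mk a = C → p (tupG (a : GL (Fin N) F))}
  have hp : ∀ x : K, p (T (rep x.1)) := fun x => x.2 _ (hrep x.1)
  let Ψ' : K ⊕ K → {x : DG F Nat.succ N N // p x.1.1} ⊕ DG F (fun _ => 1) N N := Sum.elim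
    (fun x => .inl ⟨f x.1, hp x⟩)
    fun x => if h : Flippable (T (rep x.1)) then
        .inl ⟨⟨(T (rep x.1), flipS (T (rep x.1)) (sg (rep x.1))), val_flipS (f x.1)⟩, hp x⟩
      else .inr ⟨(T (rep x.1), fun _ => (false, false)), hff _ h⟩
  have hcommutes : ∀ z : K ⊕ K,
      Sum.map Subtype.val id (Ψ' z) = Ψ (Sum.map Subtype.val Subtype.val z) := by
    rintro (x | x)
    · rfl
    · simp only [Ψ', Ψ, Sum.elim_inr, Sum.map_inr]
      split_ifs <;> rfl
  have hΨ' : Function.Injective Ψ' := fun z z' h => by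
    have := hΨ ((hcommutes z).symm.trans ((congrArg _ h).trans (hcommutes z')))
    exact (Sum.map_injective.2 ⟨Subtype.val_injective, Subtype.val_injective⟩) this
  have h := Nat.card_le_card_of_injective Ψ' hΨ'
  rw [Nat.card_sum, Nat.card_sum] at h
  change Nat.card K + Nat.card K ≤ _ at h
  show 2 * Nat.card K ≤ _
  omega

/-- Twice the classes of an orthogonal group inject into tuples with signs. -/
theorem classes_le_orth (h2 : (2 : F) ≠ 0) {N : ℕ} (M : Matrix (Fin N) (Fin N) F) (hM : Mᵀ = M)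
    (hMu : M.det ≠ 0) :
    2 * Nat.card (ConjClasses ↥(orthS M)) ≤
      Nat.card (DG F Nat.succ N N) + Nat.card (DG F (fun _ => 1) N N) := by
  have h := classes_le_orth_of h2 M hM hMu fun _ => True
  rwa [Nat.card_congr (Equiv.subtypeUnivEquiv fun C _ _ => trivial),
    Nat.card_congr (Equiv.subtypeUnivEquiv fun x => trivial)] at h

end Cfsg.Agent.ClassNum
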