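import Cfsg.Agent.S2385
import Cfsg.Agent.Lib.Forms.UnipotentForms
import Cfsg.Agent.Lib.ClassNum.OrthClasses

/-!
Orthogonal elements with a prescribed characteristic polynomial, and transport of orthogonal groups.
-/

set_option autoImplicit false
set_option linter.unusedSectionVars false

namespace Cfsg.Agent.ClassNum

open Polynomial
open scoped Matrix

universe u

variable {F : Type u} [Field F] [Fintype F]

/-- Companion element of an orthogonal group. -/
theorem exists_orth_base (h2 : (2 : F) ≠ 0) {n : ℕ} (h : F[X]) (hm : h.Monic) (hd : h.natDegree = n)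
    (hx : (-1 : F) ^ n * h.eval 2 * h.eval (-2) ≠ 0) :
    ∃ M g : Matrix (Fin n ⊕ Fin n) (Fin n ⊕ Fin n) F, Mᵀ = M ∧
      (∃ s : F, s ≠ 0 ∧ M.det = s * s * ((-1 : F) ^ n * h.eval 2 * h.eval (-2))) ∧ gᵀ * M * g = M ∧
      algebraMap F[X] (RatFunc F) g.charpoly = RatFunc.X ^ n * aeval (S2385.yEl (F := F)) h ∧ g.det = 1 := by
  classical
  obtain ⟨A, S, hA, hS, hSt, hAS⟩ := S2385.exists_pair h hm hd
  have hSd : S.det ≠ 0 := ((Matrix.isUnit_iff_isUnit_det S).1 hS).ne_zero
  let g : Matrix (Fin n ⊕ Fin n) (Fin n ⊕ Fin n) F := Matrix.fromBlocks A (-1) 1 0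
  let M : Matrix (Fin n ⊕ Fin n) (Fin n ⊕ Fin n) F :=
    Matrix.fromBlocks (S + S) (-(S * A)) (-(S * A)) (S + S)
  have hgdet : g.det = 1 := by
    have e : g = Matrix.fromBlocks (1 : Matrix (Fin n) (Fin n) F) (A - 1) 0 1 *
        Matrix.fromBlocks (1 : Matrix (Fin n) (Fin n) F) 0 1 1 *
        Matrix.fromBlocks (1 : Matrix (Fin n) (Fin n) F) (-1) 0 1 := by
      simp [g, Matrix.fromBlocks_multiply]
      abel
    simp only [e, Matrix.det_mul, Matrix.det_fromBlocks_zero₂₁, Matrix.det_fromBlocks_zero₁₂, Matrix.det_one, mul_one]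
  refine ⟨M, g, ?_, ⟨S.det, hSd, ?_⟩, ?_, ?_, hgdet⟩
  · simp [M, Matrix.fromBlocks_transpose, Matrix.transpose_mul, hSt, hAS]
  · have e : Matrix.fromBlocks (1 : Matrix (Fin n) (Fin n) F) 1 0 1 * M *
        Matrix.fromBlocks (1 : Matrix (Fin n) (Fin n) F) (-1) 0 1 =
        Matrix.fromBlocks (S + S + -(S * A)) 0 (-(S * A)) (S + S + S * A) := by
      simp only [M, Matrix.fromBlocks_multiply, Matrix.one_mul, Matrix.mul_one, Matrix.zero_mul, Matrix.mul_zero,
        Matrix.mul_neg, zero_add, add_zero, neg_neg]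
      congr 1 <;> abel
    have hdet := congrArg Matrix.det e
    rw [Matrix.det_mul, Matrix.det_mul, Matrix.det_fromBlocks_zero₂₁, Matrix.det_fromBlocks_zero₂₁,
      Matrix.det_fromBlocks_zero₁₂, Matrix.det_one, one_mul, one_mul, mul_one] at hdet
    have hs2 : Matrix.scalar (Fin n) (2 : F) = 1 + 1 := by
      rw [show (2 : F) = 1 + 1 by norm_num, map_add, map_one]
    have e1 : S + S + -(S * A) = S * (Matrix.scalar (Fin n) (2 : F) - A) := by
      rw [hs2, Matrix.mul_sub, Matrix.mul_add, Matrix.mul_one, sub_eq_add_neg]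
    have e2 : S + S + S * A = S * (-(Matrix.scalar (Fin n) (-2 : F) - A)) := by
      rw [map_neg, hs2, neg_sub, sub_neg_eq_add, Matrix.mul_add, Matrix.mul_add, Matrix.mul_one]
      abel
    rw [hdet, e1, e2, Matrix.det_mul, Matrix.det_mul, Matrix.det_neg, ← Matrix.eval_charpoly,
      ← Matrix.eval_charpoly, hA, Fintype.card_fin]
    ring
  · simp only [g, M, Matrix.fromBlocks_transpose, Matrix.fromBlocks_multiply, Matrix.transpose_neg,
      Matrix.transpose_one, Matrix.transpose_zero, Matrix.one_mul, Matrix.mul_one, Matrix.zero_mul,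
      Matrix.mul_zero, Matrix.neg_mul, Matrix.mul_neg, zero_add, add_zero, neg_neg, Matrix.add_mul,
      Matrix.mul_add, ← Matrix.mul_assoc, hAS]
    congr 1 <;> abel
  · show algebraMap F[X] (RatFunc F) g.charpoly = _
    let φ : F →+* RatFunc F := algebraMap F (RatFunc F)
    have hX : (RatFunc.X : RatFunc F) ≠ 0 := RatFunc.X_ne_zero
    have he : ∀ P : F[X], algebraMap F[X] (RatFunc F) P = (P.map φ).eval RatFunc.X := fun P => by
      rw [Polynomial.eval_map, ← Polynomial.aeval_def]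
      conv_lhs => rw [← Polynomial.aeval_X_left_apply P]
      rw [← Polynomial.aeval_algebraMap_apply, RatFunc.algebraMap_X]
    rw [he, ← Matrix.charpoly_map, Matrix.eval_charpoly]
    have hblk : Matrix.scalar (Fin n ⊕ Fin n) (RatFunc.X : RatFunc F) - g.map φ =
        Matrix.fromBlocks (Matrix.scalar (Fin n) RatFunc.X - A.map φ) 1 (-1)
          (Matrix.scalar (Fin n) RatFunc.X) := by
      rw [← Matrix.ext_iff]
      rintro (i | i) (j | j) <;>
        simp [g, Matrix.scalar_apply, Matrix.diagonal_apply, Matrix.one_apply, Sum.inl.injEq, apply_ite φ]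
    rw [hblk]
    haveI : Invertible (Matrix.scalar (Fin n) (RatFunc.X : RatFunc F)) :=
      ⟨Matrix.scalar (Fin n) (RatFunc.X)⁻¹, by rw [← map_mul, inv_mul_cancel₀ hX, map_one],
        by rw [← map_mul, mul_inv_cancel₀ hX, map_one]⟩
    rw [Matrix.det_fromBlocks₂₂, invOf_eq_right_inv
      (show Matrix.scalar (Fin n) (RatFunc.X : RatFunc F) * Matrix.scalar (Fin n) (RatFunc.X)⁻¹ = 1 by
        rw [← map_mul, mul_inv_cancel₀ hX, map_one]), Matrix.one_mul, Matrix.mul_neg, Matrix.mul_one,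
      sub_neg_eq_add,
      show Matrix.scalar (Fin n) (RatFunc.X : RatFunc F) - A.map φ + Matrix.scalar (Fin n) (RatFunc.X)⁻¹
        = Matrix.scalar (Fin n) (S2385.yEl (F := F)) - A.map φ by rw [S2385.yEl, map_add]; abel,
      ← Matrix.eval_charpoly, Matrix.charpoly_map, hA, Polynomial.eval_map, ← Polynomial.aeval_def,
      Matrix.scalar_apply, Matrix.det_diagonal, Finset.prod_const, Finset.card_univ, Fintype.card_fin]

theorem exists_orth_element (h2 : (2 : F) ≠ 0) : ∀ (n : ℕ) (h : F[X]), h.Monic → h.natDegree = n →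
    ∀ δ : F, δ ≠ 0 → IsSquare (δ * ((-1) ^ n * h.eval 2 * h.eval (-2))) →
    ∃ M g : Matrix (Fin (n + n)) (Fin (n + n)) F, Mᵀ = M ∧ M.det ≠ 0 ∧ IsSquare (M.det * δ) ∧
      gᵀ * M * g = M ∧ algebraMap F[X] (RatFunc F) g.charpoly = RatFunc.X ^ n * aeval (S2385.yEl (F := F)) h ∧
      g.det = 1 := by
  intro n
  induction n with
  | zero =>
    intro h hm hd δ hδ _
    refine ⟨1, 1, Matrix.transpose_one, by simp, ?_, by simp, ?_, Matrix.det_one⟩
    · rw [Matrix.det_one, one_mul]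
      have h1 : h = 1 := eq_one_of_monic_natDegree_zero hm hd
      simp_all
    · rw [eq_one_of_monic_natDegree_zero hm hd, map_one, Matrix.charpoly_one]
      simp
  | succ n ih =>
    intro h hm hd δ hδ hsq
    classical
    by_cases hx : (-1 : F) ^ (n + 1) * h.eval 2 * h.eval (-2) = 0
    · obtain ⟨s, hs, hroot⟩ : ∃ s : F, s * s = 1 ∧ h.eval (2 * s) = 0 := by
        rcases mul_eq_zero.1 hx with e | e
        · refine ⟨1, one_mul 1, ?_⟩
          rw [mul_one]
          exact (mul_eq_zero.1 e).resolve_left (pow_ne_zero _ (neg_ne_zero.2 one_ne_zero))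
        · exact ⟨-1, by ring, by rw [mul_neg_one]; exact e⟩
      obtain ⟨h₁, rfl⟩ := dvd_iff_isRoot.2 (show h.IsRoot (2 * s) from hroot)
      have hm₁ : h₁.Monic := (monic_X_sub_C (2 * s)).of_mul_monic_left hm
      have hd₁ : h₁.natDegree = n := by
        rw [(monic_X_sub_C (2 * s)).natDegree_mul hm₁, natDegree_X_sub_C] at hd
        omega
      set x := (-1 : F) ^ n * h₁.eval 2 * h₁.eval (-2) with hxdef
      obtain ⟨δ₁, hδ₁, hsq₁⟩ : ∃ δ₁ : F, δ₁ ≠ 0 ∧ IsSquare (δ₁ * x) := by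
        by_cases e : x = 0
        · exact ⟨1, one_ne_zero, by rw [e, mul_zero]; exact IsSquare.zero⟩
        · exact ⟨x, e, ⟨x, rfl⟩⟩
      obtain ⟨M₁, g₁, hM₁, hdet₁, -, hg₁, hc₁, hgd₁⟩ := ih h₁ hm₁ hd₁ δ₁ hδ₁ hsq₁
      let D : Matrix (Fin 2) (Fin 2) F := Matrix.diagonal ![1, δ / M₁.det]
      let e : Fin (n + n) ⊕ Fin 2 ≃ Fin (n + 1 + (n + 1)) :=
        Fintype.equivFinOfCardEq (by rw [Fintype.card_sum, Fintype.card_fin, Fintype.card_fin]; omega)
      let M := Matrix.fromBlocks M₁ 0 0 D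
      let g := Matrix.fromBlocks g₁ 0 0 (Matrix.diagonal fun _ : Fin 2 => s)
      have hD : D.det = δ / M₁.det := by simp [D, Matrix.det_diagonal, Fin.prod_univ_two]
      have hMd : M.det = δ := by
        rw [Matrix.det_fromBlocks_zero₁₂, hD, mul_div_cancel₀ _ hdet₁]
      have hgd : (Matrix.reindex e e g).det = 1 := by
        rw [Matrix.det_reindex_self, Matrix.det_fromBlocks_zero₁₂, hgd₁, one_mul, Matrix.det_diagonal, Fin.prod_univ_two, hs]
      refine ⟨Matrix.reindexAlgEquiv F F e M, Matrix.reindexAlgEquiv F F e g, ?_, ?_, ?_, ?_, ?_, hgd⟩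
      · show (Matrix.reindex e e M)ᵀ = Matrix.reindex e e M
        rw [Matrix.transpose_reindex]
        congr 1
        simp [M, D, Matrix.fromBlocks_transpose, hM₁]
      · show (Matrix.reindex e e M).det ≠ 0
        rw [Matrix.det_reindex_self, hMd]
        exact hδ
      · show IsSquare ((Matrix.reindex e e M).det * δ)
        rw [Matrix.det_reindex_self, hMd]
        exact ⟨δ, rfl⟩
      · rw [show (Matrix.reindexAlgEquiv F F e g)ᵀ = Matrix.reindexAlgEquiv F F e gᵀ from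
          Matrix.transpose_reindex .., ← map_mul, ← map_mul]
        congr 1
        have e3 : Matrix.diagonal (fun _ : Fin 2 => s) * D * Matrix.diagonal (fun _ : Fin 2 => s) = D := by
          simp only [D, Matrix.diagonal_mul_diagonal]
          congr 1
          funext i
          linear_combination (![1, δ / M₁.det] i) * hs
        simp [M, g, Matrix.fromBlocks_transpose, Matrix.fromBlocks_multiply, hg₁, e3]
      · show algebraMap F[X] (RatFunc F) (Matrix.reindex e e g).charpoly = _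
        rw [Matrix.charpoly_reindex, Matrix.charpoly_fromBlocks_zero₁₂, Matrix.charpoly_diagonal, map_mul, hc₁,
          Fin.prod_univ_two, map_mul, map_sub, RatFunc.algebraMap_X, RatFunc.algebraMap_C, map_mul (aeval _),
          map_sub, aeval_X, aeval_C, ← RatFunc.algebraMap_eq_C, S2385.yEl]
        have hX : (RatFunc.X : RatFunc F) ≠ 0 := RatFunc.X_ne_zero
        have hs' : algebraMap F (RatFunc F) s * algebraMap F (RatFunc F) s = 1 := by rw [← map_mul, hs, map_one]
        rw [map_mul (algebraMap F (RatFunc F)), map_ofNat, pow_succ]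
        generalize aeval ((RatFunc.X : RatFunc F) + RatFunc.X⁻¹) h₁ = Y
        field_simp
        first
          | linear_combination (RatFunc.X ^ n * Y) * hs'
          | linear_combination Y * hs'
    · obtain ⟨M, g, hM, ⟨r, hr, hdet⟩, hg, hc, hgd0⟩ := exists_orth_base h2 h hm hd hx
      let e : Fin (n + 1) ⊕ Fin (n + 1) ≃ Fin (n + 1 + (n + 1)) := finSumFinEquiv
      have hgd : (Matrix.reindex e e g).det = 1 := by
        rw [Matrix.det_reindex_self, hgd0]
      refine ⟨Matrix.reindexAlgEquiv F F e M, Matrix.reindexAlgEquiv F F e g, ?_, ?_, ?_, ?_, ?_, hgd⟩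
      · show (Matrix.reindex e e M)ᵀ = Matrix.reindex e e M
        rw [Matrix.transpose_reindex, hM]
      · show (Matrix.reindex e e M).det ≠ 0
        rw [Matrix.det_reindex_self, hdet]
        exact mul_ne_zero (mul_ne_zero hr hr) hx
      · show IsSquare ((Matrix.reindex e e M).det * δ)
        rw [Matrix.det_reindex_self, hdet, mul_assoc, mul_comm _ δ]
        exact (IsSquare.mul_self r).mul hsq
      · rw [show (Matrix.reindexAlgEquiv F F e g)ᵀ = Matrix.reindexAlgEquiv F F e gᵀ from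
          Matrix.transpose_reindex .., ← map_mul, ← map_mul, hg]
      · show algebraMap F[X] (RatFunc F) (Matrix.reindex e e g).charpoly = _
        rw [Matrix.charpoly_reindex, hc]

/-- The interpolating polynomials. -/
noncomputable def hPol {n : ℕ} (u v : F) (c : Fin (n - 2) → F) : F[X] :=
  (X ^ 2 - C 4) * (X ^ (n - 2) + ∑ i, C (c i) * X ^ (i : ℕ)) + (C ((u - v) / 4) * X + C ((u + v) / 2))

theorem hPol_props (h2 : (2 : F) ≠ 0) {n : ℕ} (hn : 2 ≤ n) (u v : F) (c : Fin (n - 2) → F) :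
    (hPol u v c).Monic ∧ (hPol u v c).natDegree = n ∧ (hPol u v c).eval 2 = u ∧ (hPol u v c).eval (-2) = v := by
  have h4 : (4 : F) ≠ 0 := by
    rw [show (4 : F) = 2 * 2 by norm_num]
    exact mul_ne_zero h2 h2
  have hq : (X ^ 2 - C (4 : F)).Monic := monic_X_pow_sub_C _ two_ne_zero
  have hs : (∑ i, C (c i) * X ^ (i : ℕ)).degree < ((n - 2 : ℕ) : WithBot ℕ) := degree_sum_fin_lt c
  have hmm : (X ^ (n - 2) + ∑ i, C (c i) * X ^ (i : ℕ)).Monic := monic_X_pow_add hs
  have hmd : (X ^ (n - 2) + ∑ i, C (c i) * X ^ (i : ℕ)).natDegree = n - 2 := by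
    rw [natDegree_add_eq_left_of_degree_lt (by rw [degree_X_pow]; exact hs), natDegree_X_pow]
  have hpd : ((X ^ 2 - C (4 : F)) * (X ^ (n - 2) + ∑ i, C (c i) * X ^ (i : ℕ))).natDegree = n := by
    rw [hq.natDegree_mul hmm, natDegree_X_pow_sub_C, hmd]
    omega
  have hl : (C ((u - v) / 4) * X + C ((u + v) / 2) : F[X]).degree <
      ((X ^ 2 - C (4 : F)) * (X ^ (n - 2) + ∑ i, C (c i) * X ^ (i : ℕ))).degree := by
    rw [degree_eq_natDegree (hq.mul hmm).ne_zero, hpd]
    exact degree_linear_le.trans_lt (by exact_mod_cast (show 1 < n by omega))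
  refine ⟨(hq.mul hmm).add_of_left hl, ?_, ?_, ?_⟩
  · rw [hPol, natDegree_add_eq_left_of_degree_lt hl, hpd]
  · simp only [hPol, eval_add, eval_mul, eval_sub, eval_pow, eval_X, eval_C]
    field_simp
    ring
  · simp only [hPol, eval_add, eval_mul, eval_sub, eval_pow, eval_X, eval_C]
    field_simp
    ring

theorem hPol_inj (h2 : (2 : F) ≠ 0) {n : ℕ} (hn : 2 ≤ n) {u v u' v' : F} {c c' : Fin (n - 2) → F}
    (h : hPol u v c = hPol u' v' c') : u = u' ∧ v = v' ∧ c = c' := by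
  obtain ⟨-, -, a1, a2⟩ := hPol_props h2 hn u v c
  obtain ⟨-, -, b1, b2⟩ := hPol_props h2 hn u' v' c'
  rw [h] at a1 a2
  have hu : u = u' := a1.symm.trans b1
  have hv : v = v' := a2.symm.trans b2
  subst hu hv
  refine ⟨rfl, rfl, funext fun i => ?_⟩
  have hne : (X ^ 2 - C (4 : F)) ≠ 0 := (monic_X_pow_sub_C _ two_ne_zero).ne_zero
  have h' : ∑ i, C (c i) * X ^ (i : ℕ) = ∑ i, C (c' i) * X ^ (i : ℕ) :=
    add_left_cancel (mul_left_cancel₀ hne (add_right_cancel h))
  have := congrArg (fun P => P.coeff (i : ℕ)) h'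
  simpa [finsetSum_coeff, coeff_C_mul, coeff_X_pow, Fin.val_inj] using this

/-- Lower bound for orthogonal groups in even dimension. -/
theorem classes_orth_ge (hodd : Odd (Fintype.card F)) {n : ℕ} (hn : 2 ≤ n)
    (M : Matrix (Fin (n + n)) (Fin (n + n)) F) (hM : Mᵀ = M) (hMu : M.det ≠ 0) :
    Fintype.card F ^ n ≤ 2 * Nat.card (ConjClasses ↥(orthS M)) := by
  classical
  have h2 : (2 : F) ≠ 0 := Disc.two_ne_zero_of_odd hodd
  obtain ⟨ν, hν⟩ := FiniteField.exists_nonsquare (F := F) (fun h => by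
    have := FiniteField.even_card_of_char_two h
    obtain ⟨r, hr⟩ := hodd
    omega)
  have hν0 : ν ≠ 0 := fun h => hν (h ▸ IsSquare.zero)
  set κ := M.det * (-1 : F) ^ n with hκ
  have hκ0 : κ ≠ 0 := mul_ne_zero hMu (pow_ne_zero _ (neg_ne_zero.2 one_ne_zero))
  have hGood : Fintype.card F ^ 2 ≤ 2 * Nat.card {p : F × F // IsSquare (κ * (p.1 * p.2))} := by
    have h1 : Nat.card {p : F × F // ¬ IsSquare (κ * (p.1 * p.2))} ≤ Nat.card {p : F × F // IsSquare (κ * (p.1 * p.2))} := by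
      refine Nat.card_le_card_of_injective (fun p => ⟨(ν * p.1.1, p.1.2), ?_⟩) fun p p' h => ?_
      · rw [show κ * (ν * p.1.1 * p.1.2) = ν * (κ * (p.1.1 * p.1.2)) by ring]
        exact not_isSquare_mul hν p.2
      · have h' := congrArg Subtype.val h
        simp only [Prod.mk.injEq] at h'
        exact Subtype.ext (Prod.ext (mul_left_cancel₀ hν0 h'.1) h'.2)
    have h2' := Nat.card_congr (Equiv.sumCompl fun p : F × F => IsSquare (κ * (p.1 * p.2)))
    rw [Nat.card_sum, Nat.card_prod, Nat.card_eq_fintype_card (α := F)] at h2'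
    rw [pow_two]
    omega
  have hex : ∀ x : {p : F × F // IsSquare (κ * (p.1 * p.2))} × (Fin (n - 2) → F), ∃ a : orthS M,
      algebraMap F[X] (RatFunc F) (a : GL (Fin (n + n)) F).1.charpoly =
        RatFunc.X ^ n * aeval (S2385.yEl (F := F)) (hPol x.1.1.1 x.1.1.2 x.2) := by
    intro x
    obtain ⟨hm, hd, e1, e2⟩ := hPol_props h2 hn x.1.1.1 x.1.1.2 x.2
    obtain ⟨M', g, hM', hdet', hsq, hg, hc, -⟩ := exists_orth_element h2 n _ hm hd M.det hMu (by
      rw [e1, e2]
      rw [show M.det * ((-1 : F) ^ n * x.1.1.1 * x.1.1.2) = M.det * (-1 : F) ^ n * (x.1.1.1 * x.1.1.2) by ring]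
      exact x.1.2)
    obtain ⟨y, hy⟩ := UnipotentForms.exists_congr_sym h2 M' M hM' hM hdet' hMu hsq
    have hyu : IsUnit y.det := isUnit_iff_ne_zero.2 fun e => hMu (by rw [← hy, Matrix.det_mul, e, mul_zero])
    have hgu : IsUnit g := by
      rw [Matrix.isUnit_iff_isUnit_det, isUnit_iff_ne_zero]
      intro e
      have := congrArg Matrix.det hg
      rw [Matrix.det_mul, e, mul_zero] at this
      exact hdet' this.symm
    let Y : GL (Fin (n + n)) F := Matrix.nonsingInvUnit y hyu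
    let a : GL (Fin (n + n)) F := Y⁻¹ * hgu.unit * Y
    refine ⟨⟨a, fun u v => ?_⟩, ?_⟩
    · show (a.1 *ᵥ u) ⬝ᵥ (M *ᵥ (a.1 *ᵥ v)) = u ⬝ᵥ (M *ᵥ v)
      have key : a.1ᵀ * M * a.1 = M := by
        have hYY : Y.1 * (Y⁻¹).1 = 1 := Y.mul_inv
        show ((Y⁻¹).1 * g * Y.1)ᵀ * M * ((Y⁻¹).1 * g * Y.1) = M
        rw [← hy]
        show ((Y⁻¹).1 * g * Y.1)ᵀ * (Y.1ᵀ * M' * Y.1) * ((Y⁻¹).1 * g * Y.1) = _
        calc _ = Y.1ᵀ * gᵀ * (Y.1 * (Y⁻¹).1)ᵀ * M' * (Y.1 * (Y⁻¹).1) * g * Y.1 := by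
              simp only [Matrix.transpose_mul, Matrix.mul_assoc]
          _ = Y.1ᵀ * (gᵀ * M' * g) * Y.1 := by
              rw [hYY, Matrix.transpose_one, Matrix.mul_one, Matrix.mul_one]; simp only [Matrix.mul_assoc]
          _ = _ := by rw [hg]; rfl
      conv_rhs => rw [← key, ← Matrix.mulVec_mulVec, ← Matrix.mulVec_mulVec, Matrix.dotProduct_mulVec u,
        Matrix.vecMul_transpose]
    · show algebraMap F[X] (RatFunc F) ((Y⁻¹).1 * g * Y.1).charpoly = _
      rw [Matrix.coe_units_inv, Matrix.charpoly_units_conj', hc]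
  choose a ha using hex
  have hinj : Function.Injective fun x => ConjClasses.mk (a x) := by
    intro x x' h
    obtain ⟨c, hc⟩ := isConj_iff.1 (ConjClasses.mk_eq_mk_iff_isConj.1 h)
    have e : (a x' : GL (Fin (n + n)) F).1.charpoly = (a x : GL (Fin (n + n)) F).1.charpoly := by
      rw [← hc, Subgroup.coe_mul, Subgroup.coe_mul, Subgroup.coe_inv, Units.val_mul, Units.val_mul,
        Matrix.coe_units_inv, Matrix.charpoly_units_conj]
    have e' := congrArg (algebraMap F[X] (RatFunc F)) e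
    rw [ha, ha] at e'
    have e'' := mul_left_cancel₀ (pow_ne_zero n RatFunc.X_ne_zero) e'
    have hp : hPol x'.1.1.1 x'.1.1.2 x'.2 = hPol x.1.1.1 x.1.1.2 x.2 := by
      by_contra hne
      exact S2385.aeval_y_ne (sub_ne_zero.2 hne) (by rw [map_sub, sub_eq_zero]; exact e'')
    obtain ⟨h1, h2', h3⟩ := hPol_inj h2 hn hp
    exact Prod.ext (Subtype.ext (Prod.ext h1.symm h2'.symm)) h3.symm
  have h := Nat.card_le_card_of_injective _ hinj
  rw [Nat.card_prod, Nat.card_fun, Nat.card_fin, Nat.card_eq_fintype_card (α := F)] at h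
  calc Fintype.card F ^ n = Fintype.card F ^ 2 * Fintype.card F ^ (n - 2) := by rw [← pow_add]; congr 1; omega
    _ ≤ 2 * Nat.card {p : F × F // IsSquare (κ * (p.1 * p.2))} * Fintype.card F ^ (n - 2) := Nat.mul_le_mul_right _ hGood
    _ ≤ _ := by rw [mul_assoc]; exact Nat.mul_le_mul_left _ h

/-- Transport of an isometry group to matrices on `Fin N`. -/
theorem exists_transport (h2 : (2 : F) ≠ 0) {ι : Type} [Fintype ι] [DecidableEq ι] {N : ℕ}
    (e : ι ≃ Fin N) (Q : (ι → F) → F) (G : Matrix ι ι F) (hG : Gᵀ = G)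
    (hQ : ∀ v, 2 * Q v = v ⬝ᵥ (G *ᵥ v)) :
    ∃ Φ : ↥(Cfsg.isometryGroup F Q) ≃* ↥(orthS (Matrix.reindex e e G)),
      ∀ g, (Φ g).1.1 = Matrix.reindex e e g.1.1 := by
  classical
  let φ : GL ι F ≃* GL (Fin N) F := Units.mapEquiv (Matrix.reindexAlgEquiv F F e).toMulEquiv
  have hR : ∀ (X : Matrix ι ι F) (v : Fin N → F), Matrix.reindex e e X *ᵥ v = (X *ᵥ (v ∘ e)) ∘ e.symm := by
    intro X v
    funext i
    simp [Matrix.mulVec, dotProduct, ← e.sum_comp]
  have hdot : ∀ u v : ι → F, (u ∘ e.symm) ⬝ᵥ (v ∘ e.symm) = u ⬝ᵥ v := fun u v => by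
    simp [dotProduct, ← e.sum_comp]
  have hsym : ∀ u v : ι → F, v ⬝ᵥ (G *ᵥ u) = u ⬝ᵥ (G *ᵥ v) := fun u v => by
    rw [dotProduct_comm, ← Matrix.vecMul_transpose, hG, ← Matrix.dotProduct_mulVec]
  have hmem : (Cfsg.isometryGroup F Q).map φ.toMonoidHom = orthS (Matrix.reindex e e G) := by
    ext x
    obtain ⟨g, rfl⟩ := φ.surjective x
    rw [Subgroup.mem_map]
    constructor
    · rintro ⟨g', hg', hgg⟩
      obtain rfl := φ.injective hgg
      intro u v
      show (Matrix.reindex e e g'.1 *ᵥ u) ⬝ᵥ (Matrix.reindex e e G *ᵥ (Matrix.reindex e e g'.1 *ᵥ v)) =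
        u ⬝ᵥ (Matrix.reindex e e G *ᵥ v)
      obtain ⟨a, rfl⟩ : ∃ a, u = a ∘ e.symm := ⟨u ∘ e, funext fun i => by simp⟩
      obtain ⟨b, rfl⟩ : ∃ b, v = b ∘ e.symm := ⟨v ∘ e, funext fun i => by simp⟩
      have hc : ∀ w : ι → F, (w ∘ ⇑e.symm) ∘ ⇑e = w := fun w => funext fun i => by simp
      simp only [hR, hc, hdot]
      have hq : ∀ w, Q (g'.1 *ᵥ w) = Q w := fun w => hg' w w
      have k1 := hQ (g'.1 *ᵥ (a + b))
      have k2 := hQ (g'.1 *ᵥ a)
      have k3 := hQ (g'.1 *ᵥ b)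
      have l1 := hQ (a + b)
      have l2 := hQ a
      have l3 := hQ b
      rw [hq] at k1 k2 k3
      simp only [Matrix.mulVec_add, add_dotProduct, dotProduct_add, hsym (g'.1 *ᵥ a) (g'.1 *ᵥ b), hsym a b] at k1 l1
      refine mul_left_cancel₀ h2 ?_
      linear_combination l1 - k1 + k2 + k3 - l2 - l3
    · intro h
      refine ⟨g, fun w _ => ?_, rfl⟩
      show Q (g.1 *ᵥ w) = Q w
      refine mul_left_cancel₀ h2 ?_
      rw [hQ, hQ]
      have h' := h (w ∘ e.symm) (w ∘ e.symm)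
      change (Matrix.reindex e e g.1 *ᵥ _) ⬝ᵥ (Matrix.reindex e e G *ᵥ (Matrix.reindex e e g.1 *ᵥ _)) =
        _ ⬝ᵥ (Matrix.reindex e e G *ᵥ _) at h'
      rw [hR g.1, hR G, hdot, hR G, hdot] at h'
      simpa [Function.comp_assoc] using h'
  let Φ : ↥(Cfsg.isometryGroup F Q) ≃* ↥(orthS (Matrix.reindex e e G)) :=
    ((Cfsg.isometryGroup F Q).equivMapOfInjective φ.toMonoidHom φ.injective).trans (MulEquiv.subgroupCongr hmem)
  exact ⟨Φ, fun g => rfl⟩

/-- The number of classes is transported. -/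
theorem card_classes_transport (h2 : (2 : F) ≠ 0) {ι : Type} [Fintype ι] [DecidableEq ι] {N : ℕ}
    (e : ι ≃ Fin N) (Q : (ι → F) → F) (G : Matrix ι ι F) (hG : Gᵀ = G)
    (hQ : ∀ v, 2 * Q v = v ⬝ᵥ (G *ᵥ v)) :
    Nat.card (ConjClasses ↥(Cfsg.isometryGroup F Q)) = Nat.card (ConjClasses ↥(orthS (Matrix.reindex e e G))) := by
  obtain ⟨Φ, -⟩ := exists_transport h2 e Q G hG hQ
  haveI : Finite ↥(Cfsg.isometryGroup F Q) := Finite.of_injective (fun g => g.1) Subtype.val_injective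
  refine le_antisymm ?_ ?_
  · exact Nat.card_le_card_of_surjective _ (ConjClasses.map_surjective (f := Φ.symm.toMonoidHom) Φ.symm.surjective)
  · exact Nat.card_le_card_of_surjective _ (ConjClasses.map_surjective (f := Φ.toMonoidHom) Φ.surjective)

end Cfsg.Agent.ClassNum
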