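import Cfsg.Agent.Lib.ClassNum.SplitWeight
import Cfsg.Agent.Lib.ClassNum.OrthLower
import Cfsg.Agent.Lib.ClassNum.IndexTwo
import Cfsg.Agent.Lib.Spinor.Rows

/-!
Classes of the spinor kernel in odd dimension and odd characteristic: an element with two blocks of size
one at the same eigenvalue `±1` is centralised by a product of two reflections of nonsquare spinor norm.
-/

set_option autoImplicit false
set_option linter.unusedSectionVars false

namespace Cfsg.Agent.ClassNum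

open Polynomial S2478 FormsLib FormTorus JordanType
open scoped Matrix

universe u

variable {F : Type u} [Field F] [Fintype F] {ι : Type} [Fintype ι] [DecidableEq ι] {N : ℕ}

theorem rf_mulVec {Q : QuadraticForm F (ι → F)} {v : ι → F} (hv : Q v ≠ 0) (x : ι → F) :
    (OrthRows.rf Q v hv).1.1 *ᵥ x = x - (QuadraticMap.polar Q x v / Q v) • v := by
  rw [OrthRows.rf_val, reflectionMatrix_mulVec, reflHom_apply, div_eq_inv_mul]

theorem commute_rf {Q : QuadraticForm F (ι → F)} {v : ι → F} (hv : Q v ≠ 0) (g : Cfsg.isometryGroup F ⇑Q)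
    {c : F} (hc : c * c = 1) (hgv : g.1.1 *ᵥ v = c • v) : Commute (OrthRows.rf Q v hv) g := by
  refine Subtype.ext (Units.ext (Matrix.ext_of_mulVec_single fun i => ?_))
  have hq : ∀ x, Q (g.1.1 *ᵥ x) = Q x := fun x => g.2 x x
  show ((OrthRows.rf Q v hv).1.1 * g.1.1) *ᵥ _ = (g.1.1 * (OrthRows.rf Q v hv).1.1) *ᵥ _
  generalize (Pi.single i 1 : ι → F) = x
  rw [← Matrix.mulVec_mulVec, ← Matrix.mulVec_mulVec, rf_mulVec, rf_mulVec, Matrix.mulVec_sub,
    Matrix.mulVec_smul, hgv, smul_smul]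
  congr 2
  have h : QuadraticMap.polar Q (g.1.1 *ᵥ x) (g.1.1 *ᵥ v) = QuadraticMap.polar Q x v := by
    simp only [QuadraticMap.polar, ← Matrix.mulVec_add, hq]
  rw [hgv, QuadraticMap.polar_smul_right, smul_eq_mul] at h
  rw [← h, mul_div_assoc, mul_assoc, mul_comm (QuadraticMap.polar Q (g.1.1 *ᵥ x) v / Q v), ← mul_assoc, hc, one_mul]

theorem polar_gram (h2 : (2 : F) ≠ 0) {Q : QuadraticForm F (ι → F)} {G : Matrix ι ι F} (hG : Gᵀ = G)
    (hQG : ∀ v, 2 * Q v = v ⬝ᵥ (G *ᵥ v)) (u v : ι → F) : QuadraticMap.polar Q u v = u ⬝ᵥ (G *ᵥ v) := by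
  refine mul_left_cancel₀ h2 ?_
  have hs : v ⬝ᵥ (G *ᵥ u) = u ⬝ᵥ (G *ᵥ v) := by
    rw [dotProduct_comm, ← Matrix.vecMul_transpose, hG, ← Matrix.dotProduct_mulVec]
  have l1 := hQG (u + v)
  simp only [Matrix.mulVec_add, add_dotProduct, dotProduct_add, hs] at l1
  simp only [QuadraticMap.polar]
  linear_combination l1 - hQG u - hQG v

/-- Two blocks of size one at the same eigenvalue prevent splitting. -/
theorem exists_spin_centralizer (h2 : (2 : F) ≠ 0) {Q : QuadraticForm F (ι → F)}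
    (hQ : (QuadraticMap.polarBilin Q).Nondegenerate) (hexc : Fintype.card F ≠ 2 ∨ Fintype.card ι ≠ 4)
    {G : Matrix ι ι F} (hG : Gᵀ = G) (hGu : G.det ≠ 0) (hQG : ∀ v, 2 * Q v = v ⬝ᵥ (G *ᵥ v)) (e : ι ≃ Fin N)
    {M : Matrix (Fin N) (Fin N) F} (hMdef : M = Matrix.reindex e e G)
    (g : Cfsg.isometryGroup F ⇑Q) (h : orthS M) (hh : h.1.1 = Matrix.reindex e e g.1.1)
    {c : F} (hc : c * c = 1) {j : Fin N} (hj : (j : ℕ) = 0)
    (hr : 2 ≤ ((tupG h.1).1 j).1.rootMultiplicity c) :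
    ∃ z, Commute z g ∧ z ∈ Cfsg.specialIsometryGroup F ⇑Q ∧ OrthRows.sp hQ hexc z = -1 := by
  classical
  have hM : Mᵀ = M := by rw [hMdef, Matrix.transpose_reindex, hG]
  have hMu : M.det ≠ 0 := by rwa [hMdef, Matrix.det_reindex_self]
  set B := Matrix.toBilin' M with hBdef
  have hsym : ∀ u v, B u v = B v u := fun u v => by
    rw [hBdef, Matrix.toBilin'_apply', Matrix.toBilin'_apply', dotProduct_comm, ← Matrix.vecMul_transpose, hM,
      ← Matrix.dotProduct_mulVec]
  have hV : IsTraceForm (RingHom.id F) (1 : F) B :=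
    { invol := fun a => rfl
      eps := by simp
      flip := fun u v => by rw [RingHom.id_apply, one_mul, hsym]
      trace := fun u => ⟨2⁻¹ * B u u, by rw [RingHom.id_apply, one_mul, ← add_mul, ← two_mul,
        mul_inv_cancel₀ h2, one_mul]⟩
      nondeg := fun u hu => (Matrix.nondegenerate_toBilin'_iff.2
        (Matrix.nondegenerate_of_det_ne_zero hMu)).1 u hu }
  have hpres : ∀ u v, B (Matrix.toLin' h.1.1 u) (Matrix.toLin' h.1.1 v) = B u v := fun u v => by
    rw [hBdef, Matrix.toBilin'_apply', Matrix.toBilin'_apply', Matrix.toLin'_apply, Matrix.toLin'_apply]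
    exact h.2 u v
  have hRe : ∀ (X : Matrix ι ι F) (v : Fin N → F), Matrix.reindex e e X *ᵥ v = (X *ᵥ (v ∘ e)) ∘ e.symm := by
    intro X v
    funext i
    simp [Matrix.mulVec, dotProduct, ← e.sum_comp]
  have hBG : ∀ u v : Fin N → F, B u v = (u ∘ e) ⬝ᵥ (G *ᵥ (v ∘ e)) := fun u v => by
    rw [hBdef, Matrix.toBilin'_apply', hMdef, hRe, dotProduct, dotProduct, ← e.sum_comp]
    simp
  obtain ⟨t, d, L, hd, hL⟩ := exists_coord (Matrix.toLin' h.1.1) hc
  have hd1 : ∀ k, 1 ≤ d k := fun k => (hd k).1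
  rw [count_coord h.1 hc hL j, hj, zero_add] at hr
  obtain ⟨k₀, hk₀⟩ := Finset.card_pos.1 (lt_of_lt_of_le (show 0 < 2 by norm_num) hr)
  let i : Fin (Finset.univ.sup d + 1) :=
    ⟨1, Nat.lt_succ_of_le ((Finset.mem_filter.1 hk₀).2 ▸ Finset.le_sup (Finset.mem_univ k₀))⟩
  have hKB : 2 ≤ Fintype.card (S2581.KB d i) := by
    rw [Fintype.card_subtype]
    exact hr
  let ext : (S2581.KB d i → F) →ₗ[F] Idx d → F :=
    { toFun := fun w a => if hd' : d a.1 = (i : ℕ) then w ⟨a.1, hd'⟩ else 0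
      map_add' := fun w w' => by funext a; simp only [Pi.add_apply]; split_ifs <;> simp
      map_smul' := fun r w => by funext a; simp only [Pi.smul_apply, RingHom.id_apply]; split_ifs <;> simp }
  let f : (S2581.KB d i → F) →ₗ[F] ι → F := (LinearMap.funLeft F F e) ∘ₗ L ∘ₗ ext
  let Q' : QuadraticForm F (S2581.KB d i → F) := Q.comp f
  have hext : ∀ w (a : Idx d), ext w a = if hd' : d a.1 = (i : ℕ) then w ⟨a.1, hd'⟩ else 0 := fun w a => rfl
  have hsum : ∀ (w : S2581.KB d i → F) (φ : Idx d → F),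
      ext w ⬝ᵥ φ = ∑ m : S2581.KB d i, w m * φ ⟨m.1, ⟨0, hd1 m.1⟩⟩ := by
    intro w φ
    rw [dotProduct]
    refine (Fintype.sum_of_injective (fun m : S2581.KB d i => (⟨m.1, ⟨0, hd1 m.1⟩⟩ : Idx d))
      (fun m m' e => Subtype.ext (congrArg Sigma.fst e)) _ _ ?_ ?_).symm
    · intro a ha
      obtain ⟨l, ⟨r, hr'⟩⟩ := a
      rw [hext, dif_neg, zero_mul]
      intro e1
      exact ha ⟨⟨l, e1⟩, congrArg (Sigma.mk _) (Fin.ext (show 0 = r by simp only [i] at e1; omega))⟩
    · intro m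
      rw [hext, dif_pos m.2]
  have hgram : ∀ w w', QuadraticMap.polar Q' w w' =
      w ⬝ᵥ (UnipotentCentralizer.block hd1 (gram B L) i *ᵥ w') := by
    intro w w'
    show QuadraticMap.polar (fun x => Q (f x)) w w' = _
    rw [QuadraticMap.polar, map_add]
    show QuadraticMap.polar Q (f w) (f w') = _
    rw [polar_gram h2 hG hQG]
    show (L (ext w) ∘ e) ⬝ᵥ (G *ᵥ (L (ext w') ∘ e)) = _
    rw [← hBG, ← gram_apply, hsum, dotProduct]
    refine Finset.sum_congr rfl fun m _ => congrArg (w m * ·) ?_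
    rw [Matrix.mulVec, dotProduct_comm, hsum, Matrix.mulVec, dotProduct_comm, dotProduct]
    refine Finset.sum_congr rfl fun l _ => ?_
    rw [mul_comm, mul_comm (w' l), UnipotentCentralizer.block]
    congr 2
    exact congrArg (Sigma.mk _) (Fin.ext (show 0 = d l.1 - 1 by rw [l.2]; rfl))
  have hQ' : (QuadraticMap.polarBilin Q').Nondegenerate := by
    have hu : (UnipotentCentralizer.block hd1 (gram B L) i).det ≠ 0 :=
      ((Matrix.isUnit_iff_isUnit_det _).1 (UnipotentForms.block_isUnit _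
        (gram_invariant hpres hc hL) (sym_zero (gram_symm hsym _)) (gram_isUnit hV hpres hc hL) i)).ne_zero
    have e' : QuadraticMap.polarBilin Q' = Matrix.toBilin' (UnipotentCentralizer.block hd1 (gram B L) i) :=
      LinearMap.ext₂ fun w w' => by
        rw [QuadraticMap.polarBilin_apply_apply, hgram, Matrix.toBilin'_apply']
    rw [e']
    exact Matrix.nondegenerate_toBilin'_iff.2 (Matrix.nondegenerate_of_det_ne_zero hu)
  obtain ⟨ν, hν⟩ := FiniteField.exists_nonsquare (F := F) (Spinor.ringChar_ne_two h2)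
  have hν0 : ν ≠ 0 := fun h => hν (h ▸ IsSquare.zero)
  obtain ⟨w1, hw1⟩ := OrthRows.exists_norm_all hQ' hKB one_ne_zero
  obtain ⟨w2, hw2⟩ := OrthRows.exists_norm_all hQ' hKB hν0
  have hfix : ∀ w, g.1.1 *ᵥ f w = c • f w := by
    intro w
    have hshift : shift F d *ᵥ ext w = 0 := by
      funext a
      rw [Matrix.mulVec, dotProduct, Pi.zero_apply]
      refine Finset.sum_eq_zero fun b _ => ?_
      rw [shift_apply, hext]
      split_ifs with h1 h2'
      · exfalso
        have h3 : (a.2 : ℕ) < d b.1 := h1.1 ▸ a.2.2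
        simp only [i] at h2'
        omega
      all_goals simp
    have h1 := hL.2.2 (ext w)
    rw [Matrix.add_mulVec, Matrix.one_mulVec, hshift, add_zero, Matrix.toLin'_apply] at h1
    have h1' : h.1.1 *ᵥ L (ext w) = c • L (ext w) := by
      conv_rhs => rw [← h1, smul_smul, hc, one_smul]
    rw [hh, hRe] at h1'
    funext x
    have := congrFun h1' (e x)
    show (g.1.1 *ᵥ fun x => L (ext w) (e x)) x = c * L (ext w) (e x)
    simpa [Function.comp_def] using this
  have hv1 : Q (f w1) ≠ 0 := by show Q' w1 ≠ 0; rw [hw1]; exact one_ne_zero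
  have hv2 : Q (f w2) ≠ 0 := by show Q' w2 ≠ 0; rw [hw2]; exact hν0
  refine ⟨OrthRows.rf Q _ hv1 * OrthRows.rf Q _ hv2,
    (commute_rf hv1 g hc (hfix w1)).mul_left (commute_rf hv2 g hc (hfix w2)), OrthRows.rf_mul_rf_mem hv1 hv2, ?_⟩
  rw [map_mul, OrthRows.sp_rf, OrthRows.sp_rf, if_pos, if_neg, one_mul]
  · show ¬ IsSquare (Q' w2)
    rwa [hw2]
  · show IsSquare (Q' w1)
    rw [hw1]
    exact IsSquare.one

theorem cntG_one_odd (q : ℕ) : ∀ m k, cntG q (fun _ => 1) m (2 * k + 1) = 0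
  | 0, k => by rw [cntG, if_neg (by omega)]
  | m + 1, k => by
    rw [cntG]
    refine Finset.sum_eq_zero fun a ha => ?_
    rw [Finset.mem_range, Nat.lt_succ_iff, Nat.le_div_iff_mul_le (Nat.succ_pos m)] at ha
    rcases Nat.even_or_odd a with ⟨b, rfl⟩ | hao
    · have h1 : (m + 1) * (b + b) = 2 * ((m + 1) * b) := by ring
      have h3 : 2 * ((m + 1) * b) ≤ 2 * k + 1 := by nlinarith
      rw [show 2 * k + 1 - (m + 1) * (b + b) = 2 * (k - (m + 1) * b) + 1 by omega, cntG_one_odd q m, mul_zero]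
    · rw [cwS, if_neg (by decide), cO, if_neg (Nat.not_even_iff_odd.2 hao), zero_mul]

end Cfsg.Agent.ClassNum
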