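import Cfsg.Agent.Lib.ClassNum.OmegaClasses
import Cfsg.Agent.Lib.Forms.OddInvol

/-!
The class number of `Ω` of an odd-dimensional quadratic space over a field of odd order.
-/

set_option autoImplicit false
set_option linter.unusedSectionVars false

namespace Cfsg.Agent.ClassNum

open Polynomial S2478 FormsLib FormTorus
open scoped Matrix

universe u

variable {F : Type u} [Field F] [Fintype F]

/-- Semisimple classes of the special orthogonal group in odd dimension. -/
theorem classes_special_ge (hodd : Odd (Fintype.card F)) {n : ℕ} (M : Matrix (Fin (n + n + 1)) (Fin (n + n + 1)) F)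
    (hM : Mᵀ = M) (hMu : M.det ≠ 0) :
    Fintype.card F ^ n ≤
      Nat.card (ConjClasses ↥((Matrix.GeneralLinearGroup.det.comp (orthS M).subtype).ker)) := by
  classical
  have h2 : (2 : F) ≠ 0 := Disc.two_ne_zero_of_odd hodd
  let H := (Matrix.GeneralLinearGroup.det.comp (orthS M).subtype).ker
  let hp : (Fin n → F) → F[X] := fun c => X ^ n + ∑ i, C (c i) * X ^ (i : ℕ)
  have hex : ∀ c : Fin n → F, ∃ a : H, algebraMap F[X] (RatFunc F) ((a : orthS M) : GL (Fin (n + n + 1)) F).1.charpoly =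
      algebraMap F[X] (RatFunc F) (X - C 1) * (RatFunc.X ^ n * aeval (S2385.yEl (F := F)) (hp c)) := by
    intro c
    have hs : (∑ i, C (c i) * X ^ (i : ℕ)).degree < ((n : ℕ) : WithBot ℕ) := degree_sum_fin_lt c
    have hm : (hp c).Monic := monic_X_pow_add hs
    have hd : (hp c).natDegree = n := by
      rw [natDegree_add_eq_left_of_degree_lt (by rw [degree_X_pow]; exact hs), natDegree_X_pow]
    set x := (-1 : F) ^ n * (hp c).eval 2 * (hp c).eval (-2) with hx
    obtain ⟨δ, hδ, hsqδ⟩ : ∃ δ : F, δ ≠ 0 ∧ IsSquare (δ * x) := by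
      by_cases e : x = 0
      · exact ⟨1, one_ne_zero, by rw [e, mul_zero]; exact IsSquare.zero⟩
      · exact ⟨x, e, ⟨x, rfl⟩⟩
    obtain ⟨M₁, g₁, hM₁, hdet₁, -, hg₁, hc₁, hgd₁⟩ := exists_orth_element h2 n _ hm hd δ hδ hsqδ
    let e : Fin (n + n) ⊕ Fin 1 ≃ Fin (n + n + 1) := finSumFinEquiv
    let D : Matrix (Fin 1) (Fin 1) F := Matrix.diagonal fun _ => M.det / M₁.det
    let M' := Matrix.reindexAlgEquiv F F e (Matrix.fromBlocks M₁ 0 0 D)
    let g := Matrix.reindexAlgEquiv F F e (Matrix.fromBlocks g₁ 0 0 1)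
    have hM' : M'ᵀ = M' := by
      show (Matrix.reindex e e _)ᵀ = Matrix.reindex e e _
      rw [Matrix.transpose_reindex, Matrix.fromBlocks_transpose, hM₁, Matrix.diagonal_transpose]
      simp [D]
    have hMd : M'.det = M.det := by
      show (Matrix.reindex e e _).det = _
      rw [Matrix.det_reindex_self, Matrix.det_fromBlocks_zero₁₂, Matrix.det_diagonal, Fin.prod_univ_one,
        mul_div_cancel₀ _ hdet₁]
    have hgd : g.det = 1 := by
      show (Matrix.reindex e e _).det = _
      rw [Matrix.det_reindex_self, Matrix.det_fromBlocks_zero₁₂, hgd₁, Matrix.det_one, mul_one]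
    have hg : gᵀ * M' * g = M' := by
      rw [show gᵀ = Matrix.reindexAlgEquiv F F e (Matrix.fromBlocks g₁ 0 0 1)ᵀ from Matrix.transpose_reindex ..,
        ← map_mul, ← map_mul]
      congr 1
      simp [Matrix.fromBlocks_transpose, Matrix.fromBlocks_multiply, hg₁]
    obtain ⟨y, hy⟩ := UnipotentForms.exists_congr_sym h2 M' M hM' hM (hMd ▸ hMu) hMu (by rw [hMd]; exact ⟨_, rfl⟩)
    have hyu : IsUnit y.det := isUnit_iff_ne_zero.2 fun e => hMu (by rw [← hy, Matrix.det_mul, e, mul_zero])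
    let Y : GL (Fin (n + n + 1)) F := Matrix.nonsingInvUnit y hyu
    have hgu : IsUnit g.det := by rw [hgd]; exact isUnit_one
    let a : GL (Fin (n + n + 1)) F := Y⁻¹ * Matrix.nonsingInvUnit g hgu * Y
    have hmem : a ∈ orthS M := by
      intro u v
      show (a.1 *ᵥ u) ⬝ᵥ (M *ᵥ (a.1 *ᵥ v)) = u ⬝ᵥ (M *ᵥ v)
      have key : a.1ᵀ * M * a.1 = M := by
        have hYY : Y.1 * (Y⁻¹).1 = 1 := Y.mul_inv
        show ((Y⁻¹).1 * g * Y.1)ᵀ * M * ((Y⁻¹).1 * g * Y.1) = M
        rw [← hy]
        show ((Y⁻¹).1 * g * Y.1)ᵀ * (Y.1ᵀ * M' * Y.1) * ((Y⁻¹).1 * g * Y.1) = _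
        calc _ = Y.1ᵀ * gᵀ * (Y.1 * (Y⁻¹).1)ᵀ * M' * (Y.1 * (Y⁻¹).1) * g * Y.1 := by
              simp only [Matrix.transpose_mul, Matrix.mul_assoc]
          _ = Y.1ᵀ * (gᵀ * M' * g) * Y.1 := by
              rw [hYY, Matrix.transpose_one, Matrix.mul_one, Matrix.mul_one]; simp only [Matrix.mul_assoc]
          _ = _ := by rw [hg]; rfl
      conv_rhs => rw [← key, ← Matrix.mulVec_mulVec, ← Matrix.mulVec_mulVec, Matrix.dotProduct_mulVec u,
        Matrix.vecMul_transpose]
    refine ⟨⟨⟨a, hmem⟩, Units.ext ?_⟩, ?_⟩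
    · show a.1.det = 1
      show ((Y⁻¹).1 * g * Y.1).det = 1
      rw [Matrix.coe_units_inv, Matrix.det_conj' Y.isUnit, hgd]
    · show algebraMap F[X] (RatFunc F) ((Y⁻¹).1 * g * Y.1).charpoly = _
      rw [Matrix.coe_units_inv, Matrix.charpoly_units_conj']
      show algebraMap F[X] (RatFunc F) (Matrix.reindex e e _).charpoly = _
      rw [Matrix.charpoly_reindex, Matrix.charpoly_fromBlocks_zero₁₂, Matrix.charpoly_one, map_mul, hc₁]
      simp [mul_comm]
  choose a ha using hex
  refine le_trans (le_of_eq ?_) (Nat.card_le_card_of_injective (fun c => ConjClasses.mk (a c)) ?_)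
  · rw [Nat.card_fun, Nat.card_fin, Nat.card_eq_fintype_card]
  intro c c' h
  obtain ⟨z, hz⟩ := isConj_iff.1 (ConjClasses.mk_eq_mk_iff_isConj.1 h)
  have e : ((a c' : orthS M) : GL (Fin (n + n + 1)) F).1.charpoly =
      ((a c : orthS M) : GL (Fin (n + n + 1)) F).1.charpoly := by
    rw [← hz, Subgroup.coe_mul, Subgroup.coe_mul, Subgroup.coe_inv, Subgroup.coe_mul, Subgroup.coe_mul,
      Subgroup.coe_inv, Units.val_mul, Units.val_mul, Matrix.coe_units_inv, Matrix.charpoly_units_conj]
  have e' := congrArg (algebraMap F[X] (RatFunc F)) e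
  rw [ha, ha] at e'
  have h1 : algebraMap F[X] (RatFunc F) (X - C 1) ≠ 0 :=
    (map_ne_zero_iff _ (RatFunc.algebraMap_injective F)).2 (X_sub_C_ne_zero 1)
  have e'' := mul_left_cancel₀ (pow_ne_zero n RatFunc.X_ne_zero) (mul_left_cancel₀ h1 e')
  have hp' : hp c' = hp c := by
    by_contra hne
    exact S2385.aeval_y_ne (sub_ne_zero.2 hne) (by rw [map_sub, sub_eq_zero]; exact e'')
  funext i
  have := congrArg (fun P => P.coeff (i : ℕ)) (add_left_cancel hp')
  simpa [finsetSum_coeff, coeff_C_mul, coeff_X_pow, Fin.val_inj] using this.symm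

/-- The minus identity. -/
def negOne {ι : Type} [Fintype ι] [DecidableEq ι] (Q : QuadraticForm F (ι → F)) : Cfsg.isometryGroup F ⇑Q :=
  ⟨-1, fun u _ => by
    show Q ((-(1 : Matrix ι ι F)) *ᵥ u) = Q u
    rw [Matrix.neg_mulVec, Matrix.one_mulVec, QuadraticMap.map_neg]⟩

/-- The class bounds for the group `Ω` in odd dimension. -/
theorem omega_odd_bounds (hodd : Odd (Fintype.card F)) (n : ℕ) (hn : 2 ≤ n) :
    Fintype.card F ^ n ≤ 2 * Nat.card (ConjClasses ↥(Cfsg.Omega F (Cfsg.quadFormOdd n F))) ∧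
      10 * Nat.card (ConjClasses ↥(Cfsg.Omega F (Cfsg.quadFormOdd n F))) ≤ 73 * Fintype.card F ^ n := by
  classical
  have h2 : (2 : F) ≠ 0 := Disc.two_ne_zero_of_odd hodd
  rw [← coe_qOdd]
  set Q := qOdd n F with hQdef
  have hQ : (QuadraticMap.polarBilin Q).Nondegenerate := qOdd_nondeg h2
  have hexc : Fintype.card F ≠ 2 ∨ Fintype.card (Unit ⊕ (Fin n ⊕ Fin n)) ≠ 4 := Or.inl (Spinor.card_ne_two h2)
  let G : Matrix (Unit ⊕ (Fin n ⊕ Fin n)) (Unit ⊕ (Fin n ⊕ Fin n)) F :=
    Matrix.fromBlocks (Matrix.diagonal fun _ => 2) 0 0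
      (Matrix.fromBlocks (0 : Matrix (Fin n) (Fin n) F) 1 (1 : Matrix (Fin n) (Fin n) F) 0)
  have hG : Gᵀ = G := by simp [G, Matrix.fromBlocks_transpose]
  have hGu : G.det ≠ 0 := by
    have h : Matrix.fromBlocks (0 : Matrix (Fin n) (Fin n) F) (1 : Matrix (Fin n) (Fin n) F) (1 : Matrix (Fin n) (Fin n) F) 0 *
        Matrix.fromBlocks 1 0 1 1 = Matrix.fromBlocks (1 : Matrix (Fin n) (Fin n) F) 1 1 0 := by
      simp [Matrix.fromBlocks_multiply]
    have h' := congrArg Matrix.det h
    rw [Matrix.det_mul, Matrix.det_fromBlocks_zero₁₂, Matrix.det_one, mul_one, mul_one,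
      Matrix.det_fromBlocks_one₁₁, Matrix.mul_one, zero_sub, Matrix.det_neg, Matrix.det_one, mul_one,
      Fintype.card_fin] at h'
    rw [Matrix.det_fromBlocks_zero₁₂, Matrix.det_diagonal, h']
    exact mul_ne_zero (Finset.prod_ne_zero_iff.2 fun _ _ => h2) (pow_ne_zero _ (neg_ne_zero.2 one_ne_zero))
  have hQG : ∀ v, 2 * Q v = v ⬝ᵥ (G *ᵥ v) := by
    intro v
    simp only [G, hQdef, qOdd_apply, Matrix.fromBlocks_mulVec, Matrix.mulVec_diagonal, Matrix.zero_mulVec,
      Matrix.one_mulVec, zero_add, add_zero, dotProduct, Fintype.sum_sum_type, Sum.elim_inl, Sum.elim_inr,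
      Function.comp_apply, Finset.univ_unique, Finset.sum_singleton, PUnit.default_eq_unit]
    simp only [mul_comm (v (Sum.inr (Sum.inr _)))]
    ring
  let e : Unit ⊕ (Fin n ⊕ Fin n) ≃ Fin (n + n + 1) := Fintype.equivFinOfCardEq (by simp; omega)
  set M := Matrix.reindex e e G with hMdef
  have hM : Mᵀ = M := by rw [hMdef, Matrix.transpose_reindex, hG]
  have hMu : M.det ≠ 0 := by rwa [hMdef, Matrix.det_reindex_self]
  obtain ⟨Φ, hΦ⟩ := exists_transport h2 e (⇑Q) G hG hQG
  let O := Cfsg.isometryGroup F ⇑Q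
  let S := Cfsg.specialIsometryGroup F ⇑Q
  haveI : Finite O := Finite.of_injective (fun g => g.1) Subtype.val_injective
  -- the two characters on the special group
  let χ : S →* ℤˣ := (OrthRows.sp hQ hexc).comp S.subtype
  have hχ : Function.Surjective χ := by
    obtain ⟨ν, hν⟩ := FiniteField.exists_nonsquare (F := F) (Spinor.ringChar_ne_two h2)
    have hν0 : ν ≠ 0 := fun h => hν (h ▸ IsSquare.zero)
    have hcard : 2 ≤ Fintype.card (Unit ⊕ (Fin n ⊕ Fin n)) := by simp; omega
    obtain ⟨w1, hw1⟩ := OrthRows.exists_norm_all hQ hcard one_ne_zero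
    obtain ⟨w2, hw2⟩ := OrthRows.exists_norm_all hQ hcard hν0
    have v1 : Q w1 ≠ 0 := by rw [hw1]; exact one_ne_zero
    have v2 : Q w2 ≠ 0 := by rw [hw2]; exact hν0
    intro u
    rcases Int.units_eq_one_or u with rfl | rfl
    · exact ⟨1, map_one χ⟩
    · refine ⟨⟨_, OrthRows.rf_mul_rf_mem v1 v2⟩, ?_⟩
      show OrthRows.sp hQ hexc (OrthRows.rf Q w1 v1 * OrthRows.rf Q w2 v2) = -1
      rw [map_mul, OrthRows.sp_rf, OrthRows.sp_rf, if_pos (by rw [hw1]; exact IsSquare.one),
        if_neg (by rwa [hw2]), one_mul]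
  have hΩ : Nat.card (ConjClasses χ.ker) = Nat.card (ConjClasses ↥(Cfsg.Omega F ⇑Q)) := by
    have hiff : ∀ g : O, g ∈ Cfsg.Omega F ⇑Q ↔ g ∈ S ∧ OrthRows.sp hQ hexc g = 1 := fun g => by
      rw [OrthRows.mem_omega hQ hexc, OrthRows.dk_special_odd hQ hexc h2]
    let ψ : χ.ker ≃* Cfsg.Omega F ⇑Q :=
      { toFun := fun x => ⟨x.1.1, (hiff _).2 ⟨x.1.2, x.2⟩⟩
        invFun := fun y => ⟨⟨y.1, ((hiff _).1 y.2).1⟩, ((hiff _).1 y.2).2⟩
        left_inv := fun _ => rfl
        right_inv := fun _ => rfl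
        map_mul' := fun _ _ => rfl }
    exact le_antisymm (Nat.card_le_card_of_surjective _ (ConjClasses.map_surjective (f := ψ.symm.toMonoidHom) ψ.symm.surjective))
      (Nat.card_le_card_of_surjective _ (ConjClasses.map_surjective (f := ψ.toMonoidHom) ψ.surjective))
  obtain ⟨b1, b2, b3⟩ := classes_ker_bounds χ hχ
  rw [hΩ] at b1 b2 b3
  -- lower bound
  have low : Fintype.card F ^ n ≤ Nat.card (ConjClasses S) := by
    refine (classes_special_ge hodd M hM hMu).trans ?_
    have hdet : ∀ g : O, Matrix.GeneralLinearGroup.det (Φ g).1 = Matrix.GeneralLinearGroup.det g.1 := fun g => by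
      ext
      show (Φ g).1.1.det = g.1.1.det
      rw [hΦ, Matrix.det_reindex_self]
    have hmem : ∀ g : O, Matrix.GeneralLinearGroup.det g.1 = 1 ↔
        Φ g ∈ (Matrix.GeneralLinearGroup.det.comp (orthS M).subtype).ker := fun g => by
      rw [MonoidHom.mem_ker]
      show _ ↔ Matrix.GeneralLinearGroup.det (Φ g).1 = 1
      rw [hdet]
    let f : S →* (Matrix.GeneralLinearGroup.det.comp (orthS M).subtype).ker :=
      { toFun := fun g => ⟨Φ g.1, (hmem _).1 g.2⟩
        map_one' := Subtype.ext (map_one Φ)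
        map_mul' := fun _ _ => Subtype.ext (map_mul Φ _ _) }
    refine Nat.card_le_card_of_surjective _ (ConjClasses.map_surjective (f := f) fun y => ?_)
    exact ⟨⟨Φ.symm y.1, (hmem _).2 (by rw [MulEquiv.apply_symm_apply]; exact y.2)⟩,
      Subtype.ext (Φ.apply_symm_apply _)⟩
  refine ⟨low.trans b1, ?_⟩
  -- classes of the special group as classes of the full group
  let σ : Bool → O := fun b => bif b then negOne Q else 1
  have hNdet : ∀ b, Matrix.GeneralLinearGroup.det (σ b).1 = 1 → b = false := by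
    intro b hb
    cases b
    · rfl
    · exfalso
      have h' : (-(1 : Matrix (Unit ⊕ (Fin n ⊕ Fin n)) (Unit ⊕ (Fin n ⊕ Fin n)) F)).det = 1 := congrArg Units.val hb
      rw [Matrix.det_neg, Matrix.det_one, mul_one,
        Odd.neg_one_pow (show Odd (Fintype.card (Unit ⊕ (Fin n ⊕ Fin n))) from ⟨n, by simp; ring⟩)] at h'
      exact h2 (by linear_combination -h')
  have hcentral : ∀ b (g : O), Commute (σ b) g := by
    intro b g
    cases b
    · exact Commute.one_left g
    · refine Subtype.ext (Units.ext ?_)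
      show (-1 : Matrix (Unit ⊕ (Fin n ⊕ Fin n)) (Unit ⊕ (Fin n ⊕ Fin n)) F) * g.1.1 = g.1.1 * -1
      rw [neg_one_mul, mul_neg_one]
  have hσσ : ∀ b, σ b * σ b = 1 := by
    intro b
    cases b
    · exact mul_one 1
    · refine Subtype.ext (Units.ext ?_)
      show (-1 : Matrix (Unit ⊕ (Fin n ⊕ Fin n)) (Unit ⊕ (Fin n ⊕ Fin n)) F) * -1 = 1
      rw [neg_one_mul, neg_neg]
  choose r hr using fun C : ConjClasses S => ConjClasses.exists_rep C
  let ξ : ConjClasses S × Bool → ConjClasses (orthS M) := fun p => ConjClasses.mk (Φ (σ p.2 * (r p.1 : O)))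
  have hξ : Function.Injective ξ := by
    rintro ⟨C, b⟩ ⟨C', b'⟩ h
    obtain ⟨z, hz⟩ := isConj_iff.1 (ConjClasses.mk_eq_mk_iff_isConj.1 h)
    obtain ⟨z, rfl⟩ := Φ.surjective z
    rw [← map_inv, ← map_mul, ← map_mul] at hz
    have hz' := Φ.injective hz
    let δ : O →* Fˣ := Matrix.GeneralLinearGroup.det.comp O.subtype
    have hd : δ (σ b) = δ (σ b') := by
      have := congrArg δ hz'
      rwa [map_mul, map_mul, map_inv, map_mul, map_mul, show δ (r C : O) = 1 from (r C).2,
        show δ (r C' : O) = 1 from (r C').2, mul_one, mul_one, mul_comm (δ z), mul_inv_cancel_right] at this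
    have hbb : b = b' := by
      cases b <;> cases b'
      · rfl
      · exact (hNdet true (hd.symm.trans (map_one δ))).symm
      · exact hNdet true (hd.trans (map_one δ))
      · rfl
    subst hbb
    have hzr : z * (r C : O) * z⁻¹ = r C' := by
      refine mul_left_cancel (a := σ b) ?_
      rw [← hz', ← mul_assoc, ← mul_assoc, ← mul_assoc, (hcentral b z).eq]
    obtain ⟨z', hz'', hzm⟩ : ∃ z' : O, z' ∈ S ∧ z' * (r C : O) * z'⁻¹ = r C' := by
      by_cases hS : z ∈ S
      · exact ⟨z, hS, hzr⟩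
      · refine ⟨σ true * z, ?_, ?_⟩
        · have hz1 : ∀ g : O, (δ g : F) = 1 ∨ (δ g : F) = -1 := by
            intro g
            have hk := congrArg Units.val (show (OrthRows.dk hQ hexc g) * (OrthRows.dk hQ hexc g) = 1 from Int.units_mul_self _)
            have : (g.1.1ᵀ * G * g.1.1).det = G.det := by
              congr 1
              refine ext_dot fun u v => ?_
              rw [← Matrix.mulVec_mulVec, ← Matrix.mulVec_mulVec, Matrix.dotProduct_mulVec u,
                Matrix.vecMul_transpose, ← polar_gram h2 hG hQG, ← polar_gram h2 hG hQG]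
              have hq : ∀ x, Q (g.1.1 *ᵥ x) = Q x := fun x => g.2 x x
              simp only [QuadraticMap.polar, ← Matrix.mulVec_add, hq]
            rw [Matrix.det_mul, Matrix.det_mul, Matrix.det_transpose] at this
            refine mul_self_eq_one_iff.1 (mul_right_cancel₀ hGu ?_)
            show g.1.1.det * g.1.1.det * G.det = 1 * G.det
            linear_combination this
          show δ (σ true * z) = 1
          ext
          rw [map_mul, Units.val_mul, (hz1 z).resolve_left fun h => hS (Units.ext h),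
            (hz1 (σ true)).resolve_left fun h => Bool.noConfusion (hNdet true (Units.ext h))]
          simp
        · rw [mul_inv_rev, show σ true * z * (r C : O) * (z⁻¹ * (σ true)⁻¹) =
            σ true * (z * (r C : O) * z⁻¹) * (σ true)⁻¹ by group, hzr, (hcentral true _).eq, mul_inv_cancel_right]
    have : C = C' := by
      rw [← hr C, ← hr C', ConjClasses.mk_eq_mk_iff_isConj]
      exact isConj_iff.2 ⟨⟨z', hz''⟩, Subtype.ext hzm⟩
    rw [this]
  let P : S2478.S F (n + n + 1) (n + n + 1) → Prop := fun T => ∀ j : Fin (n + n + 1), (j : ℕ) = 0 → Simple1 (T.1 j).1 (false, false)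
  have hsplit : ∀ C : SplitCl χ, ∀ b a, ConjClasses.mk a = ξ (C.1, b) → P (tupG (a : GL (Fin (n + n + 1)) F)) := by
    intro C b a ha j hj
    obtain ⟨-, hC⟩ := C.2 (r C.1) (hr C.1)
    obtain ⟨w, rfl⟩ := isConj_iff.1 (ConjClasses.mk_eq_mk_iff_isConj.1 ha.symm)
    rw [Subgroup.coe_mul, Subgroup.coe_mul, Subgroup.coe_inv, tupG_conj]
    have key : ∀ c : F, c * c = 1 →
        ((tupG (Φ (σ b * (r C.1 : O)) : GL (Fin (n + n + 1)) F)).1 j).1.rootMultiplicity c ≤ 1 := by
      intro c hc
      by_contra hlt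
      obtain ⟨z, hz, hzS, hzsp⟩ := exists_spin_centralizer h2 hQ hexc hG hGu hQG e hMdef (σ b * (r C.1 : O))
        (Φ (σ b * (r C.1 : O))) (hΦ _) hc hj (by omega)
      have hz' : Commute z (r C.1 : O) := by
        have e' : (r C.1 : O) = σ b * (σ b * (r C.1 : O)) := by rw [← mul_assoc, hσσ, one_mul]
        rw [e']
        exact (hcentral b z).symm.mul_right hz
      have := hC ⟨z, hzS⟩ (Subtype.ext hz')
      rw [show χ ⟨z, hzS⟩ = OrthRows.sp hQ hexc z from rfl, hzsp] at this
      exact absurd this (by decide)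
    exact ⟨key 1 (one_mul 1), key (-1) (by ring)⟩
  have hall : 4 * Nat.card (ConjClasses S) ≤ Nat.card (DGP F (fun _ _ => True) (n + n + 1) (n + n + 1)) := by
    have h1 := classes_le_orth h2 M hM hMu
    have h3 := card_DG h2 (fun _ => 1) (n + n + 1) (n + n + 1)
    rw [show cntG (Fintype.card F) (fun _ => 1) (n + n + 1) (n + n + 1) = 0 by
      have := cntG_one_odd (Fintype.card F) (n + n + 1) n
      rwa [show 2 * n + 1 = n + n + 1 by ring] at this] at h3
    have h4 := Nat.card_le_card_of_injective ξ hξ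
    rw [Nat.card_prod, Nat.card_eq_fintype_card (α := Bool), Fintype.card_bool] at h4
    rw [Nat.card_congr (Equiv.subtypeUnivEquiv fun x _ _ => trivial)]
    omega
  have hsp : 4 * Nat.card (SplitCl χ) ≤ Nat.card (DGP F Simple1 (n + n + 1) (n + n + 1)) := by
    have h1 := classes_le_orth_of h2 M hM hMu P
    have h3 := card_DG h2 (fun _ => 1) (n + n + 1) (n + n + 1)
    rw [show cntG (Fintype.card F) (fun _ => 1) (n + n + 1) (n + n + 1) = 0 by
      have := cntG_one_odd (Fintype.card F) (n + n + 1) n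
      rwa [show 2 * n + 1 = n + n + 1 by ring] at this] at h3
    have h4 := Nat.card_le_card_of_injective
      (fun p : SplitCl χ × Bool => (⟨ξ (p.1.1, p.2), hsplit p.1 p.2⟩ :
        {C : ConjClasses ↥(orthS M) // ∀ a, ConjClasses.mk a = C → P (tupG (a : GL (Fin (n + n + 1)) F))}))
      fun p p' h => by
        have h' := hξ (congrArg Subtype.val h)
        simp only [Prod.mk.injEq] at h'
        exact Prod.ext (Subtype.ext h'.1) h'.2
    rw [Nat.card_prod, Nat.card_eq_fintype_card (α := Bool), Fintype.card_bool] at h4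
    have h5 : Nat.card {x : DG F Nat.succ (n + n + 1) (n + n + 1) // P x.1.1} =
        Nat.card (DGP F Simple1 (n + n + 1) (n + n + 1)) :=
      Nat.card_congr (Equiv.subtypeEquivRight fun x => Iff.rfl)
    omega
  have hq : 3 ≤ Fintype.card F := by
    have := Fintype.one_lt_card (α := F)
    obtain ⟨r, hr⟩ := hodd
    omega
  have hwE : ∀ a, Nat.card {v : VS F 2 a // (fun (_ : F[X]) (_ : Bool × Bool) => True) v.1.1.1.1 v.1.2} ≤
      cE (Fintype.card F) a := fun a => by
    rw [Nat.card_congr (Equiv.subtypeUnivEquiv fun _ => trivial)]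
    exact card_VS_even h2 a
  have hE := hall.trans (card_DGP h2 _ _ hwE _ _)
  rcases eq_or_lt_of_le hq with h3 | h5
  · have hB := hsp.trans (card_DGP h2 _ _ (card_VS_simple h2) _ _)
    rw [← h3] at hE hB
    rw [← h3]
    obtain ⟨u1, u2⟩ := cntW_three_bound (n + n + 1) n (by omega)
    rw [show 2 * n + 1 = n + n + 1 by ring] at u1 u2
    have hE' := (Nat.cast_le (α := ℚ)).2 hE
    have hB' := (Nat.cast_le (α := ℚ)).2 hB
    have b3' := (Nat.cast_le (α := ℚ)).2 b3
    push_cast at hE' hB' b3'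
    refine (Nat.cast_le (α := ℚ)).1 ?_
    push_cast
    have hpos : (0 : ℚ) ≤ 3 ^ n := by positivity
    linarith
  · have h5' : 5 ≤ Fintype.card F := by
      obtain ⟨r, hr⟩ := hodd
      omega
    have u1 := cntW_five_bound (Fintype.card F) h5' (n + n + 1) n (by omega)
    rw [show 2 * n + 1 = n + n + 1 by ring] at u1
    have hE' := (Nat.cast_le (α := ℚ)).2 hE
    have b2' := (Nat.cast_le (α := ℚ)).2 b2
    push_cast at hE' b2'
    refine (Nat.cast_le (α := ℚ)).1 ?_
    push_cast
    have hpos : (0 : ℚ) ≤ (Fintype.card F : ℚ) ^ n := by positivity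
    linarith

end Cfsg.Agent.ClassNum
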