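import Cfsg.Agent.Lib.ClassNum.SpCount
import Cfsg.Agent.Lib.ClassNum.OrthClasses

/-!
Counting the tuples with signs of orthogonal groups.
-/

set_option autoImplicit false
set_option linter.unusedSectionVars false

namespace Cfsg.Agent.ClassNum

open Polynomial S2478 FormsLib FormTorus

universe u

variable {F : Type u} [Field F] [Fintype F]

/-- The count with weights read at `φ i`. -/
def cntG (q : ℕ) (φ : ℕ → ℕ) : ℕ → ℕ → ℕ
  | 0, k => if k = 0 then 1 else 0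
  | m + 1, k => ∑ a ∈ Finset.range (k / (m + 1) + 1), cwS q (φ (m + 1)) a * cntG q φ m (k - (m + 1) * a)

theorem card_DG (h2 : (2 : F) ≠ 0) (φ : ℕ → ℕ) :
    ∀ m k, Nat.card (DG F φ m k) ≤ cntG (Fintype.card F) φ m k
  | 0, k => by
    by_cases hk : k = 0
    · rw [cntG, if_pos hk]
      haveI : Subsingleton (DG F φ 0 k) := ⟨fun a b =>
        Subtype.ext (Prod.ext (Subtype.ext (funext fun j => j.elim0)) (funext fun j => j.elim0))⟩
      exact Finite.card_le_one_iff_subsingleton.2 inferInstance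
    · haveI : IsEmpty (S F 0 k) := ⟨fun f => hk (by simpa using f.2.symm)⟩
      haveI : IsEmpty (DG F φ 0 k) := ⟨fun x => isEmptyElim x.1.1⟩
      simp
  | m + 1, k => by
    classical
    haveI : ∀ a, Finite (Pd F a) := fun a => (card_Pd a).2
    haveI : ∀ j, Finite (DG F φ m j) := fun j => by
      haveI := (card_S (F := F) m j).2
      exact Subtype.finite
    let g : DG F φ (m + 1) k → Σ a : Fin (k / (m + 1) + 1), VS F (φ (m + 1)) a × DG F φ m (k - (m + 1) * a) :=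
      fun x => ⟨(splitEquiv m k x.1.1).1, ⟨((splitEquiv m k x.1.1).2.1, x.1.2 (Fin.last m)), x.2 (Fin.last m)⟩,
        ⟨((splitEquiv m k x.1.1).2.2, fun j => x.1.2 j.castSucc), fun j => x.2 j.castSucc⟩⟩
    have hg : Function.Injective g := fun x y h => by
      refine Subtype.ext (Prod.ext ((splitEquiv m k).injective ?_) ?_)
      · exact congrArg (fun z : Σ a : Fin (k / (m + 1) + 1), VS F (φ (m + 1)) a × DG F φ m (k - (m + 1) * a) =>
          (⟨z.1, z.2.1.1.1, z.2.2.1.1⟩ : Σ a : Fin (k / (m + 1) + 1), Pd F a × S F m (k - (m + 1) * a))) h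
      · funext j
        refine Fin.lastCases ?_ (fun l => ?_) j
        · exact congrArg (fun z : Σ a : Fin (k / (m + 1) + 1), VS F (φ (m + 1)) a × DG F φ m (k - (m + 1) * a) =>
            z.2.1.1.2) h
        · exact congrArg (fun z : Σ a : Fin (k / (m + 1) + 1), VS F (φ (m + 1)) a × DG F φ m (k - (m + 1) * a) =>
            z.2.2.1.2 l) h
    refine (Nat.card_le_card_of_injective g hg).trans ?_
    rw [Nat.card_sigma, cntG,
      Finset.sum_range (f := fun a => cwS _ (φ (m + 1)) a * cntG _ φ m (k - (m + 1) * a))]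
    refine Finset.sum_le_sum fun a _ => ?_
    rw [Nat.card_prod]
    exact Nat.mul_le_mul (card_VS h2 _ a) (card_DG h2 φ m _)

/-- Guarded form of the recursion. -/
theorem cntG_le_sum (q : ℕ) (φ : ℕ → ℕ) (m K : ℕ) :
    (cntG q φ (m + 1) K : ℚ) ≤ ∑ b ∈ Finset.range (K + 1),
      ((if (m + 1) * (2 * b) ≤ K then (cwS q (φ (m + 1)) (2 * b) : ℚ) * cntG q φ m (K - (m + 1) * (2 * b)) else 0) +
      (if (m + 1) * (2 * b + 1) ≤ K then
        (cwS q (φ (m + 1)) (2 * b + 1) : ℚ) * cntG q φ m (K - (m + 1) * (2 * b + 1)) else 0)) := by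
  let f : ℕ → ℚ := fun a =>
    if (m + 1) * a ≤ K then (cwS q (φ (m + 1)) a : ℚ) * cntG q φ m (K - (m + 1) * a) else 0
  have hf : ∀ a, 0 ≤ f a := fun a => by simp only [f]; split_ifs <;> positivity
  have h2 : ∀ M, ∑ b ∈ Finset.range M, (f (2 * b) + f (2 * b + 1)) = ∑ a ∈ Finset.range (2 * M), f a := by
    intro M
    induction M with
    | zero => simp
    | succ M ih =>
      rw [Finset.sum_range_succ, ih, show 2 * (M + 1) = 2 * M + 1 + 1 by ring, Finset.sum_range_succ,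
        Finset.sum_range_succ]
      ring
  rw [cntG]
  push_cast
  refine le_trans (le_of_eq ?_) (le_trans (Finset.sum_le_sum_of_subset_of_nonneg
    (f := f) (Finset.range_mono (show K / (m + 1) + 1 ≤ 2 * (K + 1) by
      have := Nat.div_le_self K (m + 1); omega)) fun a _ _ => hf a) (h2 (K + 1)).ge)
  refine Finset.sum_congr rfl fun a ha => ?_
  rw [Finset.mem_range, Nat.lt_succ_iff, Nat.le_div_iff_mul_le (Nat.succ_pos m)] at ha
  simp only [f]
  rw [if_pos (by rwa [mul_comm] at ha)]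

theorem geom_le {z : ℚ} (h0 : 0 ≤ z) (h1 : z < 1) (M : ℕ) : ∑ b ∈ Finset.range M, z ^ b ≤ 1 / (1 - z) := by
  rw [le_div_iff₀ (by linarith), geom_sum_mul_neg]
  linarith [pow_nonneg h0 M]

theorem sum_cE_even_le (q : ℕ) {z : ℚ} (h0 : 0 ≤ z) (h1 : (q : ℚ) * z < 1) (M : ℕ) :
    ∑ b ∈ Finset.range M, (cE q (2 * b) : ℚ) * z ^ b ≤ (1 + 6 * z + z ^ 2) / (1 - q * z) := by
  rw [le_div_iff₀ (by linarith)]
  have hn : ∀ M, 0 ≤ ∑ b ∈ Finset.range M, (cE q (2 * b) : ℚ) * z ^ b := fun M =>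
    Finset.sum_nonneg fun b _ => by positivity
  suffices h : ∑ b ∈ Finset.range (M + 3), (cE q (2 * b) : ℚ) * z ^ b ≤
      1 + 6 * z + z ^ 2 + q * z * ∑ b ∈ Finset.range (M + 3), (cE q (2 * b) : ℚ) * z ^ b by
    have hm : ∑ b ∈ Finset.range M, (cE q (2 * b) : ℚ) * z ^ b ≤
        ∑ b ∈ Finset.range (M + 3), (cE q (2 * b) : ℚ) * z ^ b :=
      Finset.sum_le_sum_of_subset_of_nonneg (Finset.range_mono (by omega)) fun b _ _ => by positivity
    nlinarith [mul_le_mul_of_nonneg_right hm (show (0 : ℚ) ≤ 1 - q * z by linarith)]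
  have e : ∀ M, ∑ b ∈ Finset.range (M + 3), (cE q (2 * b) : ℚ) * z ^ b =
      1 + 6 * z + z ^ 2 + q * z * ∑ b ∈ Finset.range (M + 2), (cE q (2 * b) : ℚ) * z ^ b := by
    intro M
    induction M with
    | zero =>
      norm_num [Finset.sum_range_succ, cE, Nat.choose]
      ring
    | succ M ih =>
      rw [Finset.sum_range_succ _ (M + 3)]
      nth_rewrite 1 [ih]
      rw [show M + 1 + 2 = M + 2 + 1 from rfl, Finset.sum_range_succ _ (M + 2),
        show 2 * (M + 3) = 2 * (M + 2) + 2 by ring, cE, Nat.choose_eq_zero_of_lt (by omega)]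
      push_cast
      ring
  nth_rewrite 1 [e M]
  refine add_le_add le_rfl (mul_le_mul_of_nonneg_left ?_ (by positivity))
  refine Finset.sum_le_sum_of_subset_of_nonneg (Finset.range_mono ?_) fun b _ _ => ?_
  · omega
  · positivity

theorem sum_cE_odd_le (q : ℕ) {z : ℚ} (h0 : 0 ≤ z) (h1 : (q : ℚ) * z < 1) (M : ℕ) :
    ∑ b ∈ Finset.range M, (cE q (2 * b + 1) : ℚ) * z ^ b ≤ (4 + 4 * z) / (1 - q * z) := by
  rw [le_div_iff₀ (by linarith)]
  suffices h : ∑ b ∈ Finset.range (M + 2), (cE q (2 * b + 1) : ℚ) * z ^ b ≤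
      4 + 4 * z + q * z * ∑ b ∈ Finset.range (M + 2), (cE q (2 * b + 1) : ℚ) * z ^ b by
    have hm : ∑ b ∈ Finset.range M, (cE q (2 * b + 1) : ℚ) * z ^ b ≤
        ∑ b ∈ Finset.range (M + 2), (cE q (2 * b + 1) : ℚ) * z ^ b :=
      Finset.sum_le_sum_of_subset_of_nonneg (Finset.range_mono (by omega)) fun b _ _ => by positivity
    nlinarith [mul_le_mul_of_nonneg_right hm (show (0 : ℚ) ≤ 1 - q * z by linarith)]
  have e : ∀ M, ∑ b ∈ Finset.range (M + 2), (cE q (2 * b + 1) : ℚ) * z ^ b =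
      4 + 4 * z + q * z * ∑ b ∈ Finset.range (M + 1), (cE q (2 * b + 1) : ℚ) * z ^ b := by
    intro M
    induction M with
    | zero =>
      norm_num [Finset.sum_range_succ, cE, Nat.choose]
      ring
    | succ M ih =>
      rw [Finset.sum_range_succ _ (M + 2)]
      nth_rewrite 1 [ih]
      rw [Finset.sum_range_succ _ (M + 1),
        show 2 * (M + 2) + 1 = 2 * (M + 1) + 1 + 2 by ring, cE, Nat.choose_eq_zero_of_lt (by omega)]
      push_cast
      ring
  nth_rewrite 1 [e M]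
  refine add_le_add le_rfl (mul_le_mul_of_nonneg_left ?_ (by positivity))
  refine Finset.sum_le_sum_of_subset_of_nonneg (Finset.range_mono ?_) fun b _ _ => ?_
  · omega
  · positivity

theorem third_pow {q : ℕ} (hq : 3 ≤ q) (j : ℕ) : ((1 : ℚ) / q) ^ j ≤ (1 / 3) ^ j :=
  pow_le_pow_left₀ (by positivity) (one_div_le_one_div_of_le (by norm_num) (by exact_mod_cast hq)) j

theorem q_third_pow {q : ℕ} (hq : 3 ≤ q) (j : ℕ) : (q : ℚ) * (1 / q) ^ (j + 1) ≤ (1 / 3) ^ j := by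
  have hq0 : (q : ℚ) ≠ 0 := by simp only [ne_eq, Nat.cast_eq_zero]; omega
  refine le_trans (le_of_eq ?_) (third_pow hq j)
  rw [pow_succ]
  field_simp

/-- An exponent where only even degrees occur, with weight `q^(a/2)`. -/
theorem step_square (q : ℕ) (hq : 3 ≤ q) (φ : ℕ → ℕ) (m r k : ℕ) (hr : r ≤ 1) (C : ℚ) (hC : 0 ≤ C)
    (hφ : ∀ a, cwS q (φ (m + 2)) a = cO q a)
    (h : ∀ j, (cntG q φ (m + 1) (2 * j + r) : ℚ) ≤ C * q ^ j) :
    (cntG q φ (m + 2) (2 * k + r) : ℚ) ≤ C * (1 / (1 - (1 / 3) ^ (m + 1))) * q ^ k := by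
  have hq0 : (q : ℚ) ≠ 0 := by simp only [ne_eq, Nat.cast_eq_zero]; omega
  set z : ℚ := q * (1 / q) ^ (m + 2) with hz
  have hz0 : 0 ≤ z := by positivity
  have hzle : z ≤ (1 / 3) ^ (m + 1) := q_third_pow hq (m + 1)
  have hlt : ((1 : ℚ) / 3) ^ (m + 1) < 1 := pow_lt_one₀ (by norm_num) (by norm_num) (Nat.succ_ne_zero m)
  refine (cntG_le_sum q φ (m + 1) _).trans ?_
  calc _ ≤ ∑ b ∈ Finset.range (2 * k + r + 1), C * q ^ k * z ^ b := by
        refine Finset.sum_le_sum fun b _ => ?_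
        rw [hφ, hφ, cO, cO, if_pos (even_two_mul b), if_neg (Nat.not_even_iff_odd.2 (odd_two_mul_add_one b)),
          Nat.cast_zero, zero_mul, ite_self, add_zero, Nat.mul_div_cancel_left _ two_pos]
        split_ifs with hle
        · have hle' : (m + 2) * b ≤ k := by
            rw [show (m + 1 + 1) * (2 * b) = 2 * ((m + 2) * b) by ring] at hle
            omega
          rw [show 2 * k + r - (m + 1 + 1) * (2 * b) = 2 * (k - (m + 2) * b) + r by
            rw [show (m + 1 + 1) * (2 * b) = 2 * ((m + 2) * b) by ring]; omega]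
          push_cast
          refine le_trans (mul_le_mul_of_nonneg_left (h _) (by positivity)) (le_of_eq ?_)
          rw [hz, mul_pow, ← pow_mul, pow_sub₀ _ hq0 hle', one_div, inv_pow]
          ring
        · positivity
    _ ≤ C * q ^ k * (1 / (1 - z)) := by
        rw [← Finset.mul_sum]
        exact mul_le_mul_of_nonneg_left (geom_le hz0 (hzle.trans_lt hlt) _) (by positivity)
    _ ≤ C * q ^ k * (1 / (1 - (1 / 3) ^ (m + 1))) :=
        mul_le_mul_of_nonneg_left (one_div_le_one_div_of_le (by linarith) (by linarith)) (by positivity)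
    _ = _ := by ring

/-- An exponent with signs. -/
theorem step_signs (q : ℕ) (hq : 3 ≤ q) (l r r' s k : ℕ) (C C' : ℚ) (hC : 0 ≤ C) (hC' : 0 ≤ C')
    (hl : 1 ≤ l) (hr : r + r' = 1) (hs : s + r = l + 1)
    (h : ∀ j, (cntG q Nat.succ (2 * l) (2 * j + r) : ℚ) ≤ C * q ^ j)
    (h' : ∀ j, (cntG q Nat.succ (2 * l) (2 * j + r') : ℚ) ≤ C' * q ^ j) :
    (cntG q Nat.succ (2 * l + 1) (2 * k + r) : ℚ) ≤
      (C * ((1 + 6 * (1 / 3) ^ (2 * l + 1) + ((1 / 3) ^ (2 * l + 1)) ^ 2) / (1 - (1 / 3) ^ (2 * l))) +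
        C' * (1 / 3) ^ s * ((4 + 4 * (1 / 3) ^ (2 * l + 1)) / (1 - (1 / 3) ^ (2 * l)))) * q ^ k := by
  have hq0 : (q : ℚ) ≠ 0 := by simp only [ne_eq, Nat.cast_eq_zero]; omega
  set z : ℚ := (1 / q) ^ (2 * l + 1) with hz
  set y : ℚ := (1 / 3) ^ (2 * l + 1) with hy
  have hz0 : 0 ≤ z := by positivity
  have hzy : z ≤ y := third_pow hq _
  have hqz : (q : ℚ) * z ≤ (1 / 3) ^ (2 * l) := q_third_pow hq _
  have hlt : ((1 : ℚ) / 3) ^ (2 * l) < 1 := pow_lt_one₀ (by norm_num) (by norm_num) (by omega)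
  refine (cntG_le_sum q Nat.succ (2 * l) _).trans ?_
  have hw : ∀ a, cwS q (Nat.succ (2 * l + 1)) a = cE q a := fun a => by
    rw [cwS, if_pos ⟨l + 1, by omega⟩]
  calc _ ≤ ∑ b ∈ Finset.range (2 * k + r + 1), (C * q ^ k * ((cE q (2 * b) : ℚ) * z ^ b) +
          C' * (1 / q) ^ s * q ^ k * ((cE q (2 * b + 1) : ℚ) * z ^ b)) := by
        refine Finset.sum_le_sum fun b _ => add_le_add ?_ ?_
        · rw [hw]
          split_ifs with hle
          · have hle' : (2 * l + 1) * b ≤ k := by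
              rw [show (2 * l + 1) * (2 * b) = 2 * ((2 * l + 1) * b) by ring] at hle
              omega
            rw [show 2 * k + r - (2 * l + 1) * (2 * b) = 2 * (k - (2 * l + 1) * b) + r by
              rw [show (2 * l + 1) * (2 * b) = 2 * ((2 * l + 1) * b) by ring]; omega]
            refine le_trans (mul_le_mul_of_nonneg_left (h _) (by positivity)) (le_of_eq ?_)
            rw [hz, ← pow_mul, pow_sub₀ _ hq0 hle', one_div, inv_pow]
            ring
          · positivity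
        · rw [hw]
          split_ifs with hle
          · have hmul : (2 * l + 1) * (2 * b + 1) = 2 * ((2 * l + 1) * b) + (2 * l + 1) := by ring
            have hle' : (2 * l + 1) * b + s ≤ k := by omega
            rw [show 2 * k + r - (2 * l + 1) * (2 * b + 1) = 2 * (k - ((2 * l + 1) * b + s)) + r' by omega]
            refine le_trans (mul_le_mul_of_nonneg_left (h' _) (by positivity)) (le_of_eq ?_)
            rw [hz, ← pow_mul, pow_sub₀ _ hq0 hle', one_div, inv_pow, inv_pow, pow_add, mul_inv]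
            ring
          · positivity
    _ ≤ C * q ^ k * ((1 + 6 * z + z ^ 2) / (1 - q * z)) +
          C' * (1 / q) ^ s * q ^ k * ((4 + 4 * z) / (1 - q * z)) := by
        rw [Finset.sum_add_distrib, ← Finset.mul_sum, ← Finset.mul_sum]
        exact add_le_add (mul_le_mul_of_nonneg_left (sum_cE_even_le q hz0 (hqz.trans_lt hlt) _) (by positivity))
          (mul_le_mul_of_nonneg_left (sum_cE_odd_le q hz0 (hqz.trans_lt hlt) _) (by positivity))
    _ ≤ C * q ^ k * ((1 + 6 * y + y ^ 2) / (1 - (1 / 3) ^ (2 * l))) +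
          C' * (1 / 3) ^ s * q ^ k * ((4 + 4 * y) / (1 - (1 / 3) ^ (2 * l))) := by
        have d0 : (0 : ℚ) < 1 - q * z := by linarith
        have d1 : (0 : ℚ) < 1 - (1 / 3) ^ (2 * l) := by linarith
        have hy0 : 0 ≤ y := by positivity
        refine add_le_add (mul_le_mul_of_nonneg_left ?_ (by positivity)) ?_
        · exact div_le_div₀ (by positivity) (by nlinarith) d1 (by linarith)
        · refine mul_le_mul (mul_le_mul_of_nonneg_right (mul_le_mul_of_nonneg_left (third_pow hq s) hC')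
            (by positivity)) ?_ (div_nonneg (by positivity) d0.le) (by positivity)
          exact div_le_div₀ (by positivity) (by linarith) d1 (by linarith)
    _ = _ := by ring

theorem cntG_one (q : ℕ) (φ : ℕ → ℕ) (K : ℕ) : cntG q φ 1 K = cwS q (φ 1) K := by
  rw [cntG, Nat.div_one, Finset.sum_eq_single K]
  · simp [cntG]
  · intro a ha hne
    rw [Finset.mem_range] at ha
    rw [cntG, if_neg (by omega), mul_zero]
  · simp

theorem cE_bounds (q : ℕ) (hq : 3 ≤ q) : ∀ k,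
    (cE q (2 * k) : ℚ) ≤ 28 / 9 * q ^ k ∧ (cE q (2 * k + 1) : ℚ) ≤ 16 / 3 * q ^ k := by
  have hq' : (3 : ℚ) ≤ q := by exact_mod_cast hq
  intro k
  induction k with
  | zero => norm_num [cE]
  | succ k ih =>
    obtain ⟨h1, h2⟩ := ih
    rcases k with _ | _ | k
    · norm_num [cE, Nat.choose]
      constructor <;> nlinarith
    · norm_num [cE, Nat.choose] at h2 ⊢
      constructor <;> nlinarith
    · rw [show 2 * (k + 2 + 1) = 2 * (k + 2) + 2 by ring, show 2 * (k + 2) + 2 + 1 = 2 * (k + 2) + 1 + 2 by ring,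
        cE, cE, Nat.choose_eq_zero_of_lt (by omega), Nat.choose_eq_zero_of_lt (by omega), add_zero, add_zero]
      push_cast
      constructor <;> rw [pow_succ (q : ℚ) (k + 2)] <;> nlinarith

/-- The constants for even and odd weight. -/
def bO : ℕ → ℚ × ℚ
  | 0 => (1, 0)
  | 1 => (28 / 9, 16 / 3)
  | m + 2 => if Even (m + 2) then
      ((bO (m + 1)).1 * (1 / (1 - (1 / 3) ^ (m + 1))), (bO (m + 1)).2 * (1 / (1 - (1 / 3) ^ (m + 1))))
    else
      ((bO (m + 1)).1 * ((1 + 6 * (1 / 3) ^ (m + 2) + ((1 / 3) ^ (m + 2)) ^ 2) / (1 - (1 / 3) ^ (m + 1))) +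
        (bO (m + 1)).2 * (1 / 3) ^ ((m + 2) / 2 + 1) * ((4 + 4 * (1 / 3) ^ (m + 2)) / (1 - (1 / 3) ^ (m + 1))),
      (bO (m + 1)).2 * ((1 + 6 * (1 / 3) ^ (m + 2) + ((1 / 3) ^ (m + 2)) ^ 2) / (1 - (1 / 3) ^ (m + 1))) +
        (bO (m + 1)).1 * (1 / 3) ^ ((m + 2) / 2) * ((4 + 4 * (1 / 3) ^ (m + 2)) / (1 - (1 / 3) ^ (m + 1))))

theorem bO_nonneg : ∀ m, 0 ≤ (bO m).1 ∧ 0 ≤ (bO m).2
  | 0 => by norm_num [bO]
  | 1 => by norm_num [bO]
  | m + 2 => by
    obtain ⟨h1, h2⟩ := bO_nonneg (m + 1)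
    have hd : (0 : ℚ) < 1 - (1 / 3) ^ (m + 1) := by
      linarith [pow_lt_one₀ (show (0 : ℚ) ≤ 1 / 3 by norm_num) (by norm_num) (show m + 1 ≠ 0 by omega)]
    rw [bO]
    split_ifs <;> constructor <;> positivity

theorem bO_step (m : ℕ) : (bO (m + 1)).1 ≤ (bO (m + 2)).1 := by
  obtain ⟨h1, h2⟩ := bO_nonneg (m + 1)
  have hd : (0 : ℚ) < 1 - (1 / 3) ^ (m + 1) := by
    linarith [pow_lt_one₀ (show (0 : ℚ) ≤ 1 / 3 by norm_num) (by norm_num) (show m + 1 ≠ 0 by omega)]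
  have hp : (0 : ℚ) ≤ (1 / 3) ^ (m + 1) := by positivity
  have hp2 : (0 : ℚ) ≤ (1 / 3) ^ (m + 2) := by positivity
  conv_rhs => rw [bO]
  split_ifs
  · exact le_mul_of_one_le_right h1 (by rw [le_div_iff₀ hd]; linarith)
  · refine le_add_of_le_of_nonneg (le_mul_of_one_le_right h1 ?_) (by positivity)
    rw [le_div_iff₀ hd]
    nlinarith

theorem cntG_succ_le (q : ℕ) (hq : 3 ≤ q) : ∀ m k,
    (cntG q Nat.succ m (2 * k) : ℚ) ≤ (bO m).1 * q ^ k ∧ (cntG q Nat.succ m (2 * k + 1) : ℚ) ≤ (bO m).2 * q ^ k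
  | 0, k => by
    rw [cntG, cntG, bO]
    refine ⟨?_, by simp⟩
    split_ifs with h
    · obtain rfl : k = 0 := by omega
      simp
    · simp
  | 1, k => by
    rw [cntG_one, cntG_one, bO, cwS, cwS, if_pos ⟨1, rfl⟩, if_pos ⟨1, rfl⟩]
    exact cE_bounds q hq k
  | m + 2, k => by
    have ih := cntG_succ_le q hq (m + 1)
    obtain ⟨n1, n2⟩ := bO_nonneg (m + 1)
    rcases Nat.even_or_odd (m + 2) with he | ho
    · rw [bO, if_pos he]
      have hw : ∀ a, cwS q (Nat.succ (m + 2)) a = cO q a := fun a => by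
        rw [cwS, if_neg (Nat.not_even_iff_odd.2 (by obtain ⟨r, hr⟩ := he; exact ⟨r, by omega⟩))]
      exact ⟨step_square q hq Nat.succ m 0 k (by omega) _ n1 hw fun j => (ih j).1,
        step_square q hq Nat.succ m 1 k le_rfl _ n2 hw fun j => (ih j).2⟩
    · obtain ⟨l, hl⟩ := ho
      rw [bO, if_neg (Nat.not_even_iff_odd.2 ⟨l, hl⟩)]
      rw [show m + 2 = 2 * l + 1 from hl, show m + 1 = 2 * l by omega, show (2 * l + 1) / 2 = l by omega]
      rw [show m + 1 = 2 * l by omega] at ih n1 n2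
      have s0 := step_signs q hq l 0 1 (l + 1) k _ _ n1 n2 (by omega) rfl rfl (fun j => (ih j).1) fun j => (ih j).2
      have s1 := step_signs q hq l 1 0 l k _ _ n2 n1 (by omega) rfl rfl (fun j => (ih j).2) fun j => (ih j).1
      exact ⟨s0, s1⟩

theorem bO_ten : (bO 10).1 ≤ 17 * (1 - 4 * (1 / 3) ^ 5) ∧
    (bO 10).2 ≤ 7 / 4 * (17 * (1 - 4 * (1 / 3) ^ 5)) := by
  norm_num [bO, show Even 2 from ⟨1, rfl⟩, show Even 4 from ⟨2, rfl⟩, show Even 6 from ⟨3, rfl⟩,
    show Even 8 from ⟨4, rfl⟩, show Even 10 from ⟨5, rfl⟩, show ¬ Even 3 by decide, show ¬ Even 5 by decide,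
    show ¬ Even 7 by decide, show ¬ Even 9 by decide]

theorem bO_tail : ∀ l, (bO (2 * (l + 5))).1 ≤ 17 * (1 - 4 * (1 / 3) ^ (l + 5)) ∧
    (bO (2 * (l + 5))).2 ≤ 7 / 4 * (17 * (1 - 4 * (1 / 3) ^ (l + 5)))
  | 0 => bO_ten
  | l + 1 => by
    obtain ⟨i1, i2⟩ := bO_tail l
    obtain ⟨n1, n2⟩ := bO_nonneg (2 * (l + 5))
    set y := ((1 : ℚ) / 3) ^ (l + 5) with hy
    set B := 17 * (1 - 4 * y) with hB
    have hy1 : y ≤ 1 / 243 := (pow_third_le (show 5 ≤ l + 5 by omega)).trans_eq (by norm_num)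
    have hy0 : 0 < y := by positivity
    have eA : ((1 : ℚ) / 3) ^ (2 * (l + 5)) = y ^ 2 := by rw [hy, ← pow_mul, mul_comm]
    have eB : ((1 : ℚ) / 3) ^ (2 * (l + 5) + 1) = y ^ 2 / 3 := by rw [pow_succ, eA]; ring
    have eC : ((1 : ℚ) / 3) ^ (l + 5 + 1) = y / 3 := by rw [pow_succ, ← hy]; ring
    rw [show 2 * (l + 1 + 5) = 2 * (l + 5) + 2 by ring]
    obtain ⟨m, hm⟩ : ∃ m, 2 * (l + 5) = m + 1 := ⟨2 * (l + 5) - 1, by omega⟩
    have hstep : bO (2 * (l + 5) + 1) =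
        ((bO (2 * (l + 5))).1 * ((1 + 6 * (y ^ 2 / 3) + (y ^ 2 / 3) ^ 2) / (1 - y ^ 2)) +
          (bO (2 * (l + 5))).2 * (y / 3) * ((4 + 4 * (y ^ 2 / 3)) / (1 - y ^ 2)),
        (bO (2 * (l + 5))).2 * ((1 + 6 * (y ^ 2 / 3) + (y ^ 2 / 3) ^ 2) / (1 - y ^ 2)) +
          (bO (2 * (l + 5))).1 * y * ((4 + 4 * (y ^ 2 / 3)) / (1 - y ^ 2))) := by
      conv_lhs => rw [hm, bO, if_neg (fun ⟨r, hr⟩ => by omega)]
      rw [← hm, show (m + 2) / 2 = l + 5 by omega, show m + 2 = 2 * (l + 5) + 1 by omega, eB, eA, eC, ← hy]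
    rw [bO, if_pos ⟨l + 6, by omega⟩, hstep, eB, show ((1 : ℚ) / 3) ^ (l + 1 + 5) = y / 3 by
      rw [← eC, show l + 1 + 5 = l + 5 + 1 by omega]]
    set P := (1 + 6 * (y ^ 2 / 3) + (y ^ 2 / 3) ^ 2) / (1 - y ^ 2) with hP
    set Q := (4 + 4 * (y ^ 2 / 3)) / (1 - y ^ 2) with hQ
    have d1 : (0 : ℚ) < 1 - y ^ 2 := by nlinarith
    have d2 : (0 : ℚ) < 1 - y ^ 2 / 3 := by nlinarith
    have hP0 : 0 ≤ P := div_nonneg (by positivity) d1.le
    have hQ0 : 0 ≤ Q := div_nonneg (by positivity) d1.le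
    have key : (1 - 4 * y) * (P + 7 / 12 * y * Q) * (1 / (1 - y ^ 2 / 3)) ≤ 1 - 4 * (y / 3) := by
      have e : P + 7 / 12 * y * Q = (1 + 6 * (y ^ 2 / 3) + (y ^ 2 / 3) ^ 2 +
          7 / 12 * y * (4 + 4 * (y ^ 2 / 3))) / (1 - y ^ 2) := by rw [hP, hQ]; ring
      rw [e, mul_one_div, mul_div_assoc', div_div, div_le_iff₀ (mul_pos d1 d2)]
      nlinarith [mul_le_mul_of_nonneg_left hy1 hy0.le, pow_pos hy0 2, pow_pos hy0 3, pow_pos hy0 4, pow_pos hy0 5]
    have hinv : (0 : ℚ) ≤ 1 / (1 - y ^ 2 / 3) := by positivity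
    have hB0 : 0 ≤ B := le_trans n1 i1
    constructor
    · calc ((bO (2 * (l + 5))).1 * P + (bO (2 * (l + 5))).2 * (y / 3) * Q) * (1 / (1 - y ^ 2 / 3))
          ≤ (B * P + 7 / 4 * B * (y / 3) * Q) * (1 / (1 - y ^ 2 / 3)) := by gcongr
        _ = 17 * ((1 - 4 * y) * (P + 7 / 12 * y * Q) * (1 / (1 - y ^ 2 / 3))) := by rw [hB]; ring
        _ ≤ 17 * (1 - 4 * (y / 3)) := mul_le_mul_of_nonneg_left key (by norm_num)
    · calc ((bO (2 * (l + 5))).2 * P + (bO (2 * (l + 5))).1 * y * Q) * (1 / (1 - y ^ 2 / 3))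
          ≤ (7 / 4 * B * P + B * y * Q) * (1 / (1 - y ^ 2 / 3)) := by gcongr
        _ ≤ 7 / 4 * (B * (P + 7 / 12 * y * Q)) * (1 / (1 - y ^ 2 / 3)) := by
            refine mul_le_mul_of_nonneg_right ?_ hinv
            nlinarith [mul_nonneg (mul_nonneg hB0 hy0.le) hQ0]
        _ = 7 / 4 * (17 * ((1 - 4 * y) * (P + 7 / 12 * y * Q) * (1 / (1 - y ^ 2 / 3)))) := by rw [hB]; ring
        _ ≤ 7 / 4 * (17 * (1 - 4 * (y / 3))) :=
            mul_le_mul_of_nonneg_left (mul_le_mul_of_nonneg_left key (by norm_num)) (by norm_num)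

theorem bO_le (m : ℕ) (hm : 1 ≤ m) : (bO m).1 ≤ 17 := by
  have mono : ∀ a b, 1 ≤ a → a ≤ b → (bO a).1 ≤ (bO b).1 := by
    intro a b ha hab
    induction b, hab using Nat.le_induction with
    | base => exact le_rfl
    | succ b hb ih =>
      obtain ⟨c, rfl⟩ : ∃ c, b = c + 1 := ⟨b - 1, by omega⟩
      exact ih.trans (bO_step c)
  refine le_trans (mono m (2 * (m + 5)) hm (by omega)) (le_trans (bO_tail m).1 ?_)
  have : (0 : ℚ) < (1 / 3) ^ (m + 5) := by positivity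
  linarith

/-- The constant without roots. -/
def cN : ℕ → ℚ
  | 0 => 1
  | 1 => 1
  | m + 2 => cN (m + 1) * (1 / (1 - (1 / 3) ^ (m + 1)))

theorem cN_le : ∀ m, 1 ≤ m → 0 ≤ cN m ∧ cN m ≤ 2 * (1 - 3 / 2 * (1 / 3) ^ m)
  | 1, _ => by norm_num [cN]
  | m + 2, _ => by
    obtain ⟨h0, h⟩ := cN_le (m + 1) (by omega)
    have hy : ((1 : ℚ) / 3) ^ (m + 1) ≤ 1 / 3 := (pow_third_le (show 1 ≤ m + 1 by omega)).trans_eq (pow_one _)
    have hy0 : (0 : ℚ) < (1 / 3) ^ (m + 1) := by positivity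
    have hd : (0 : ℚ) < 1 - (1 / 3) ^ (m + 1) := by linarith
    rw [cN, mul_one_div, pow_succ ((1 : ℚ) / 3) (m + 1)]
    refine ⟨div_nonneg h0 hd.le, ?_⟩
    rw [div_le_iff₀ hd]
    nlinarith

theorem cntG_one_le (q : ℕ) (hq : 3 ≤ q) : ∀ m k, 1 ≤ m →
    (cntG q (fun _ => 1) m (2 * k) : ℚ) ≤ cN m * q ^ k
  | 1, k, _ => by
    rw [cntG_one, cN, one_mul, cwS, if_neg (by decide), cO, if_pos (even_two_mul k),
      Nat.mul_div_cancel_left _ two_pos]
    push_cast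
    exact le_rfl
  | m + 2, k, _ => step_square q hq (fun _ => 1) m 0 k (by omega) _ (cN_le (m + 1) (by omega)).1
      (fun a => by rw [cwS, if_neg (by decide)]) fun j => cntG_one_le q hq (m + 1) j (by omega)

/-- Upper bound for orthogonal groups in even dimension. -/
theorem classes_orth_le (hodd : Odd (Fintype.card F)) {n N : ℕ} (hn : 1 ≤ n) (hN : N = 2 * n)
    (M : Matrix (Fin N) (Fin N) F) (hM : M.transpose = M) (hMu : M.det ≠ 0) :
    2 * Nat.card (ConjClasses ↥(orthS M)) ≤ 19 * Fintype.card F ^ n := by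
  have h2 : (2 : F) ≠ 0 := Disc.two_ne_zero_of_odd hodd
  have hq : 3 ≤ Fintype.card F := by
    have := Fintype.one_lt_card (α := F)
    obtain ⟨r, hr⟩ := hodd
    omega
  subst hN
  have h1 := (classes_le_orth h2 M hM hMu).trans
    (Nat.add_le_add (card_DG h2 Nat.succ _ _) (card_DG h2 (fun _ => 1) _ _))
  have e1 := ((cntG_succ_le (Fintype.card F) hq (2 * n) n).1).trans
    (mul_le_mul_of_nonneg_right (bO_le (2 * n) (by omega)) (by positivity))
  have e2 := (cntG_one_le (Fintype.card F) hq (2 * n) n (by omega)).trans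
    (mul_le_mul_of_nonneg_right ((cN_le (2 * n) (by omega)).2.trans
      (show (2 : ℚ) * (1 - 3 / 2 * (1 / 3) ^ (2 * n)) ≤ 2 by
        linarith [pow_nonneg (show (0 : ℚ) ≤ 1 / 3 by norm_num) (2 * n)])) (by positivity))
  have h5 := (Nat.cast_le (α := ℚ)).2 h1
  have h4 : ((2 * Nat.card (ConjClasses ↥(orthS M)) : ℕ) : ℚ) ≤ ((19 * Fintype.card F ^ n : ℕ) : ℚ) := by
    push_cast at h5 ⊢
    linarith
  exact_mod_cast h4

end Cfsg.Agent.ClassNum
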