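import Cfsg.Agent.Lib.ClassNum.Bounds
import Cfsg.Agent.Lib.LinearGroups.Basic

/-!
Class numbers of projective special linear groups.
-/

set_option autoImplicit false
set_option linter.unusedSectionVars false

namespace Cfsg.Agent.ClassNum

open Polynomial S2478

universe u

variable {F : Type u} [Field F] [Fintype F] {n : ℕ}

/-- Multiplication of classes by central elements. -/
noncomputable def zmul (z : Subgroup.center (Matrix.SpecialLinearGroup (Fin n) F)) :
    ConjClasses (Matrix.SpecialLinearGroup (Fin n) F) → ConjClasses (Matrix.SpecialLinearGroup (Fin n) F) :=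
  Quotient.map' (fun g => (z : Matrix.SpecialLinearGroup (Fin n) F) * g) fun a b h => by
    obtain ⟨c, hc⟩ := isConj_iff.1 (show IsConj a b from h)
    refine (isConj_iff.2 ⟨c, ?_⟩ : IsConj _ _)
    rw [← hc, ← mul_assoc c, Subgroup.mem_center_iff.1 z.2 c]
    group

theorem zmul_mk (z : Subgroup.center (Matrix.SpecialLinearGroup (Fin n) F))
    (g : Matrix.SpecialLinearGroup (Fin n) F) :
    zmul z (ConjClasses.mk g) = ConjClasses.mk ((z : Matrix.SpecialLinearGroup (Fin n) F) * g) := rfl

/-- The action of the centre on classes. -/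
noncomputable def zAction : MulAction (Subgroup.center (Matrix.SpecialLinearGroup (Fin n) F))
    (ConjClasses (Matrix.SpecialLinearGroup (Fin n) F)) where
  smul := zmul
  one_smul C := by
    obtain ⟨g, rfl⟩ := ConjClasses.exists_rep C
    show zmul 1 (ConjClasses.mk g) = _
    rw [zmul_mk, Subgroup.coe_one, one_mul]
  mul_smul a b C := by
    obtain ⟨g, rfl⟩ := ConjClasses.exists_rep C
    show zmul (a * b) (ConjClasses.mk g) = zmul a (zmul b (ConjClasses.mk g))
    rw [zmul_mk, zmul_mk, zmul_mk, Subgroup.coe_mul, mul_assoc]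

/-- The quotient map on classes. -/
noncomputable def toPSL : ConjClasses (Matrix.SpecialLinearGroup (Fin n) F) →
    ConjClasses (Matrix.ProjectiveSpecialLinearGroup (Fin n) F) :=
  ConjClasses.map (QuotientGroup.mk' (Subgroup.center (Matrix.SpecialLinearGroup (Fin n) F)))

theorem exists_zmul {C D : ConjClasses (Matrix.SpecialLinearGroup (Fin n) F)} (h : toPSL C = toPSL D) :
    ∃ z, zmul z D = C := by
  obtain ⟨g, rfl⟩ := ConjClasses.exists_rep C
  obtain ⟨k, rfl⟩ := ConjClasses.exists_rep D
  have h' : IsConj (QuotientGroup.mk' (Subgroup.center (Matrix.SpecialLinearGroup (Fin n) F)) g)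
      (QuotientGroup.mk' (Subgroup.center (Matrix.SpecialLinearGroup (Fin n) F)) k) :=
    ConjClasses.mk_eq_mk_iff_isConj.1 h
  obtain ⟨cq, hc⟩ := isConj_iff.1 h'
  obtain ⟨c, rfl⟩ := QuotientGroup.mk'_surjective _ cq
  rw [← map_inv, ← map_mul, ← map_mul] at hc
  refine ⟨⟨(c * g * c⁻¹) * k⁻¹, ?_⟩, ?_⟩
  · have h2 := QuotientGroup.eq.1 hc.symm
    have h3 := Subgroup.mem_center_iff.1 h2 k
    have : (c * g * c⁻¹) * k⁻¹ = k⁻¹ * (c * g * c⁻¹) := by
      calc _ = (k * (k⁻¹ * (c * g * c⁻¹))) * k⁻¹ := by group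
        _ = _ := by rw [h3]; group
    rwa [this]
  · rw [zmul_mk]
    exact ConjClasses.mk_eq_mk_iff_isConj.2 (isConj_iff.2 ⟨c⁻¹, by group⟩)

theorem toPSL_zmul (z : Subgroup.center (Matrix.SpecialLinearGroup (Fin n) F))
    (C : ConjClasses (Matrix.SpecialLinearGroup (Fin n) F)) : toPSL (zmul z C) = toPSL C := by
  obtain ⟨g, rfl⟩ := ConjClasses.exists_rep C
  rw [zmul_mk]
  show ConjClasses.mk (QuotientGroup.mk' _ _) = ConjClasses.mk (QuotientGroup.mk' _ g)
  rw [map_mul, show QuotientGroup.mk' (Subgroup.center (Matrix.SpecialLinearGroup (Fin n) F)) z.1 = 1 from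
    (QuotientGroup.eq_one_iff _).2 z.2, one_mul]

theorem psl_lower :
    Nat.card (ConjClasses (Matrix.SpecialLinearGroup (Fin n) F)) ≤
      Nat.card (Subgroup.center (Matrix.SpecialLinearGroup (Fin n) F)) *
        Nat.card (ConjClasses (Matrix.ProjectiveSpecialLinearGroup (Fin n) F)) := by
  classical
  let lift := Function.invFun (toPSL (F := F) (n := n))
  have hlift : ∀ C, toPSL (lift (toPSL C)) = toPSL (F := F) (n := n) C := fun C => Function.invFun_eq ⟨C, rfl⟩
  choose z hz using fun C => exists_zmul (hlift C).symm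
  rw [← Nat.card_prod]
  refine Nat.card_le_card_of_injective (fun C => (z C, toPSL C)) fun C D h => ?_
  rw [Prod.mk.injEq] at h
  rw [← hz C, ← hz D, h.1, h.2]

theorem psl_burnside [Fintype (Subgroup.center (Matrix.SpecialLinearGroup (Fin n) F))] :
    Nat.card (Subgroup.center (Matrix.SpecialLinearGroup (Fin n) F)) *
        Nat.card (ConjClasses (Matrix.ProjectiveSpecialLinearGroup (Fin n) F)) ≤
      ∑ z : Subgroup.center (Matrix.SpecialLinearGroup (Fin n) F),
        Nat.card {C : ConjClasses (Matrix.SpecialLinearGroup (Fin n) F) // zmul z C = C} := by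
  classical
  letI := zAction (F := F) (n := n)
  haveI : Fintype (ConjClasses (Matrix.SpecialLinearGroup (Fin n) F)) := Fintype.ofFinite _
  let Ω := MulAction.orbitRel.Quotient (Subgroup.center (Matrix.SpecialLinearGroup (Fin n) F))
    (ConjClasses (Matrix.SpecialLinearGroup (Fin n) F))
  have h := MulAction.sum_card_fixedBy_eq_card_orbits_mul_card_group
    (Subgroup.center (Matrix.SpecialLinearGroup (Fin n) F))
    (ConjClasses (Matrix.SpecialLinearGroup (Fin n) F))
  have hs : Nat.card (ConjClasses (Matrix.ProjectiveSpecialLinearGroup (Fin n) F)) ≤ Nat.card Ω := by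
    let f : Ω → ConjClasses (Matrix.ProjectiveSpecialLinearGroup (Fin n) F) :=
      Quotient.lift toPSL fun a b hab => by
        obtain ⟨z, rfl⟩ := hab
        exact toPSL_zmul z b
    refine Nat.card_le_card_of_surjective f fun D => ?_
    obtain ⟨x, rfl⟩ := ConjClasses.exists_rep D
    obtain ⟨g, rfl⟩ := QuotientGroup.mk'_surjective _ x
    exact ⟨Quotient.mk _ (ConjClasses.mk g), rfl⟩
  calc _ ≤ Nat.card (Subgroup.center (Matrix.SpecialLinearGroup (Fin n) F)) * Nat.card Ω :=
        Nat.mul_le_mul_left _ hs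
    _ = _ := by
      rw [Nat.card_eq_fintype_card, Nat.card_eq_fintype_card, mul_comm, ← h]
      exact Finset.sum_congr rfl fun z _ => by
        rw [← Nat.card_eq_fintype_card]
        rfl

/-- The bound for classes fixed by a central element attached to the order `m` of its scalar. -/
theorem fix_le (z : Subgroup.center (Matrix.SpecialLinearGroup (Fin n) F)) (hn : 2 ≤ n) (hz : z ≠ 1) :
    ∃ m, 2 ≤ m ∧ m ∣ n ∧ m ∣ Fintype.card F - 1 ∧ (m = 2 → (z : Matrix.SpecialLinearGroup (Fin n) F).1 = -1) ∧
      Nat.card {C : ConjClasses (Matrix.SpecialLinearGroup (Fin n) F) // zmul z C = C} ≤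
        min (Fintype.card F - 1) (n / m) * cnt (Fintype.card F) n (n / m) ∧
      (m = n → Nat.card {C : ConjClasses (Matrix.SpecialLinearGroup (Fin n) F) // zmul z C = C} ≤ 1) := by
  classical
  obtain ⟨r, hr, hrz⟩ := Matrix.SpecialLinearGroup.mem_center_iff.1 z.2
  rw [Fintype.card_fin] at hr
  have hr0 : r ≠ 0 := fun h => by rw [h, zero_pow (by omega)] at hr; exact zero_ne_one hr
  set ζ : Fˣ := Units.mk0 r hr0 with hζdef
  have hζn : ζ ^ n = 1 := Units.ext (by rw [Units.val_pow_eq_pow_val]; exact hr)
  have hm2 : 2 ≤ orderOf ζ := by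
    have h0 := orderOf_pos ζ
    by_contra h
    have h1 : ζ = 1 := orderOf_eq_one_iff.1 (by omega)
    refine hz (Subtype.ext (Subtype.ext ?_))
    rw [← hrz, show r = 1 from congrArg Units.val h1, map_one]
    rfl
  have hmn : orderOf ζ ∣ n := orderOf_dvd_of_pow_eq_one hζn
  refine ⟨orderOf ζ, hm2, hmn, ?_, ?_, ?_⟩
  · rw [← Fintype.card_units]; exact orderOf_dvd_card
  · intro h2
    have h1 : ζ ^ 2 = 1 := h2 ▸ pow_orderOf_eq_one ζ
    have h3 : r ^ 2 = 1 := by simpa [hζdef] using congrArg Units.val h1
    rcases sq_eq_one_iff.1 h3 with h4 | h4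
    · exfalso
      have : ζ = 1 := Units.ext h4
      rw [this, orderOf_one] at h2
      omega
    · rw [← hrz, h4, map_neg, map_one]
  have hkey : ∀ C : ConjClasses (Matrix.SpecialLinearGroup (Fin n) F), zmul z C = C →
      ∀ g, ConjClasses.mk g = C → Inv (orderOf ζ) (tupG (iot g)) := by
    rintro C hC g rfl
    rw [zmul_mk] at hC
    obtain ⟨c, hc⟩ := isConj_iff.1 (ConjClasses.mk_eq_mk_iff_isConj.1 hC).symm
    refine inv_of_twist (iot g) (iot c) ζ ?_
    rw [← map_inv, ← map_mul, ← map_mul, hc]
    show ((z : Matrix.SpecialLinearGroup (Fin n) F) * g).1 = r • g.1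
    rw [Matrix.SpecialLinearGroup.coe_mul, ← hrz]
    ext i j
    simp [Matrix.scalar, Matrix.diagonal_mul]
  have hle : Nat.card {C : ConjClasses (Matrix.SpecialLinearGroup (Fin n) F) // zmul z C = C} ≤
      ∑ T ∈ (Finset.univ : Finset (S F n n)).filter (fun T => DT T = 1 ∧ Inv (orderOf ζ) T), eT T :=
    le_trans (Nat.card_le_card_of_injective
      (fun C => (⟨C.1, hkey C.1 C.2⟩ : {C : ConjClasses (Matrix.SpecialLinearGroup (Fin n) F) //
        ∀ g, ConjClasses.mk g = C → Inv (orderOf ζ) (tupG (iot g))}))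
      (fun a b h => Subtype.ext (congrArg (fun C => C.1) h))) (classes_le _)
  refine ⟨hle.trans ((Finset.sum_le_sum_of_subset ?_).trans (inv_count (by omega) (by omega) hmn)), fun hmn' => ?_⟩
  · intro T hT
    exact Finset.mem_filter.2 ⟨Finset.mem_univ _, (Finset.mem_filter.1 hT).2.2⟩
  · refine hle.trans ?_
    rw [hmn']
    rcases Finset.eq_empty_or_nonempty ((Finset.univ : Finset (S F n n)).filter fun T => DT T = 1 ∧ Inv n T) with h | ⟨T, hT⟩
    · rw [h]; simp
    · have hT' := (Finset.mem_filter.1 hT).2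
      rw [Finset.eq_singleton_iff_unique_mem.2 ⟨hT, fun T' hT'' =>
        (inv_top (by omega) (Finset.mem_filter.1 hT'').2.2 hT'.2 (Finset.mem_filter.1 hT'').2.1 hT'.1).1⟩,
        Finset.sum_singleton]
      exact ((inv_top (by omega) hT'.2 hT'.2 hT'.1 hT'.1).2).le

theorem center_card (hn : 2 ≤ n) :
    Nat.card (Subgroup.center (Matrix.SpecialLinearGroup (Fin n) F)) = Nat.gcd n (Fintype.card F - 1) := by
  haveI : Nonempty (Fin n) := ⟨⟨0, by omega⟩⟩
  have h := LinGrp.natCard_center_SL (n := Fin n) (F := F)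
  rwa [Fintype.card_fin, Nat.card_eq_fintype_card (α := F)] at h

theorem fix_sum (hn : 3 ≤ n) [Fintype (Subgroup.center (Matrix.SpecialLinearGroup (Fin n) F))]
    [DecidableEq (Subgroup.center (Matrix.SpecialLinearGroup (Fin n) F))] :
    ∑ z ∈ (Finset.univ : Finset (Subgroup.center (Matrix.SpecialLinearGroup (Fin n) F))).erase 1,
      Nat.card {C : ConjClasses (Matrix.SpecialLinearGroup (Fin n) F) // zmul z C = C} ≤
      2 * Fintype.card F ^ (n - 2) := by
  classical
  set E := (Finset.univ : Finset (Subgroup.center (Matrix.SpecialLinearGroup (Fin n) F))).erase 1 with hE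
  obtain ⟨q, hq⟩ : ∃ q, Fintype.card F = q := ⟨_, rfl⟩
  have hq2 : 2 ≤ q := hq ▸ Fintype.one_lt_card
  have hcard : E.card + 1 = Nat.gcd n (q - 1) := by
    rw [hE, Finset.card_erase_of_mem (Finset.mem_univ _), Finset.card_univ, ← Nat.card_eq_fintype_card,
      center_card (by omega), hq]
    have : 0 < Nat.gcd n (q - 1) := Nat.gcd_pos_of_pos_left _ (by omega)
    omega
  have hd1 : Nat.gcd n (q - 1) ≤ q - 1 := Nat.le_of_dvd (by omega) (Nat.gcd_dvd_right _ _)
  have hd2 : Nat.gcd n (q - 1) ≤ n := Nat.le_of_dvd (by omega) (Nat.gcd_dvd_left _ _)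
  rw [hq]
  have hfix : ∀ z ∈ E, ∃ m, 2 ≤ m ∧ m ∣ n ∧ (m = 2 → (z : Matrix.SpecialLinearGroup (Fin n) F).1 = -1) ∧
      Nat.card {C : ConjClasses (Matrix.SpecialLinearGroup (Fin n) F) // zmul z C = C} ≤
        min (q - 1) (n / m) * cnt q n (n / m) ∧
      (m = n → Nat.card {C : ConjClasses (Matrix.SpecialLinearGroup (Fin n) F) // zmul z C = C} ≤ 1) := by
    intro z hz
    obtain ⟨m, h1, h2, -, h4, h5, h6⟩ := fix_le z (by omega) (Finset.mem_erase.1 hz).1
    rw [hq] at h5
    exact ⟨m, h1, h2, h4, h5, h6⟩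
  by_cases h8 : 8 ≤ n
  · refine (Finset.sum_le_card_nsmul E _ (q * q ^ (n / 2)) fun z hz => ?_).trans ?_
    · obtain ⟨m, h1, h2, -, h5, -⟩ := hfix z hz
      refine h5.trans (Nat.mul_le_mul ((min_le_left _ _).trans (Nat.sub_le _ _)) ?_)
      exact (cnt_le' q (by omega) _ _ (by omega)).trans
        (Nat.pow_le_pow_right (by omega) (Nat.div_le_div_left h1 two_pos))
    · rw [smul_eq_mul]
      calc E.card * (q * q ^ (n / 2)) ≤ q * (q * q ^ (n / 2)) := Nat.mul_le_mul_right _ (by omega)
        _ = q ^ (n / 2 + 2) := by ring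
        _ ≤ q ^ (n - 2) := Nat.pow_le_pow_right (by omega) (by omega)
        _ ≤ _ := Nat.le_mul_of_pos_left _ two_pos
  · by_cases hp : n.Prime
    · refine (Finset.sum_le_card_nsmul E _ 1 fun z hz => ?_).trans ?_
      · obtain ⟨m, h1, h2, -, -, h6⟩ := hfix z hz
        exact h6 ((hp.eq_one_or_self_of_dvd m h2).resolve_left (by omega))
      · rw [smul_eq_mul, mul_one]
        have := Nat.le_self_pow (show n - 2 ≠ 0 by omega) q
        omega
    · have hn46 : n = 4 ∨ n = 6 := by
        interval_cases n <;> norm_num at hp <;> simp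
      obtain ⟨A, B, hB2, hA, hAB⟩ : ∃ A B, (∀ z ∈ E, (z : Matrix.SpecialLinearGroup (Fin n) F).1 ≠ -1 →
          Nat.card {C : ConjClasses (Matrix.SpecialLinearGroup (Fin n) F) // zmul z C = C} ≤ B) ∧
          (∀ z ∈ E, Nat.card {C : ConjClasses (Matrix.SpecialLinearGroup (Fin n) F) // zmul z C = C} ≤ A + B) ∧
          A + E.card * B ≤ 2 * q ^ (n - 2) := by
        rcases hn46 with rfl | rfl
        · have c := (cnt_small q (by omega)).2.2.2
          refine ⟨2 * cnt q 4 2 - 1, 1, fun z hz hne => ?_, fun z hz => ?_, ?_⟩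
          · obtain ⟨m, h1, h2, h4, -, h6⟩ := hfix z hz
            have h7 := Nat.le_of_dvd (by norm_num) h2
            interval_cases m <;> norm_num at h2
            · exact absurd (h4 rfl) hne
            · exact h6 rfl
          · obtain ⟨m, h1, h2, -, h5, h6⟩ := hfix z hz
            have h7 := Nat.le_of_dvd (by norm_num) h2
            interval_cases m <;> norm_num at h2
            · refine h5.trans ((Nat.mul_le_mul_right _ (min_le_right _ _)).trans ?_)
              norm_num
              omega
            · exact (h6 rfl).trans (Nat.le_add_left _ _)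
          · have := Nat.pow_le_pow_left hq2 2
            norm_num at this ⊢
            omega
        · refine ⟨3 * q ^ 3, 2 * q ^ 2, fun z hz hne => ?_, fun z hz => ?_, ?_⟩
          · obtain ⟨m, h1, h2, h4, h5, h6⟩ := hfix z hz
            have h7 := Nat.le_of_dvd (by norm_num) h2
            interval_cases m <;> norm_num at h2
            · exact absurd (h4 rfl) hne
            · exact h5.trans (Nat.mul_le_mul (min_le_right _ _) (cnt_le' q (by omega) _ _ (by norm_num)))
            · exact (h6 rfl).trans (Nat.mul_pos two_pos (pow_pos (by omega) 2))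
          · obtain ⟨m, h1, h2, -, h5, h6⟩ := hfix z hz
            have h7 := Nat.le_of_dvd (by norm_num) h2
            interval_cases m <;> norm_num at h2
            · exact h5.trans ((Nat.mul_le_mul (min_le_right _ _)
                (cnt_le' q (by omega) _ _ (by norm_num))).trans (Nat.le_add_right _ _))
            · exact h5.trans ((Nat.mul_le_mul (min_le_right _ _)
                (cnt_le' q (by omega) _ _ (by norm_num))).trans (Nat.le_add_left _ _))
            · exact (h6 rfl).trans (le_trans (Nat.mul_pos two_pos (pow_pos (by omega) 2)) (Nat.le_add_left _ _))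
          · norm_num
            rcases Nat.eq_zero_or_pos E.card with h0 | h0
            · rw [h0, zero_mul, add_zero]
              rcases Nat.lt_or_ge q 2 with h | h
              · omega
              · nlinarith [Nat.pow_le_pow_left h 3]
            · have h3 : 3 ≤ q := by omega
              have := Nat.mul_le_mul_right (2 * q ^ 2) (show E.card ≤ q - 2 by omega)
              obtain ⟨t, rfl⟩ : ∃ t, q = t + 3 := ⟨q - 3, by omega⟩
              rw [show t + 3 - 2 = t + 1 by omega] at this
              have h' : 3 * (t + 3) + (t + 1) * 2 ≤ 2 * (t + 3) ^ 2 := by nlinarith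
              have h'' := Nat.mul_le_mul_left ((t + 3) ^ 2) h'
              simp only [pow_succ, pow_zero, one_mul] at *
              linarith
      calc _ ≤ ∑ z ∈ E, ((if (z : Matrix.SpecialLinearGroup (Fin n) F).1 = -1 then A else 0) + B) :=
            Finset.sum_le_sum fun z hz => by
              split_ifs with h
              · exact hA z hz
              · rw [zero_add]; exact hB2 z hz h
        _ ≤ A + E.card * B := by
            rw [Finset.sum_add_distrib, Finset.sum_const, smul_eq_mul]
            refine Nat.add_le_add_right ?_ _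
            rw [← Finset.sum_filter, Finset.sum_const, smul_eq_mul]
            refine le_trans (Nat.mul_le_mul_right _ (Finset.card_le_one.2 fun a ha b hb => ?_)) (one_mul A).le
            exact Subtype.ext (Subtype.ext ((Finset.mem_filter.1 ha).2.trans (Finset.mem_filter.1 hb).2.symm))
        _ ≤ _ := hAB

theorem psl_bounds (hn : 2 ≤ n) :
    Fintype.card F ^ (n - 1) ≤ Nat.gcd n (Fintype.card F - 1) *
        Nat.card (ConjClasses (Matrix.ProjectiveSpecialLinearGroup (Fin n) F)) ∧
      Nat.gcd n (Fintype.card F - 1) * Nat.card (ConjClasses (Matrix.ProjectiveSpecialLinearGroup (Fin n) F)) ≤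
        Fintype.card F ^ (n - 1) + 5 * Fintype.card F ^ (n - 2) := by
  classical
  have hd := center_card (F := F) hn
  rw [← hd]
  refine ⟨(sl_classes_lower hn).le.trans psl_lower, ?_⟩
  haveI : Fintype (Subgroup.center (Matrix.SpecialLinearGroup (Fin n) F)) := Fintype.ofFinite _
  refine psl_burnside.trans ?_
  rw [← Finset.add_sum_erase _ _ (Finset.mem_univ (1 : Subgroup.center (Matrix.SpecialLinearGroup (Fin n) F)))]
  have h1 : Nat.card {C : ConjClasses (Matrix.SpecialLinearGroup (Fin n) F) // zmul 1 C = C} =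
      Nat.card (ConjClasses (Matrix.SpecialLinearGroup (Fin n) F)) :=
    Nat.card_congr (Equiv.subtypeUnivEquiv fun C => (zAction (F := F) (n := n)).one_smul C)
  rw [h1]
  rcases eq_or_lt_of_le hn with rfl | h3
  · have h2 := (sl_classes_two (F := F)).1
    have h4 : ∑ z ∈ (Finset.univ : Finset (Subgroup.center (Matrix.SpecialLinearGroup (Fin 2) F))).erase 1,
        Nat.card {C : ConjClasses (Matrix.SpecialLinearGroup (Fin 2) F) // zmul z C = C} ≤ 1 := by
      refine (Finset.sum_le_card_nsmul _ _ 1 fun z hz => ?_).trans ?_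
      · obtain ⟨m, h1, h2, -, -, -, h6⟩ := fix_le z le_rfl (Finset.mem_erase.1 hz).1
        exact h6 (le_antisymm (Nat.le_of_dvd two_pos h2) h1)
      · rw [smul_eq_mul, mul_one, Finset.card_erase_of_mem (Finset.mem_univ _), Finset.card_univ,
          ← Nat.card_eq_fintype_card, hd]
        have := Nat.le_of_dvd two_pos (Nat.gcd_dvd_left 2 (Fintype.card F - 1))
        omega
    simp only [show (2 : ℕ) - 1 = 1 from rfl, show (2 : ℕ) - 2 = 0 from rfl, pow_one, pow_zero]
    omega
  · have := sl_classes_ge_three (F := F) (n := n) h3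
    have := fix_sum (F := F) (n := n) h3
    omega

end Cfsg.Agent.ClassNum
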