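import Cfsg.Agent.Lib.FormCentral.Bilin
import Cfsg.Agent.Lib.Forms.UnipotentForms

/-!
Similar symplectic isometries are isometrically conjugate as soon as the forms on the two unipotent
parts have congruent blocks.
-/

set_option autoImplicit false
set_option linter.unusedSectionVars false

namespace Cfsg.Agent.ClassNum

open FormsLib JordanType
open scoped Matrix

variable {F V : Type*} [Field F] [AddCommGroup V] [Module F V] [FiniteDimensional F V]
  {B : LinearMap.BilinForm F V} {ε : F}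

/-- The generalised eigenspace of a sign. -/
noncomputable def gker (A : Module.End F V) (c : F) : Submodule F V :=
  LinearMap.ker ((A - c • 1) ^ Module.finrank F V)

/-- Its complement. -/
noncomputable def grange (A : Module.End F V) (c : F) : Submodule F V :=
  LinearMap.range ((A - c • 1) ^ Module.finrank F V)

theorem isCompl_gker (A : Module.End F V) (c : F) : IsCompl (gker A c) (grange A c) := by
  set f := A - c • (1 : Module.End F V) with hf
  set N := Module.finrank F V with hN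
  have hd : Disjoint (LinearMap.ker (f ^ N)) (LinearMap.range (f ^ N)) := by
    rw [Submodule.disjoint_def]
    rintro x hx ⟨y, rfl⟩
    have h1 : y ∈ LinearMap.ker (f ^ (N + N)) := by
      rw [LinearMap.mem_ker, pow_add, Module.End.mul_apply]
      exact hx
    rw [Module.End.ker_pow_eq_ker_pow_finrank_of_le (Nat.le_add_right N N)] at h1
    exact h1
  refine ⟨hd, codisjoint_iff.2 (Submodule.eq_top_of_finrank_eq ?_)⟩
  have h1 := Submodule.finrank_sup_add_finrank_inf_eq (LinearMap.ker (f ^ N)) (LinearMap.range (f ^ N))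
  rw [hd.eq_bot, finrank_bot, add_zero] at h1
  show Module.finrank F ↥(LinearMap.ker (f ^ N) ⊔ LinearMap.range (f ^ N)) = _
  rw [h1, add_comm, LinearMap.finrank_range_add_finrank_ker]

theorem gker_inv (A : Module.End F V) (c : F) : ∀ x ∈ gker A c, A x ∈ gker A c := by
  intro x hx
  have hc : Commute ((A - c • (1 : Module.End F V)) ^ Module.finrank F V) A :=
    ((Commute.refl A).sub_left ((Commute.one_left A).smul_left c)).pow_left _
  show ((A - c • (1 : Module.End F V)) ^ Module.finrank F V) (A x) = 0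
  rw [← Module.End.mul_apply, hc.eq, Module.End.mul_apply, LinearMap.mem_ker.1 hx, map_zero]

theorem grange_inv (A : Module.End F V) (c : F) : ∀ x ∈ grange A c, A x ∈ grange A c := by
  rintro _ ⟨y, rfl⟩
  have hc : Commute ((A - c • (1 : Module.End F V)) ^ Module.finrank F V) A :=
    ((Commute.refl A).sub_left ((Commute.one_left A).smul_left c)).pow_left _
  exact ⟨A y, LinearMap.congr_fun hc.eq y⟩

theorem injective_of_preserves (hV : IsTraceForm (RingHom.id F) ε B) {A : Module.End F V}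
    (hA : ∀ u v, B (A u) (A v) = B u v) : Function.Injective A := fun a b hab =>
  sub_eq_zero.1 (hV.nondeg _ fun w => by rw [← hA, map_sub, hab, sub_self, map_zero, LinearMap.zero_apply])

theorem gker_orth (hV : IsTraceForm (RingHom.id F) ε B) {A : Module.End F V}
    (hA : ∀ u v, B (A u) (A v) = B u v) {c : F} (hc : c * c = 1) {x y : V}
    (hx : x ∈ gker A c) (hy : y ∈ grange A c) : B x y = 0 ∧ B y x = 0 := by
  obtain ⟨u, rfl⟩ := hy
  set f := A - c • (1 : Module.End F V) with hf
  have key : ∀ (k : ℕ) (u w : V), B ((f ^ k) u) ((A ^ k) w) = (-c) ^ k * B u ((f ^ k) w) := by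
    intro k
    induction k with
    | zero => intro u w; simp
    | succ k ih =>
      intro u w
      have h1 : B (f u) (A ((f ^ k) w)) = -c * B u (f ((f ^ k) w)) := by
        rw [hf]
        simp only [LinearMap.sub_apply, LinearMap.smul_apply, Module.End.one_apply, map_sub, map_smul,
          smul_eq_mul, hA]
        linear_combination (-B u ((f ^ k) w)) * hc
      rw [pow_succ, Module.End.mul_apply, pow_succ, Module.End.mul_apply, ih]
      have hfA : (f ^ k) (A w) = A ((f ^ k) w) :=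
        LinearMap.congr_fun (((Commute.refl A).sub_left ((Commute.one_left A).smul_left c)).pow_left k).eq w
      rw [hfA, h1, ← mul_assoc, ← pow_succ, ← Module.End.mul_apply f, ← pow_succ', pow_succ f]
  set N := Module.finrank F V with hN
  obtain ⟨z, hz⟩ : x ∈ LinearMap.range (A ^ N) := by
    have hs : Function.Surjective ⇑(A ^ N) := LinearMap.injective_iff_surjective.1 (by
      rw [Module.End.coe_pow]
      exact (injective_of_preserves hV hA).iterate N)
    exact hs x
  have hzk : (f ^ N) z = 0 := by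
    refine (injective_of_preserves hV hA).iterate N ?_
    rw [← Module.End.coe_pow]
    have hfA : (A ^ N) ((f ^ N) z) = (f ^ N) ((A ^ N) z) :=
      LinearMap.congr_fun ((((Commute.refl A).sub_left ((Commute.one_left A).smul_left c)).pow_pow N N).eq.symm) z
    rw [hfA, hz, map_zero]
    exact hx
  have h1 := key N u z
  rw [hzk, map_zero, mul_zero, hz] at h1
  exact ⟨by rw [hV.flip, h1, map_zero, mul_zero], h1⟩

theorem gker_le_grange (A : Module.End F V) {c d : F} (hcd : c ≠ d) : gker A d ≤ grange A c := by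
  intro x hx
  have hco : IsCoprime ((Polynomial.X - Polynomial.C c) ^ Module.finrank F V)
      ((Polynomial.X - Polynomial.C d) ^ Module.finrank F V) :=
    (Polynomial.isCoprime_X_sub_C_of_isUnit_sub (sub_ne_zero.2 hcd).isUnit).pow
  obtain ⟨a, b, hab⟩ := hco
  have h := congrArg (fun P => Polynomial.aeval A P x) hab
  have he : ∀ c : F, Polynomial.aeval A ((Polynomial.X - Polynomial.C c) ^ Module.finrank F V) =
      (A - c • (1 : Module.End F V)) ^ Module.finrank F V := fun c => by
    rw [map_pow, map_sub, Polynomial.aeval_X, Polynomial.aeval_C, Algebra.algebraMap_eq_smul_one]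
  simp only [map_add, map_mul, map_one, LinearMap.add_apply, Module.End.mul_apply, Module.End.one_apply, he,
    LinearMap.mem_ker.1 hx, map_zero, add_zero] at h
  rw [mul_comm a] at hab
  refine ⟨Polynomial.aeval A a x, ?_⟩
  rw [← he c, ← Module.End.mul_apply, ← map_mul, mul_comm, map_mul, Module.End.mul_apply, he c]
  exact h

theorem gker_map {A A' : Module.End F V} (P : V ≃ₗ[F] V) (hP : ∀ v, P (A v) = A' (P v)) (c : F) :
    (gker A c).map (P : V →ₗ[F] V) = gker A' c := by
  have hcomm : ∀ (k : ℕ) v, P (((A - c • (1 : Module.End F V)) ^ k) v) =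
      ((A' - c • (1 : Module.End F V)) ^ k) (P v) := by
    intro k
    induction k with
    | zero => intro v; rfl
    | succ k ih => intro v; rw [pow_succ, pow_succ, Module.End.mul_apply, Module.End.mul_apply, ih]; simp [hP]
  refine le_antisymm ?_ fun w hw => ⟨P.symm w, ?_, P.apply_symm_apply w⟩
  · rintro _ ⟨x, hx, rfl⟩
    show ((A' - c • (1 : Module.End F V)) ^ _) (P x) = 0
    rw [← hcomm, LinearMap.mem_ker.1 hx, map_zero]
  · refine P.injective ?_
    rw [hcomm, P.apply_symm_apply, map_zero]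
    exact hw

/-- The part without eigenvalues `±1`. -/
noncomputable def grest (A : Module.End F V) : Submodule F V := grange A 1 ⊓ grange A (-1)

theorem grange_map {A A' : Module.End F V} (P : V ≃ₗ[F] V) (hP : ∀ v, P (A v) = A' (P v)) (c : F) :
    (grange A c).map (P : V →ₗ[F] V) = grange A' c := by
  have hcomm : ∀ (k : ℕ) v, P (((A - c • (1 : Module.End F V)) ^ k) v) =
      ((A' - c • (1 : Module.End F V)) ^ k) (P v) := by
    intro k
    induction k with
    | zero => intro v; rfl
    | succ k ih => intro v; rw [pow_succ, pow_succ, Module.End.mul_apply, Module.End.mul_apply, ih]; simp [hP]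
  refine le_antisymm ?_ ?_
  · rintro _ ⟨_, ⟨u, rfl⟩, rfl⟩
    exact ⟨P u, (hcomm _ u).symm⟩
  · rintro _ ⟨w, rfl⟩
    obtain ⟨u, rfl⟩ := P.surjective w
    exact ⟨_, ⟨u, rfl⟩, hcomm _ u⟩

theorem grest_map {A A' : Module.End F V} (P : V ≃ₗ[F] V) (hP : ∀ v, P (A v) = A' (P v)) :
    (grest A).map (P : V →ₗ[F] V) = grest A' := by
  rw [grest, grest, Submodule.map_inf _ P.injective, grange_map P hP, grange_map P hP]

theorem three_split {A : Module.End F V} (h2 : (1 : F) ≠ -1) (v : V) :
    ∃ a ∈ gker A 1, ∃ b ∈ gker A (-1), ∃ z ∈ grest A, a + b + z = v := by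
  obtain ⟨a, ha, y, hy, rfl⟩ := Submodule.mem_sup.1
    ((isCompl_gker A 1).sup_eq_top ▸ Submodule.mem_top : v ∈ gker A 1 ⊔ grange A 1)
  obtain ⟨b, hb, z, hz, rfl⟩ := Submodule.mem_sup.1
    ((isCompl_gker A (-1)).sup_eq_top ▸ Submodule.mem_top : y ∈ gker A (-1) ⊔ grange A (-1))
  refine ⟨a, ha, b, hb, z, ⟨?_, hz⟩, by rw [add_assoc]⟩
  have := Submodule.sub_mem _ hy (gker_le_grange A h2 hb)
  rwa [add_sub_cancel_left] at this

theorem three_orth (hV : IsTraceForm (RingHom.id F) ε B) {A : Module.End F V}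
    (hA : ∀ u v, B (A u) (A v) = B u v) (h2 : (1 : F) ≠ -1) {a b z : V} (ha : a ∈ gker A 1)
    (hb : b ∈ gker A (-1)) (hz : z ∈ grest A) :
    (B a b = 0 ∧ B b a = 0) ∧ (B a z = 0 ∧ B z a = 0) ∧ (B b z = 0 ∧ B z b = 0) :=
  ⟨gker_orth hV hA (one_mul 1) ha (gker_le_grange A h2 hb), gker_orth hV hA (one_mul 1) ha hz.1,
    gker_orth hV hA (by ring) hb hz.2⟩

variable [Finite F]

theorem exists_isometry_rest (hV : IsTraceForm (RingHom.id F) ε B) (h2 : (1 : F) ≠ -1)
    {A A' : Module.End F V} (hA : ∀ u v, B (A u) (A v) = B u v) (hA' : ∀ u v, B (A' u) (A' v) = B u v)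
    (P : V ≃ₗ[F] V) (hP : ∀ v, P (A v) = A' (P v)) :
    ∃ g : grest A ≃ₗ[F] grest A', (∀ u v, B (g u : V) (g v : V) = B (u : V) (v : V)) ∧
      ∀ (u : grest A) (hu : A u ∈ grest A), (g ⟨A u, hu⟩ : V) = A' (g u : V) := by
  have hinv : ∀ X : Module.End F V, ∀ x ∈ grest X, X x ∈ grest X := fun X x hx =>
    ⟨grange_inv X 1 x hx.1, grange_inv X (-1) x hx.2⟩
  have hnd : ∀ X : Module.End F V, (∀ u v, B (X u) (X v) = B u v) →
      IsTraceForm (RingHom.id F) ε (B.restrict (grest X)) := fun X hX =>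
    ⟨hV.invol, hV.eps, fun u v => hV.flip u v, fun u => hV.trace u, fun u hu => Subtype.ext (hV.nondeg (u : V) fun w => by
      obtain ⟨a, ha, b, hb, z, hz, rfl⟩ := three_split (A := X) h2 w
      rw [map_add, map_add, (three_orth hV hX h2 ha hb u.2).2.1.2, (three_orth hV hX h2 ha hb u.2).2.2.2,
        zero_add, zero_add]
      exact hu ⟨z, hz⟩)⟩
  let AX : Module.End F (grest A) := A.restrict (hinv A)
  let AX' : Module.End F (grest A') := A'.restrict (hinv A')
  let PX : grest A ≃ₗ[F] grest A' := P.ofSubmodules _ _ (grest_map P hP)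
  have hu : ∀ c : F, c = 1 ∨ c = -1 → Function.Injective fun x : grest A => A (x : V) - c • (x : V) := by
    intro c hc x y hxy
    refine Subtype.ext (sub_eq_zero.1 ?_)
    have h0 : (A - c • (1 : Module.End F V)) ((x : V) - y) = 0 := by
      simp only [LinearMap.sub_apply, LinearMap.smul_apply, Module.End.one_apply, map_sub]
      simp only at hxy
      linear_combination (norm := module) hxy
    have hk : ∀ d : F, d = c → ((x : V) - y) ∈ gker A d := by
      intro d hd
      rw [hd]
      rcases Nat.eq_zero_or_pos (Module.finrank F V) with h | h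
      · haveI := Module.finrank_zero_iff.1 h
        rw [Subsingleton.elim ((x : V) - y) 0]
        exact zero_mem _
      · show ((A - c • (1 : Module.End F V)) ^ Module.finrank F V) _ = 0
        rw [← Nat.sub_add_cancel h, pow_succ, Module.End.mul_apply, h0, map_zero]
    rcases hc with rfl | rfl
    · exact Submodule.disjoint_def.1 (isCompl_gker A 1).disjoint _ (hk 1 rfl) (sub_mem x.2 y.2).1
    · exact Submodule.disjoint_def.1 (isCompl_gker A (-1)).disjoint _ (hk (-1) rfl) (sub_mem x.2 y.2).2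
  have hu1 : IsUnit (1 - AX) := by
    rw [Module.End.isUnit_iff]
    have hi : Function.Injective ⇑(1 - AX) := fun x y h => hu 1 (Or.inl rfl) (by
      have h' : (x : V) - A x = (y : V) - A y := congrArg Subtype.val h
      simp only [one_smul]
      rw [← neg_sub, h', neg_sub])
    exact ⟨hi, LinearMap.injective_iff_surjective.1 hi⟩
  have hu2 : IsUnit (1 + AX) := by
    rw [Module.End.isUnit_iff]
    have hi : Function.Injective ⇑(1 + AX) := fun x y h => hu (-1) (Or.inr rfl) (by
      have h' : (x : V) + A x = (y : V) + A y := congrArg Subtype.val h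
      simp only [neg_smul, one_smul, sub_neg_eq_add]
      rw [add_comm, h', add_comm])
    exact ⟨hi, LinearMap.injective_iff_surjective.1 hi⟩
  obtain ⟨g, hg, hgA⟩ := FormCentral.exists_isometry_no_pm (hnd A hA) (hnd A' hA') AX AX'
    (fun u v => hA u v) (fun u v => hA' u v) PX (fun v => Subtype.ext (hP v)) hu1 hu2
  exact ⟨g, hg, fun u hu => congrArg Subtype.val (hgA u)⟩

/-- Glue the three parts. -/
theorem exists_glue_three (hV : IsTraceForm (RingHom.id F) ε B) (h2 : (1 : F) ≠ -1)
    {A A' : Module.End F V} (hA : ∀ u v, B (A u) (A v) = B u v) (hA' : ∀ u v, B (A' u) (A' v) = B u v)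
    (P : V ≃ₗ[F] V) (hP : ∀ v, P (A v) = A' (P v))
    (g₁ : gker A 1 →ₗ[F] gker A' 1) (hg₁ : ∀ u v, B (g₁ u : V) (g₁ v : V) = B (u : V) (v : V))
    (hg₁A : ∀ (u : gker A 1) (hu : A u ∈ gker A 1), (g₁ ⟨A u, hu⟩ : V) = A' (g₁ u : V))
    (g₂ : gker A (-1) →ₗ[F] gker A' (-1)) (hg₂ : ∀ u v, B (g₂ u : V) (g₂ v : V) = B (u : V) (v : V))
    (hg₂A : ∀ (u : gker A (-1)) (hu : A u ∈ gker A (-1)), (g₂ ⟨A u, hu⟩ : V) = A' (g₂ u : V)) :
    ∃ g : V ≃ₗ[F] V, (∀ u v, B (g u) (g v) = B u v) ∧ ∀ v, g (A v) = A' (g v) := by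
  obtain ⟨g₃, hg₃, hg₃A⟩ := exists_isometry_rest hV h2 hA hA' P hP
  let Φ : (gker A 1 × gker A (-1)) × grest A →ₗ[F] V :=
    ((gker A 1).subtype.coprod (gker A (-1)).subtype).coprod (grest A).subtype
  let Φ' : (gker A 1 × gker A (-1)) × grest A →ₗ[F] V :=
    (((gker A' 1).subtype.comp g₁).coprod ((gker A' (-1)).subtype.comp g₂)).coprod
      ((grest A').subtype.comp (g₃ : grest A →ₗ[F] grest A'))
  have hiso : ∀ x y, B (Φ' x) (Φ' y) = B (Φ x) (Φ y) := by
    rintro ⟨⟨a, b⟩, z⟩ ⟨⟨a', b'⟩, z'⟩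
    have o := three_orth hV hA h2 a.2 b'.2 z'.2
    have o' := three_orth hV hA h2 a'.2 b.2 z.2
    have p := three_orth hV hA' h2 (g₁ a).2 (g₂ b').2 (g₃ z').2
    have p' := three_orth hV hA' h2 (g₁ a').2 (g₂ b).2 (g₃ z).2
    simp only [Φ, Φ', LinearMap.coprod_apply, LinearMap.comp_apply, Submodule.subtype_apply,
      LinearEquiv.coe_coe, map_add, LinearMap.add_apply, hg₁, hg₂, hg₃]
    have q1 := (three_orth hV hA h2 a.2 b.2 z'.2).2.2.1
    have q2 := (three_orth hV hA h2 a.2 b'.2 z.2).2.2.2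
    have r1 := (three_orth hV hA' h2 (g₁ a).2 (g₂ b).2 (g₃ z').2).2.2.1
    have r2 := (three_orth hV hA' h2 (g₁ a).2 (g₂ b').2 (g₃ z).2).2.2.2
    rw [o.1.1, o'.1.2, o.2.1.1, o'.2.1.2, p.1.1, p'.1.2, p.2.1.1, p'.2.1.2, q1, q2, r1, r2]
  have hsur : Function.Surjective Φ := fun v => by
    obtain ⟨a, ha, b, hb, z, hz, rfl⟩ := three_split (A := A) h2 v
    exact ⟨((⟨a, ha⟩, ⟨b, hb⟩), ⟨z, hz⟩), rfl⟩
  let s : V → (gker A 1 × gker A (-1)) × grest A := Function.surjInv hsur
  have hinj : ∀ x y, Φ x = Φ y → Φ' x = Φ' y := fun x y h => sub_eq_zero.1 (by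
    refine hV.nondeg _ fun w => ?_
    obtain ⟨w', rfl⟩ : ∃ w', Φ' w' = w := by
      obtain ⟨a, ha, b, hb, z, hz, rfl⟩ := three_split (A := A') h2 w
      have s1 : Function.Surjective g₁ := by
        have hi : Function.Injective g₁ := fun u v huv => Subtype.ext (sub_eq_zero.1 (hV.nondeg _ fun w => by
          obtain ⟨a, ha, b, hb, z, hz, rfl⟩ := three_split (A := A) h2 w
          have o := three_orth hV hA h2 (sub_mem u.2 v.2) hb hz
          rw [map_add, map_add, o.1.1, o.2.1.1, add_zero, add_zero, ← Submodule.coe_sub, ← hg₁ _ ⟨a, ha⟩,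
            map_sub, huv, sub_self, Submodule.coe_zero, map_zero, LinearMap.zero_apply]))
        have e : Module.finrank F (gker A 1) = Module.finrank F (gker A' 1) := by
          rw [← gker_map P hP 1]; exact (P.submoduleMap _).finrank_eq
        exact (LinearMap.injective_iff_surjective_of_finrank_eq_finrank e).1 hi
      have s2 : Function.Surjective g₂ := by
        have hi : Function.Injective g₂ := fun u v huv => Subtype.ext (sub_eq_zero.1 (hV.nondeg _ fun w => by
          obtain ⟨a, ha, b, hb, z, hz, rfl⟩ := three_split (A := A) h2 w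
          have o := three_orth hV hA h2 ha (sub_mem u.2 v.2) hz
          rw [map_add, map_add, o.1.2, o.2.2.1, zero_add, add_zero, ← Submodule.coe_sub, ← hg₂ _ ⟨b, hb⟩,
            map_sub, huv, sub_self, Submodule.coe_zero, map_zero, LinearMap.zero_apply]))
        have e : Module.finrank F (gker A (-1)) = Module.finrank F (gker A' (-1)) := by
          rw [← gker_map P hP (-1)]; exact (P.submoduleMap _).finrank_eq
        exact (LinearMap.injective_iff_surjective_of_finrank_eq_finrank e).1 hi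
      obtain ⟨a', ha'⟩ := s1 ⟨a, ha⟩
      obtain ⟨b', hb'⟩ := s2 ⟨b, hb⟩
      obtain ⟨z', hz'⟩ := g₃.surjective ⟨z, hz⟩
      exact ⟨((a', b'), z'), by simp [Φ', ha', hb', hz']⟩
    rw [map_sub, LinearMap.sub_apply, hiso, hiso, h, sub_self])
  let g₀ : V →ₗ[F] V :=
    { toFun := fun v => Φ' (s v)
      map_add' := fun u v => by
        rw [← map_add]
        exact hinj _ _ (by rw [map_add, Function.surjInv_eq hsur, Function.surjInv_eq hsur, Function.surjInv_eq hsur])
      map_smul' := fun r v => by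
        rw [RingHom.id_apply, ← map_smul]
        exact hinj _ _ (by rw [map_smul, Function.surjInv_eq hsur, Function.surjInv_eq hsur]) }
  have hg₀ : ∀ x, g₀ (Φ x) = Φ' x := fun x => hinj _ _ (Function.surjInv_eq hsur _)
  have hiso₀ : ∀ u v, B (g₀ u) (g₀ v) = B u v := fun u v => by
    obtain ⟨x, rfl⟩ := hsur u
    obtain ⟨y, rfl⟩ := hsur v
    rw [hg₀, hg₀, hiso]
  have hbij : Function.Bijective g₀ :=
    ⟨injective_of_preserves hV hiso₀, LinearMap.injective_iff_surjective.1 (injective_of_preserves hV hiso₀)⟩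
  refine ⟨LinearEquiv.ofBijective g₀ hbij, hiso₀, fun v => ?_⟩
  obtain ⟨⟨⟨a, b⟩, z⟩, rfl⟩ := hsur v
  have hz : A (z : V) ∈ grest A := ⟨grange_inv A 1 _ z.2.1, grange_inv A (-1) _ z.2.2⟩
  have e : A (Φ ((a, b), z)) = Φ ((⟨A a, gker_inv A 1 _ a.2⟩, ⟨A b, gker_inv A (-1) _ b.2⟩), ⟨A z, hz⟩) := by
    simp [Φ]
  show g₀ (A (Φ ((a, b), z))) = A' (g₀ (Φ ((a, b), z)))
  rw [e, hg₀, hg₀]
  simp [Φ', hg₁A, hg₂A, hg₃A]

variable {t : ℕ} {d : Fin t → ℕ}

/-- Coordinates adapted to the unipotent part `c • A` on a generalised eigenspace. -/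
def IsCoord (A : Module.End F V) (c : F) (L : (Idx d → F) →ₗ[F] V) : Prop :=
  Function.Injective L ∧ LinearMap.range L = gker A c ∧ ∀ x, c • A (L x) = L ((1 + shift F d) *ᵥ x)

/-- The Gram matrix in coordinates. -/
noncomputable def gram (B : LinearMap.BilinForm F V) (L : (Idx d → F) →ₗ[F] V) : Matrix (Idx d) (Idx d) F :=
  LinearMap.toMatrix₂' F (B.compl₁₂ L L)

theorem gram_apply (L : (Idx d → F) →ₗ[F] V) (u v : Idx d → F) : u ⬝ᵥ (gram B L *ᵥ v) = B (L u) (L v) := by
  rw [← Matrix.toLinearMap₂'_apply', gram, Matrix.toLinearMap₂'_toMatrix']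
  rfl

theorem ext_dot {ι : Type*} [Fintype ι] [DecidableEq ι] {M M' : Matrix ι ι F}
    (h : ∀ u v : ι → F, u ⬝ᵥ (M *ᵥ v) = u ⬝ᵥ (M' *ᵥ v)) : M = M' := by
  ext i j
  simpa using h (Pi.single i 1) (Pi.single j 1)

theorem gram_invariant {A : Module.End F V} (hA : ∀ u v, B (A u) (A v) = B u v) {c : F} (hc : c * c = 1)
    {L : (Idx d → F) →ₗ[F] V} (hL : IsCoord A c L) :
    (1 + (shift F d)ᵀ) * gram B L * (1 + shift F d) = gram B L := by
  classical
  refine ext_dot fun u v => ?_
  rw [show (1 + (shift F d)ᵀ) = (1 + shift F d)ᵀ by rw [Matrix.transpose_add, Matrix.transpose_one],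
    ← Matrix.mulVec_mulVec, ← Matrix.mulVec_mulVec, Matrix.dotProduct_mulVec, Matrix.vecMul_transpose,
    gram_apply, gram_apply, ← hL.2.2, ← hL.2.2]
  simp only [map_smul, LinearMap.smul_apply, smul_eq_mul, hA]
  linear_combination B (L u) (L v) * hc

theorem gram_isUnit (hV : IsTraceForm (RingHom.id F) ε B) {A : Module.End F V}
    (hA : ∀ u v, B (A u) (A v) = B u v) {c : F} (hc : c * c = 1)
    {L : (Idx d → F) →ₗ[F] V} (hL : IsCoord A c L) : IsUnit (gram B L) := by
  classical
  rw [← Matrix.mulVec_injective_iff_isUnit]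
  intro v v' hvv
  refine hL.1 (sub_eq_zero.1 (hV.nondeg _ fun w => ?_))
  obtain ⟨a, ha, y, hy, rfl⟩ := Submodule.mem_sup.1
    ((isCompl_gker A c).sup_eq_top ▸ Submodule.mem_top : w ∈ gker A c ⊔ grange A c)
  have hk : L v - L v' ∈ gker A c := by rw [← hL.2.1, ← map_sub]; exact ⟨_, rfl⟩
  obtain ⟨u, rfl⟩ : a ∈ LinearMap.range L := hL.2.1.symm ▸ ha
  rw [map_add, (gker_orth hV hA hc hk hy).1, add_zero, hV.flip, map_sub, ← gram_apply, ← gram_apply, hvv,
    sub_self, map_zero, mul_zero]

theorem gram_props (hV : IsTraceForm (RingHom.id F) ε B) (hB : LinearMap.IsAlt B) {A : Module.End F V}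
    (hA : ∀ u v, B (A u) (A v) = B u v) {c : F} (hc : c * c = 1)
    {L : (Idx d → F) →ₗ[F] V} (hL : IsCoord A c L) :
    (1 + (shift F d)ᵀ) * gram B L * (1 + shift F d) = gram B L ∧ UnipotentForms.Alt (gram B L) ∧ IsUnit (gram B L) := by
  classical
  refine ⟨gram_invariant hA hc hL, ⟨ext_dot fun u v => ?_, fun a => ?_⟩, gram_isUnit hV hA hc hL⟩
  · rw [Matrix.mulVec_transpose, dotProduct_comm, ← Matrix.dotProduct_mulVec, gram_apply, Matrix.neg_mulVec,
      dotProduct_neg, gram_apply, hB.neg]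
  · have h := gram_apply (B := B) L (Pi.single a 1) (Pi.single a 1)
    rw [hB] at h
    simpa using h

theorem gram_symm (hB : ∀ u v, B u v = B v u) (L : (Idx d → F) →ₗ[F] V) : (gram B L)ᵀ = gram B L := by
  classical
  refine ext_dot fun u v => ?_
  rw [Matrix.mulVec_transpose, dotProduct_comm, ← Matrix.dotProduct_mulVec, gram_apply, gram_apply, hB]

/-- An intertwining isometry of unipotent parts from a congruence. -/
theorem exists_isometry_coord (A A' : Module.End F V) {c : F} (hc : c * c = 1)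
    {L L' : (Idx d → F) →ₗ[F] V} (hL : IsCoord A c L) (hL' : IsCoord A' c L')
    {X : Matrix (Idx d) (Idx d) F} (hX : Commute (shift F d) X) (hXG : Xᵀ * gram B L' * X = gram B L) :
    ∃ g : gker A c →ₗ[F] gker A' c, (∀ u v, B (g u : V) (g v : V) = B (u : V) (v : V)) ∧
      ∀ (u : gker A c) (hu : A u ∈ gker A c), (g ⟨A u, hu⟩ : V) = A' (g u : V) := by
  classical
  let e : (Idx d → F) ≃ₗ[F] gker A c := (LinearEquiv.ofInjective L hL.1).trans (LinearEquiv.ofEq _ _ hL.2.1)
  have he : ∀ x, (e x : V) = L x := fun x => rfl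
  let g : gker A c →ₗ[F] gker A' c :=
    LinearMap.codRestrict _ (L' ∘ₗ Matrix.mulVecLin X ∘ₗ e.symm.toLinearMap) fun u => by
      rw [← hL'.2.1]; exact ⟨_, rfl⟩
  have hg : ∀ x, (g (e x) : V) = L' (X *ᵥ x) := fun x => by simp [g]
  refine ⟨g, fun u v => ?_, fun u hu => ?_⟩
  · obtain ⟨x, rfl⟩ := e.surjective u
    obtain ⟨y, rfl⟩ := e.surjective v
    rw [hg, hg, he, he, ← gram_apply, ← gram_apply (B := B) L, ← hXG, ← Matrix.mulVec_mulVec, ← Matrix.mulVec_mulVec,
      Matrix.dotProduct_mulVec x Xᵀ, Matrix.vecMul_transpose]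
  · obtain ⟨x, rfl⟩ := e.surjective u
    have hAx : (⟨A (e x : V), hu⟩ : gker A c) = e (c • ((1 + shift F d) *ᵥ x)) := Subtype.ext (by
      show A (L x) = L _
      rw [map_smul, ← hL.2.2, smul_smul, hc, one_smul])
    rw [hAx, hg, hg, Matrix.mulVec_smul, map_smul, Matrix.mulVec_mulVec,
      show X * (1 + shift F d) = (1 + shift F d) * X from ((Commute.one_left X).add_left hX).eq.symm,
      ← Matrix.mulVec_mulVec, ← hL'.2.2, smul_smul, hc, one_smul]

end Cfsg.Agent.ClassNum
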