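import Cfsg.Agent.Lib.ClassNum.UTuples
import Cfsg.Agent.Lib.ClassNum.SpGlue
import Cfsg.Agent.S2570

/-!
Conjugacy classes of symplectic groups in odd characteristic are determined by self-dual tuples
together with signs for the roots `±1`.
-/

set_option autoImplicit false
set_option linter.unusedSectionVars false

namespace Cfsg.Agent.ClassNum

open Polynomial S2478 FormsLib FormTorus JordanType
open scoped Matrix

universe u

variable {F : Type u} [Field F]

/-- Admissible polynomial and signs for an exponent. -/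
def Val (i : ℕ) (f : F[X]) (s : Bool × Bool) : Prop :=
  dualPoly (RingHom.id F) f = f ∧
    (Odd i → Even (f.rootMultiplicity 1) ∧ Even (f.rootMultiplicity (-1)) ∧ s = (false, false)) ∧
    (s.1 = true → f.eval 1 = 0) ∧ (s.2 = true → f.eval (-1) = 0)

/-- Admissible tuples with signs. -/
def DS (F : Type u) [Field F] (m k : ℕ) : Type u :=
  {x : S F m k × (Fin m → Bool × Bool) // ∀ j : Fin m, Val ((j : ℕ) + 1) (x.1.1 j).1 (x.2 j)}

variable {n : ℕ}

/-- The symplectic form on `Fin (n + n) → F`. -/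
noncomputable def spN (n : ℕ) (F : Type u) [Field F] : LinearMap.BilinForm F (Fin (n + n) → F) :=
  (spB n F).compl₁₂ (LinearMap.funLeft F F finSumFinEquiv) (LinearMap.funLeft F F finSumFinEquiv)

theorem spN_apply (u v : Fin (n + n) → F) :
    spN n F u v = spB n F (u ∘ finSumFinEquiv) (v ∘ finSumFinEquiv) := rfl

theorem spN_alt : LinearMap.IsAlt (spN n F) := fun v => spB_alt _

theorem spN_trace : IsTraceForm (RingHom.id F) (-1) (spN n F) where
  invol := spB_trace (m := n).invol
  eps := spB_trace (m := n).eps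
  flip u v := spB_trace.flip _ _
  trace u := spB_trace.trace _
  nondeg u hu := by
    have h := spB_trace.nondeg (u ∘ finSumFinEquiv) fun w => by
      have h := hu (w ∘ finSumFinEquiv.symm)
      rw [spN_apply] at h
      rwa [show (w ∘ ⇑finSumFinEquiv.symm) ∘ ⇑finSumFinEquiv = w from funext fun i => by simp] at h
    funext i
    have h' := congrFun h (finSumFinEquiv.symm i)
    simpa using h'

/-- The symplectic group inside the general linear group. -/
noncomputable def glS (n : ℕ) (F : Type u) [Field F] :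
    Matrix.symplecticGroup (Fin n) F →* GL (Fin (n + n)) F :=
  ((Matrix.reindexAlgEquiv F F finSumFinEquiv).toAlgHom.toRingHom.toMonoidHom.comp
    (Matrix.symplecticGroup (Fin n) F).subtype).toHomUnits

theorem glS_mulVec (a : Matrix.symplecticGroup (Fin n) F) (v : Fin (n + n) → F) :
    ((glS n F a).1 *ᵥ v) ∘ finSumFinEquiv = a.1 *ᵥ (v ∘ finSumFinEquiv) := by
  funext i
  show (Matrix.reindex finSumFinEquiv finSumFinEquiv a.1 *ᵥ v) (finSumFinEquiv i) = _
  simp [Matrix.mulVec, dotProduct, ← finSumFinEquiv.sum_comp]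

theorem glS_pres (a : Matrix.symplecticGroup (Fin n) F) (u v : Fin (n + n) → F) :
    spN n F (Matrix.toLin' (glS n F a).1 u) (Matrix.toLin' (glS n F a).1 v) = spN n F u v := by
  rw [spN_apply, Matrix.toLin'_apply, Matrix.toLin'_apply, glS_mulVec, glS_mulVec,
    (mem_symplectic_iff _).1 a.2]
  rfl

theorem isConj_of_isometry (a a' : Matrix.symplecticGroup (Fin n) F)
    (g : (Fin (n + n) → F) ≃ₗ[F] (Fin (n + n) → F)) (hg : ∀ u v, spN n F (g u) (g v) = spN n F u v)
    (hga : ∀ v, g (Matrix.toLin' (glS n F a).1 v) = Matrix.toLin' (glS n F a').1 (g v)) :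
    IsConj a a' := by
  let R : (Fin (n + n) → F) ≃ₗ[F] (Fin n ⊕ Fin n → F) := LinearEquiv.funCongrLeft F F finSumFinEquiv
  have hR : ∀ v, R v = v ∘ finSumFinEquiv := fun v => rfl
  let g' : SpIso n F := ⟨(R.symm.trans g).trans R, fun u v => by
    show spB n F (R (g (R.symm u))) (R (g (R.symm v))) = _
    rw [hR, hR, ← spN_apply, hg, spN_apply, ← hR, ← hR, R.apply_symm_apply, R.apply_symm_apply]⟩
  refine isConj_iff.2 ⟨(spEquiv n F).symm g', mul_inv_eq_iff_eq_mul.2 (Subtype.ext
    (Matrix.ext_of_mulVec_single fun i => ?_))⟩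
  rw [Submonoid.coe_mul, Submonoid.coe_mul, ← Matrix.mulVec_mulVec, ← Matrix.mulVec_mulVec,
    spEquiv_symm_mulVec, spEquiv_symm_mulVec]
  set w : Fin n ⊕ Fin n → F := Pi.single i 1
  show R (g (R.symm (a.1 *ᵥ w))) = a'.1 *ᵥ (R (g (R.symm w)))
  have h1 : R (Matrix.toLin' (glS n F a).1 (R.symm w)) = a.1 *ᵥ w := by
    rw [hR, Matrix.toLin'_apply, glS_mulVec, ← hR, R.apply_symm_apply]
  rw [← h1, R.symm_apply_apply, hga, hR, hR, Matrix.toLin'_apply, glS_mulVec]

variable [Fintype F]

section coord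

variable {V : Type*} [AddCommGroup V] [Module F V] [FiniteDimensional F V]

theorem exists_coord (A : Module.End F V) {c : F} (hc : c * c = 1) :
    ∃ (t : ℕ) (d : Fin t → ℕ) (L : (Idx d → F) →ₗ[F] V),
      (∀ k, 1 ≤ d k ∧ d k ≤ Module.finrank F V) ∧ IsCoord A c L := by
  classical
  set M := Module.finrank F V with hM
  let N : Module.End F (gker A c) :=
    (c • A - 1).restrict fun x hx => Submodule.sub_mem _ (Submodule.smul_mem _ _ (gker_inv A c x hx)) hx
  have hN : N ^ M = 0 := by
    have key : ∀ (k : ℕ) (x : gker A c),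
        (((N ^ k) x : gker A c) : V) = c ^ k • ((A - c • (1 : Module.End F V)) ^ k) (x : V) := by
      intro k
      induction k with
      | zero => intro x; simp
      | succ k ih =>
        intro x
        rw [pow_succ', Module.End.mul_apply, pow_succ' (A - c • (1 : Module.End F V)), Module.End.mul_apply]
        show (c • A - 1) ((N ^ k) x : V) = _
        rw [ih]
        simp only [LinearMap.sub_apply, LinearMap.smul_apply, Module.End.one_apply, map_smul, pow_succ',
          smul_sub, smul_smul]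
        congr 2
        all_goals first
          | linear_combination (-(c ^ k)) * hc
          | ring
    refine LinearMap.ext fun x => Subtype.ext ?_
    rw [key, LinearMap.mem_ker.1 x.2, smul_zero]
    rfl
  obtain ⟨t, d, T, hd, hT⟩ := exists_chains N M hN
  let e := Fintype.equivFin {k : Fin t // d k ≠ 0}
  let d' : Fin (Fintype.card {k : Fin t // d k ≠ 0}) → ℕ := fun k => d (e.symm k).1
  obtain ⟨τ, hτ⟩ := S2570.exists_idx_equiv (F := F) d' d fun i hi => by
    rw [← Finset.card_map (e.symm.toEmbedding.trans (Function.Embedding.subtype _))]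
    congr 1
    ext k
    simp only [Finset.mem_map, Finset.mem_filter, Finset.mem_univ, true_and]
    refine ⟨?_, fun hk => ⟨e ⟨k, by omega⟩, ?_, ?_⟩⟩
    · rintro ⟨a, ha, rfl⟩
      exact ha
    · simpa [d'] using hk
    · simp
  let T' : (Idx d' → F) ≃ₗ[F] gker A c := (LinearEquiv.funCongrLeft F F τ.symm).trans T
  have hT' : ∀ x, N (T' x) = T' (shift F d' *ᵥ x) := fun x => by
    show N (T (x ∘ τ.symm)) = T ((shift F d' *ᵥ x) ∘ τ.symm)
    rw [hT]
    congr 1
    funext a
    simp only [Matrix.mulVec, dotProduct, Function.comp_apply, ← τ.sum_comp, τ.symm_apply_apply]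
    refine Finset.sum_congr rfl fun b _ => ?_
    rw [← hτ (τ.symm a) b, τ.apply_symm_apply]
  refine ⟨_, d', (gker A c).subtype ∘ₗ T'.toLinearMap, fun k => ⟨Nat.pos_of_ne_zero (e.symm k).2, hd _⟩,
    (gker A c).injective_subtype.comp T'.injective, ?_, fun x => ?_⟩
  · rw [LinearMap.range_comp, LinearEquiv.range, Submodule.map_top, Submodule.range_subtype]
  · have h := congrArg Subtype.val (hT' x)
    change c • A (T' x : V) - (T' x : V) = (T' (shift F d' *ᵥ x) : V) at h
    show c • A (T' x : V) = (T' ((1 + shift F d') *ᵥ x) : V)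
    rw [Matrix.add_mulVec, Matrix.one_mulVec, map_add, Submodule.coe_add, ← h, add_sub_cancel]

theorem finrank_ker_coord {A : Module.End F V} {c : F} (hc : c * c = 1) {t : ℕ} {d : Fin t → ℕ}
    {L : (Idx d → F) →ₗ[F] V} (hL : IsCoord A c L) (k : ℕ) :
    Module.finrank F (LinearMap.ker ((A - c • (1 : Module.End F V)) ^ k)) = ∑ i, min k (d i) := by
  classical
  have hc0 : c ≠ 0 := fun h => by simp [h] at hc
  have hk : ∀ (k : ℕ) x, ((A - c • (1 : Module.End F V)) ^ k) (L x) = c ^ k • L (shift F d ^ k *ᵥ x) := by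
    intro k
    induction k with
    | zero => intro x; simp
    | succ k ih =>
      intro x
      have h1 := congrArg (c • ·) (hL.2.2 (shift F d ^ k *ᵥ x))
      simp only [smul_smul, hc, one_smul, Matrix.add_mulVec, Matrix.one_mulVec, map_add, smul_add] at h1
      rw [pow_succ' (A - c • (1 : Module.End F V)), Module.End.mul_apply, ih, map_smul, LinearMap.sub_apply,
        LinearMap.smul_apply, Module.End.one_apply, h1, add_sub_cancel_left, smul_smul, pow_succ',
        Matrix.mulVec_mulVec, pow_succ', mul_comm]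
  have hle : LinearMap.ker ((A - c • (1 : Module.End F V)) ^ k) ≤ gker A c := by
    rcases le_total k (Module.finrank F V) with h | h
    · intro x hx
      show ((A - c • (1 : Module.End F V)) ^ _) x = 0
      rw [← Nat.sub_add_cancel h, pow_add, Module.End.mul_apply, LinearMap.mem_ker.1 hx, map_zero]
    · exact (Module.End.ker_pow_eq_ker_pow_finrank_of_le h).le
  have h1 : LinearMap.ker ((A - c • (1 : Module.End F V)) ^ k) =
      (LinearMap.ker (Matrix.mulVecLin (shift F d ^ k))).map L := by
    ext y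
    constructor
    · intro hy
      obtain ⟨x, rfl⟩ : y ∈ LinearMap.range L := hL.2.1.symm ▸ hle hy
      refine ⟨x, hL.1 ?_, rfl⟩
      rw [LinearMap.mem_ker, hk, smul_eq_zero, or_iff_right (pow_ne_zero _ hc0)] at hy
      rw [Matrix.mulVecLin_apply, map_zero]
      exact hy
    · rintro ⟨x, hx, rfl⟩
      rw [SetLike.mem_coe, LinearMap.mem_ker, Matrix.mulVecLin_apply] at hx
      rw [LinearMap.mem_ker, hk, hx, map_zero, smul_zero]
  rw [h1, ← (Submodule.equivMapOfInjective L hL.1 _).finrank_eq]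
  have h2 := LinearMap.finrank_range_add_finrank_ker (Matrix.mulVecLin (R := F) (shift F d ^ k))
  rw [show Module.finrank F (LinearMap.range (Matrix.mulVecLin (shift F d ^ k))) = _ from rank_shift_pow d k,
    Module.finrank_fintype_fun_eq_card, Fintype.card_sigma] at h2
  simp only [Fintype.card_fin] at h2
  have h3 : ∑ i, (d i - k) + ∑ i, min k (d i) = ∑ i, d i := by
    rw [← Finset.sum_add_distrib]
    exact Finset.sum_congr rfl fun i _ => by omega
  omega

theorem not_isSquare_mul {a b : F} (ha : ¬ IsSquare a) (hb : ¬ IsSquare b) : IsSquare (a * b) := by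
  classical
  have ha0 : a ≠ 0 := fun h => ha (h ▸ IsSquare.zero)
  have hb0 : b ≠ 0 := fun h => hb (h ▸ IsSquare.zero)
  have h1 := quadraticChar_neg_one_iff_not_isSquare.2 ha
  have h2 := quadraticChar_neg_one_iff_not_isSquare.2 hb
  rw [← quadraticChar_one_iff_isSquare (mul_ne_zero ha0 hb0), map_mul, h1, h2]
  rfl

variable {B : LinearMap.BilinForm F V}

theorem exists_isometry_gker (h2 : (2 : F) ≠ 0) (hV : IsTraceForm (RingHom.id F) (-1) B)
    (hB : LinearMap.IsAlt B) {A A' : Module.End F V} (hA : ∀ u v, B (A u) (A v) = B u v)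
    (hA' : ∀ u v, B (A' u) (A' v) = B u v) {c : F} (hc : c * c = 1) {t : ℕ} {d : Fin t → ℕ}
    (hd : ∀ k, 1 ≤ d k) {L L' : (Idx d → F) →ₗ[F] V} (hL : IsCoord A c L) (hL' : IsCoord A' c L')
    (hs : ∀ i : Fin (Finset.univ.sup d + 1), Even (i : ℕ) →
      (IsSquare (UnipotentCentralizer.block hd (gram B L') i).det ↔
        IsSquare (UnipotentCentralizer.block hd (gram B L) i).det)) :
    ∃ g : gker A c →ₗ[F] gker A' c, (∀ u v, B (g u : V) (g v : V) = B (u : V) (v : V)) ∧
      ∀ (u : gker A c) (hu : A u ∈ gker A c), (g ⟨A u, hu⟩ : V) = A' (g u : V) := by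
  classical
  obtain ⟨hJ, hG, hu⟩ := gram_props hV hB hA hc hL
  obtain ⟨hJ', hG', hu'⟩ := gram_props hV hB hA' hc hL'
  have hdet : ∀ {G : Matrix (Idx d) (Idx d) F}, (1 + (shift F d)ᵀ) * G * (1 + shift F d) = G →
      UnipotentForms.Alt G → IsUnit G → ∀ i, (UnipotentCentralizer.block hd G i).det ≠ 0 :=
    fun h1 h2 h3 i => ((Matrix.isUnit_iff_isUnit_det _).1
      (UnipotentForms.block_isUnit hd h1 h2.sym h3 i)).ne_zero
  obtain ⟨X, hX, -, hXG⟩ := UnipotentForms.exists_congr h2 hd hJ' hG' hu' hJ hG hu fun i => by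
    rcases Nat.even_or_odd (i : ℕ) with hi | hi
    · obtain ⟨e, -⟩ := hG.block_transpose hd hJ i
      obtain ⟨e', -⟩ := hG'.block_transpose hd hJ' i
      rw [hi.neg_one_pow, one_smul] at e e'
      refine UnipotentForms.exists_congr_sym h2 _ _ e' e (hdet hJ' hG' hu' i) (hdet hJ hG hu i) ?_
      by_cases h : IsSquare (UnipotentCentralizer.block hd (gram B L) i).det
      · exact ((hs i hi).2 h).mul h
      · exact not_isSquare_mul (fun h' => h ((hs i hi).1 h')) h
    · obtain ⟨e, z⟩ := hG.block_transpose hd hJ i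
      obtain ⟨e', z'⟩ := hG'.block_transpose hd hJ' i
      rw [hi.neg_one_pow, neg_smul, one_smul] at e e'
      exact UnipotentForms.exists_congr_alt _ _ ⟨e', z' hi⟩ ⟨e, z hi⟩ (hdet hJ' hG' hu' i) (hdet hJ hG hu i)
  exact exists_isometry_coord A A' hc hL hL' hX hXG

theorem even_card_parts (hV : IsTraceForm (RingHom.id F) (-1) B) (hB : LinearMap.IsAlt B)
    {A : Module.End F V} (hA : ∀ u v, B (A u) (A v) = B u v) {c : F} (hc : c * c = 1) {t : ℕ}
    {d : Fin t → ℕ} (hd : ∀ k, 1 ≤ d k) {L : (Idx d → F) →ₗ[F] V} (hL : IsCoord A c L) {i : ℕ}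
    (hi : Odd i) : Even (Finset.univ.filter fun k => d k = i).card := by
  classical
  obtain ⟨hJ, hG, hu⟩ := gram_props hV hB hA hc hL
  by_cases h : ∃ k, d k = i
  · obtain ⟨k, hk⟩ := h
    have hle : i ≤ Finset.univ.sup d := hk ▸ Finset.le_sup (Finset.mem_univ k)
    have h2 := UnipotentForms.even_card_of_odd hd hJ hG hu ⟨i, by omega⟩ hi
    rwa [← Fintype.card_subtype]
  · push Not at h
    rw [Finset.filter_false_of_mem fun k _ => h k, Finset.card_empty]
    exact Even.zero

end coord

theorem count_coord {N : ℕ} (g : GL (Fin N) F) {c : F} (hc : c * c = 1) {t : ℕ} {d : Fin t → ℕ}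
    {L : (Idx d → F) →ₗ[F] (Fin N → F)} (hL : IsCoord (Matrix.toLin' g.1) c L) (j : Fin N) :
    ((tupG g).1 j).1.rootMultiplicity c = (Finset.univ.filter fun k => d k = (j : ℕ) + 1).card := by
  classical
  set p : F[X] := X - C c with hp
  have hpi : Irreducible p := irreducible_X_sub_C c
  have hpm : p.Monic := monic_X_sub_C c
  have hdeg : p.natDegree = 1 := natDegree_X_sub_C c
  let s' : Multiset (F[X] × ℕ) := (Finset.univ : Finset (Fin t)).val.map fun k => (p, d k)
  have hker : ∀ k, (((datG g).map fun x => if x.1 = p then p.natDegree * min k x.2 else 0).sum) =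
      (s'.map fun x => if x.1 = p then p.natDegree * min k x.2 else 0).sum := by
    intro k
    rw [← finrank_ker_of_data (datG_spec g) p hpi hpm k, map_pow, hp, map_sub, aeval_X, aeval_C,
      Algebra.algebraMap_eq_smul_one, finrank_ker_coord hc hL]
    simp only [s', Multiset.map_map, Function.comp_def, if_true, ← hp, hdeg, one_mul]
    rfl
  have hl : ∀ k, longCount (datG g) p k = longCount s' p k := by
    intro k
    have h := hker (k + 1)
    rw [sum_min_succ, sum_min_succ, hker k, hdeg, one_mul, one_mul] at h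
    exact Nat.add_left_cancel h
  have hcount : (datG g).count (p, (j : ℕ) + 1) = s'.count (p, (j : ℕ) + 1) := by
    have h1 := longCount_succ (datG g) p j
    have h2 := longCount_succ s' p j
    have h3 := hl j
    have h4 := hl ((j : ℕ) + 1)
    omega
  have hs' : s'.count (p, (j : ℕ) + 1) = (Finset.univ.filter fun k => d k = (j : ℕ) + 1).card := by
    rw [Multiset.count_map, Finset.card_def, Finset.filter_val]
    simp only [Prod.mk.injEq, true_and, eq_comm]
  have hcf : (facs g j).count p = (datG g).count (p, (j : ℕ) + 1) := by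
    rw [← Multiset.count_map_eq_count' (fun p : F[X] => (p, (j : ℕ) + 1)) (facs g j)
      (fun a b h => congrArg Prod.fst h) p, ← filter_eq,
      Multiset.count_filter_of_pos (p := fun y : F[X] × ℕ => y.2 = (j : ℕ) + 1) rfl]
  rw [← hs', ← hcount, ← hcf]
  show (facs g j).prod.rootMultiplicity c = _
  rw [← count_roots, roots_multiset_prod _ fun h => not_irreducible_zero (facs_good g j h).1,
    Multiset.count_bind]
  have e : ∀ q ∈ facs g j, q.roots.count c = if q = p then 1 else 0 := by
    intro q hq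
    split_ifs with h
    · rw [h, hp, roots_X_sub_C, Multiset.count_singleton_self]
    · refine Multiset.count_eq_zero.2 fun hc' => h ?_
      obtain ⟨hqi, hqm, -⟩ := facs_good g j hq
      exact (eq_of_monic_of_associated hpm hqm
        (hpi.associated_of_dvd hqi (dvd_iff_isRoot.2 (mem_roots'.1 hc').2))).symm
  rw [Multiset.map_congr rfl e]
  clear e
  induction facs g j using Multiset.induction with
  | empty => simp
  | cons a s ih =>
    simp only [Multiset.map_cons, Multiset.sum_cons, Multiset.count_cons]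
    rw [ih]
    split_ifs with h h' h' <;> first
      | omega
      | exact absurd h.symm h'
      | exact absurd h'.symm h

/-- The signs of the blocks. -/
noncomputable def sgnB {N t : ℕ} {d : Fin t → ℕ} (hd : ∀ k, 1 ≤ d k) (M : Matrix (Idx d) (Idx d) F)
    (j : Fin N) : Bool :=
  @decide (Even ((j : ℕ) + 1) ∧ ∃ i : Fin (Finset.univ.sup d + 1), (i : ℕ) = (j : ℕ) + 1 ∧
    ¬ IsSquare (UnipotentCentralizer.block hd M i).det) (Classical.propDecidable _)

theorem sgnB_eq {N t : ℕ} {d : Fin t → ℕ} (hd : ∀ k, 1 ≤ d k) (hdN : ∀ k, d k ≤ N)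
    {M M' : Matrix (Idx d) (Idx d) F} (h : ∀ j : Fin N, sgnB hd M j = sgnB hd M' j)
    (i : Fin (Finset.univ.sup d + 1)) (hi : Even (i : ℕ)) :
    IsSquare (UnipotentCentralizer.block hd M i).det ↔ IsSquare (UnipotentCentralizer.block hd M' i).det := by
  classical
  rcases Nat.eq_zero_or_pos (i : ℕ) with h0 | h0
  · haveI : IsEmpty (S2581.KB d i) := ⟨fun k => by have := hd k.1; have := k.2; omega⟩
    rw [Matrix.det_isEmpty, Matrix.det_isEmpty]
  have hle : (i : ℕ) ≤ N := by
    have h1 : Finset.univ.sup d ≤ N := Finset.sup_le fun k _ => hdN k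
    have := i.2
    omega
  have h' := h ⟨(i : ℕ) - 1, by omega⟩
  simp only [sgnB, decide_eq_decide, show (i : ℕ) - 1 + 1 = i by omega, hi, true_and] at h'
  have key : ∀ M : Matrix (Idx d) (Idx d) F, (∃ l : Fin (Finset.univ.sup d + 1), (l : ℕ) = i ∧
      ¬ IsSquare (UnipotentCentralizer.block hd M l).det) ↔
      ¬ IsSquare (UnipotentCentralizer.block hd M i).det := fun M =>
    ⟨fun ⟨l, e, hl⟩ => by obtain rfl : l = i := Fin.ext e; exact hl, fun hl => ⟨i, rfl, hl⟩⟩
  rw [key, key, not_iff_not] at h'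
  exact h'

theorem sgnB_true {N t : ℕ} {d : Fin t → ℕ} (hd : ∀ k, 1 ≤ d k) (M : Matrix (Idx d) (Idx d) F)
    (j : Fin N) (h : sgnB hd M j = true) :
    Even ((j : ℕ) + 1) ∧ 0 < (Finset.univ.filter fun k => d k = (j : ℕ) + 1).card := by
  classical
  rw [sgnB, @decide_eq_true_iff] at h
  obtain ⟨he, i, hi, hns⟩ := h
  refine ⟨he, Finset.card_pos.2 ?_⟩
  by_contra hc
  haveI : IsEmpty (S2581.KB d i) :=
    ⟨fun k => hc ⟨k.1, Finset.mem_filter.2 ⟨Finset.mem_univ _, k.2.trans hi⟩⟩⟩
  rw [Matrix.det_isEmpty] at hns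
  exact hns IsSquare.one

/-- The classes of the symplectic group inject into admissible tuples with signs. -/
theorem classes_le_sp (h2 : (2 : F) ≠ 0) (n : ℕ) :
    Nat.card (ConjClasses (Matrix.symplecticGroup (Fin n) F)) ≤ Nat.card (DS F (n + n) (n + n)) := by
  classical
  let G := Matrix.symplecticGroup (Fin n) F
  haveI : Finite (DS F (n + n) (n + n)) := by
    haveI := (card_S (F := F) (n + n) (n + n)).2
    exact Subtype.finite
  haveI : Nonempty G := ⟨1⟩
  let T : G → S F (n + n) (n + n) := fun a => tupG (glS n F a)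
  let R : S F (n + n) (n + n) → G := fun t => Function.invFun T t
  have hR : ∀ a, T (R (T a)) = T a := fun a => Function.invFun_eq (f := T) ⟨a, rfl⟩
  have hP : ∀ a : G, ∃ P : (Fin (n + n) → F) ≃ₗ[F] (Fin (n + n) → F),
      ∀ v, P (Matrix.toLin' (glS n F (R (T a))).1 v) = Matrix.toLin' (glS n F a).1 (P v) := by
    intro a
    obtain ⟨c, hc⟩ := isConj_iff.1 (isConj_of_tupG _ _ (hR a))
    refine ⟨(Matrix.GeneralLinearGroup.toLin c).toLinearEquiv, fun v => ?_⟩
    show c.1 *ᵥ ((glS n F (R (T a))).1 *ᵥ v) = (glS n F a).1 *ᵥ (c.1 *ᵥ v)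
    rw [Matrix.mulVec_mulVec, Matrix.mulVec_mulVec, ← Units.val_mul, ← Units.val_mul,
      mul_inv_eq_iff_eq_mul.1 hc]
  choose P hP using hP
  have sq : ∀ b : Bool, (bif b then (-1 : F) else 1) * (bif b then -1 else 1) = 1 := fun b => by
    cases b <;> simp
  choose t d L hd hL using fun (x : S F (n + n) (n + n)) (b : Bool) =>
    exists_coord (Matrix.toLin' (glS n F (R x)).1) (sq b)
  have hd1 : ∀ x b k, 1 ≤ d x b k := fun x b k => (hd x b k).1
  have hdN : ∀ x b k, d x b k ≤ n + n := fun x b k => by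
    have := (hd x b k).2; rwa [Module.finrank_fin_fun] at this
  let LA : ∀ (a : G) (b : Bool), (Idx (d (T a) b) → F) →ₗ[F] (Fin (n + n) → F) :=
    fun a b => (P a).toLinearMap ∘ₗ L (T a) b
  have hLA : ∀ a b, IsCoord (Matrix.toLin' (glS n F a).1) (bif b then -1 else 1) (LA a b) := by
    intro a b
    obtain ⟨h1, h2, h3⟩ := hL (T a) b
    refine ⟨(P a).injective.comp h1, ?_, fun x => ?_⟩
    · rw [LinearMap.range_comp, h2]
      exact gker_map (P a) (hP a) _
    · show (_ : F) • Matrix.toLin' (glS n F a).1 (P a (L (T a) b x)) = P a (L (T a) b _)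
      rw [← h3 x, map_smul, hP a]
  let sg : G → Fin (n + n) → Bool × Bool := fun a j =>
    (sgnB (hd1 (T a) false) (gram (spN n F) (LA a false)) j,
      sgnB (hd1 (T a) true) (gram (spN n F) (LA a true)) j)
  have hroot : ∀ a (b : Bool) (j : Fin (n + n)), ((T a).1 j).1.rootMultiplicity (bif b then -1 else 1) =
      (Finset.univ.filter fun k => d (T a) b k = (j : ℕ) + 1).card :=
    fun a b j => count_coord (glS n F a) (sq b) (hLA a b) j
  have hval : ∀ a (j : Fin (n + n)), Val ((j : ℕ) + 1) ((T a).1 j).1 (sg a j) := by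
    intro a j
    have hne : ((T a).1 j).1 ≠ 0 := ((T a).1 j).2.1.ne_zero
    refine ⟨sdual_tupG (ε := -1) (spN_trace (n := n)) (fun u v => glS_pres a u v) j, fun hodd => ?_, fun h => ?_,
      fun h => ?_⟩
    · have h1 := even_card_parts spN_trace spN_alt (glS_pres a) (sq false) (hd1 (T a) false) (hLA a false) hodd
      have h2 := even_card_parts spN_trace spN_alt (glS_pres a) (sq true) (hd1 (T a) true) (hLA a true) hodd
      rw [← hroot a false j] at h1
      rw [← hroot a true j] at h2
      refine ⟨h1, h2, Prod.ext ?_ ?_⟩ <;>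
      · refine Bool.eq_false_iff.2 fun h => ?_
        exact Nat.not_even_iff_odd.2 hodd (sgnB_true _ _ _ h).1
    · have h' := (sgnB_true _ _ _ h).2
      rw [← hroot a false j] at h'
      exact (rootMultiplicity_pos hne).1 h'
    · have h' := (sgnB_true _ _ _ h).2
      rw [← hroot a true j] at h'
      exact (rootMultiplicity_pos hne).1 h'
  choose rep hrep using fun C : ConjClasses G => ConjClasses.exists_rep C
  refine Nat.card_le_card_of_injective
    (fun x => (⟨(T (rep x), sg (rep x)), hval (rep x)⟩ : DS F (n + n) (n + n))) fun x y hxy => ?_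
  have hT : T (rep x) = T (rep y) := congrArg (fun z : DS F (n + n) (n + n) => z.1.1) hxy
  have hsg : sg (rep x) = sg (rep y) := congrArg (fun z : DS F (n + n) (n + n) => z.1.2) hxy
  rw [← hrep x, ← hrep y, ConjClasses.mk_eq_mk_iff_isConj]
  revert hT hsg
  generalize rep x = a
  generalize rep y = a'
  intro hT hsg
  -- transport the coordinates of the second element to the type of the first
  have hcoord : ∀ b, ∃ L' : (Idx (d (T a) b) → F) →ₗ[F] (Fin (n + n) → F),
      IsCoord (Matrix.toLin' (glS n F a').1) (bif b then -1 else 1) L' ∧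
      ∀ j : Fin (n + n), sgnB (hd1 (T a') b) (gram (spN n F) (LA a' b)) j =
        sgnB (hd1 (T a) b) (gram (spN n F) L') j := by
    intro b
    have aux : ∀ (x : S F (n + n) (n + n)), x = T a → ∀ L'' : (Idx (d x b) → F) →ₗ[F] (Fin (n + n) → F),
        IsCoord (Matrix.toLin' (glS n F a').1) (bif b then -1 else 1) L'' →
        ∃ L' : (Idx (d (T a) b) → F) →ₗ[F] (Fin (n + n) → F),
          IsCoord (Matrix.toLin' (glS n F a').1) (bif b then -1 else 1) L' ∧
          ∀ j : Fin (n + n), sgnB (hd1 x b) (gram (spN n F) L'') j =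
            sgnB (hd1 (T a) b) (gram (spN n F) L') j := by
      rintro _ rfl L'' h
      exact ⟨L'', h, fun j => rfl⟩
    exact aux (T a') hT.symm (LA a' b) (hLA a' b)
  have h21 : (1 : F) ≠ -1 := fun h => h2 (by linear_combination h)
  have hiso : ∀ b : Bool, ∃ g : gker (Matrix.toLin' (glS n F a).1) (bif b then -1 else 1) →ₗ[F]
      gker (Matrix.toLin' (glS n F a').1) (bif b then -1 else 1),
      (∀ u v, spN n F (g u : Fin (n + n) → F) (g v : Fin (n + n) → F) = spN n F (u : Fin (n + n) → F) (v : Fin (n + n) → F)) ∧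
      ∀ (u : gker (Matrix.toLin' (glS n F a).1) (bif b then -1 else 1))
        (hu : Matrix.toLin' (glS n F a).1 (u : Fin (n + n) → F) ∈ gker (Matrix.toLin' (glS n F a).1) (bif b then -1 else 1)),
        (g ⟨_, hu⟩ : Fin (n + n) → F) = Matrix.toLin' (glS n F a').1 (g u : Fin (n + n) → F) := by
    intro b
    obtain ⟨L', hL', hs'⟩ := hcoord b
    refine exists_isometry_gker h2 spN_trace spN_alt (glS_pres a) (glS_pres a') (sq b) (hd1 (T a) b)
      (hLA a b) hL' fun i hi => (sgnB_eq (hd1 (T a) b) (hdN (T a) b) (fun j => ?_) i hi)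
    rw [← hs']
    cases b
    · exact (congrArg Prod.fst (congrFun hsg j)).symm
    · exact (congrArg Prod.snd (congrFun hsg j)).symm
  obtain ⟨g₁, hg₁, hg₁A⟩ := hiso false
  obtain ⟨g₂, hg₂, hg₂A⟩ := hiso true
  obtain ⟨c, hc⟩ := isConj_iff.1 (isConj_of_tupG (glS n F a) (glS n F a') hT)
  obtain ⟨g, hg, hgA⟩ := exists_glue_three spN_trace h21 (glS_pres a) (glS_pres a')
    (Matrix.GeneralLinearGroup.toLin c).toLinearEquiv (fun v => by
      show c.1 *ᵥ ((glS n F a).1 *ᵥ v) = (glS n F a').1 *ᵥ (c.1 *ᵥ v)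
      rw [Matrix.mulVec_mulVec, Matrix.mulVec_mulVec, ← Units.val_mul, ← Units.val_mul,
        mul_inv_eq_iff_eq_mul.1 hc])
    g₁ hg₁ hg₁A g₂ hg₂ hg₂A
  exact isConj_of_isometry a a' g hg hgA

end Cfsg.Agent.ClassNum
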