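import Cfsg.Agent.Lib.ClassNum.UTuples

/-!
Scaling self-dual tuples and counting them.
-/

set_option autoImplicit false
set_option linter.unusedSectionVars false

namespace Cfsg.Agent.ClassNum

open Polynomial S2478 FormsLib FormTorus

universe u

variable {F : Type u} [Field F] {σ : F →+* F}

/-- The factors used to scale the coefficients of a self-dual polynomial of degree `a`. -/
def tw (u t : Fˣ) (a i : ℕ) : Fˣ :=
  if i = a then 1 else if i = 0 then u else if 2 * i < a then 1 else if 2 * i = a then t else u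

/-- Scale the coefficients keeping self-duality. -/
noncomputable def dscale (u t : Fˣ) (f : Good F) : Good F :=
  ⟨∑ i ∈ Finset.range (f.1.natDegree + 1), monomial i ((tw u t f.1.natDegree i : F) * f.1.coeff i), by
    refine monic_of_natDegree_le_of_coeff_eq_one f.1.natDegree ?_ ?_
    · exact natDegree_sum_le_of_forall_le _ _ fun i hi =>
        (natDegree_monomial_le _).trans (Nat.lt_succ_iff.1 (Finset.mem_range.1 hi))
    · simp [coeff_monomial, tw, f.2.1.coeff_natDegree], by
    simp only [finset_sum_coeff, coeff_monomial, Finset.sum_ite_eq', Finset.mem_range]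
    simpa using f.2.2⟩

theorem coeff_dscale (u t : Fˣ) (f : Good F) (i : ℕ) :
    (dscale u t f).1.coeff i = (tw u t f.1.natDegree i : F) * f.1.coeff i := by
  show (∑ i ∈ Finset.range (f.1.natDegree + 1), monomial i ((tw u t f.1.natDegree i : F) * f.1.coeff i)).coeff i = _
  simp only [finset_sum_coeff, coeff_monomial, Finset.sum_ite_eq', Finset.mem_range]
  split_ifs with h
  · rfl
  · rw [coeff_eq_zero_of_natDegree_lt (by omega), mul_zero]

theorem natDegree_dscale (u t : Fˣ) (f : Good F) : (dscale u t f).1.natDegree = f.1.natDegree := by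
  refine le_antisymm ((natDegree_le_iff_coeff_eq_zero).2 fun N hN => ?_) (le_natDegree_of_ne_zero ?_)
  · rw [coeff_dscale, coeff_eq_zero_of_natDegree_lt hN, mul_zero]
  · rw [coeff_dscale, f.2.1.coeff_natDegree, mul_one]
    exact (tw u t _ _).ne_zero

theorem WU_dscale (u t : Fˣ) (f : Good F) :
    WU (dscale u t f) = if f.1.natDegree = 0 then WU f else u * WU f := by
  refine Units.ext ?_
  show W (dscale u t f).1 = _
  rw [W, natDegree_dscale, coeff_dscale]
  split_ifs with h
  · simp [tw, h, WU, W]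
  · rw [tw, if_neg (Ne.symm h), if_pos rfl, Units.val_mul]
    simp only [WU, W, Units.val_mk0]
    ring

theorem dscale_injective (u t : Fˣ) : Function.Injective (dscale (F := F) u t) := by
  intro f f' h
  have hd : f.1.natDegree = f'.1.natDegree := by rw [← natDegree_dscale u t f, h, natDegree_dscale]
  refine Subtype.ext (Polynomial.ext fun i => ?_)
  have h' := congrArg (fun g : Good F => g.1.coeff i) h
  simp only [coeff_dscale, hd] at h'
  exact mul_left_cancel₀ (tw u t _ i).ne_zero h'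

theorem dual_iff (f : Good F) :
    dualPoly σ f.1 = f.1 ↔ ∀ i ≤ f.1.natDegree, σ (f.1.coeff (f.1.natDegree - i)) = f.1.coeff i * σ (f.1.coeff 0) := by
  have h0 := (map_ne_zero σ).2 f.2.2
  refine ⟨fun h i hi => ?_, fun h => Polynomial.ext fun i => ?_⟩
  · have h' := coeff_dualPoly (σ := σ) f.1 f.2.2 i
    rw [h, revAt_le hi] at h'
    rw [h', div_mul_cancel₀ _ h0]
  · rw [coeff_dualPoly f.1 f.2.2]
    rcases le_or_gt i f.1.natDegree with hi | hi
    · rw [revAt_le hi, h i hi, mul_div_cancel_right₀ _ h0]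
    · rw [revAt_eq_self_of_lt hi, coeff_eq_zero_of_natDegree_lt hi, map_zero, zero_div]

theorem dual_dscale {u t : Fˣ} (hu : (u : F) * σ u = 1) (ht : (t : F) = σ t * u) {f : Good F}
    (hf : dualPoly σ f.1 = f.1) : dualPoly σ (dscale u t f).1 = (dscale u t f).1 := by
  rw [dual_iff] at hf ⊢
  rw [natDegree_dscale]
  intro i hi
  simp only [coeff_dscale, map_mul, hf i hi]
  set a := f.1.natDegree
  rcases Nat.eq_zero_or_pos a with ha | ha
  · obtain rfl : i = 0 := by omega
    simp [tw, ha]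
  have key : σ (tw u t a (a - i) : F) = (tw u t a i : F) * σ (tw u t a 0 : F) := by
    have h0 : tw u t a 0 = u := by rw [tw, if_neg (by omega), if_pos rfl]
    rw [h0]
    rcases Nat.eq_zero_or_pos i with rfl | hi0
    · rw [Nat.sub_zero, h0, show tw u t a a = 1 from if_pos rfl, Units.val_one, map_one, hu]
    rcases eq_or_lt_of_le hi with rfl | hlt
    · rw [Nat.sub_self, h0, show tw u t a a = 1 from if_pos rfl, Units.val_one, one_mul]
    unfold tw
    rw [if_neg (show a - i ≠ a by omega), if_neg (show a - i ≠ 0 by omega), if_neg hlt.ne,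
      if_neg (show i ≠ 0 by omega)]
    split_ifs <;> try omega
    · simp [hu]
    · conv_rhs => rw [ht, mul_assoc, hu, mul_one]
    · simp
    -- remaining impossible orderings are closed by `omega`
  rw [key]
  ring

variable [Fintype F] {q : ℕ}

theorem exists_ratio_fun (hU : IsUnitaryForm σ (hermB 1 σ)) (hσ : ∀ x, σ x = x ^ q) :
    ∃ r : nOne F q → Fˣ, ∀ u : nOne F q, (r u : F) = σ (r u) * (u : Fˣ) := by
  have h : ∀ u : nOne F q, ∃ t : Fˣ, (t : F) = σ t * (u : Fˣ) := fun u => by
    obtain ⟨d, hd, hdu⟩ := FormCentral.exists_ratio hU.tf hU.sigma_ne (nOne_norm hσ u.2)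
    exact ⟨Units.mk0 d hd, hdu⟩
  exact ⟨fun u => (h u).choose, fun u => (h u).choose_spec⟩

/-- Act on a tuple. -/
noncomputable def dsmulT (r : nOne F q → Fˣ) {m k : ℕ} (u : Fin m → nOne F q) (T : S F m k) : S F m k :=
  ⟨fun j => dscale (u j) (r (u j)) (T.1 j), by simp only [natDegree_dscale]; exact T.2⟩

theorem dg_dsmulT (r : nOne F q → Fˣ) {m k : ℕ} (u : Fin m → nOne F q) (T : S F m k) :
    dg (dsmulT r u T) = dg T := funext fun _ => natDegree_dscale _ _ _

theorem dsmulT_injective (r : nOne F q → Fˣ) {m k : ℕ} (u : Fin m → nOne F q) :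
    Function.Injective (dsmulT (k := k) r u) := fun T T' h =>
  Subtype.ext (funext fun j => dscale_injective (u j : Fˣ) (r (u j))
    (show dscale (u j : Fˣ) (r (u j)) (T.1 j) = dscale (u j : Fˣ) (r (u j)) (T'.1 j) from
      congrFun (congrArg Subtype.val h) j))

theorem DT_dsmulT (r : nOne F q → Fˣ) {m k : ℕ} (u : Fin m → nOne F q) (T : S F m k) :
    DT (dsmulT r u T) = chi (dg T) (fun j => (u j : Fˣ)) * DT T := by
  show (∏ j, WU (dscale _ _ (T.1 j)) ^ ((j : ℕ) + 1)) =
    (∏ j, if dg T j = 0 then 1 else (u j : Fˣ) ^ ((j : ℕ) + 1)) * ∏ j, WU (T.1 j) ^ ((j : ℕ) + 1)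
  rw [← Finset.prod_mul_distrib]
  refine Finset.prod_congr rfl fun j _ => ?_
  rw [WU_dscale]
  simp only [dg]
  by_cases h : (T.1 j).1.natDegree = 0
  · simp [h]
  · simp [h, mul_pow]

theorem two_scale_dual (hK : Fintype.card F = q ^ 2) (hσ : ∀ x, σ x = x ^ q)
    (hU : IsUnitaryForm σ (hermB 1 σ)) (m k : ℕ) [DecidablePred fun T : S F m k => DT T = 1 ∧ SDual σ T]
    [DecidablePred fun T : S F m k => SDual σ T] :
    (q + 1) * ∑ T ∈ (Finset.univ : Finset (S F m k)).filter (fun T => DT T = 1 ∧ SDual σ T), eU q T ≤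
      ∑ T ∈ (Finset.univ : Finset (S F m k)).filter (fun T => SDual σ T), eU q T ^ 2 := by
  classical
  obtain ⟨r, hr⟩ := exists_ratio_fun hU hσ
  let L := Σ T : {T : S F m k // DT T = 1 ∧ SDual σ T},
    (Fin (eU q T.1) × Fin (eU q T.1)) × (powMonoidHom (eU q T.1) : nOne F q →* nOne F q).range
  let R := Σ T : {T : S F m k // SDual σ T}, Fin (eU q T.1) × Fin (eU q T.1)
  let χ : (Fin m → ℕ) → (Fin m → nOne F q) →* Fˣ := fun d =>
    (chi d).comp (MonoidHom.compLeft (nOne F q).subtype (Fin m))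
  let u : L → (Fin m → nOne F q) := fun x => Function.invFun (χ (dg x.1.1)) ((x.2.2 : nOne F q) : Fˣ)
  have hu : ∀ x : L, χ (dg x.1.1) (u x) = ((x.2.2 : nOne F q) : Fˣ) := fun x => by
    obtain ⟨z, hz⟩ := x.2.2.2
    obtain ⟨v, hv⟩ : (z : Fˣ) ^ eU q x.1.1 ∈ (χ (dg x.1.1)).range := by
      refine pow_eU_mem _ (fun j hj y hy => MonoidHom.mem_range.2
        ⟨Pi.mulSingle (M := fun _ => nOne F q) j ⟨y, hy⟩, ?_⟩) z.2
      show (∏ i, if dg x.1.1 i = 0 then 1 else
        ((Pi.mulSingle (M := fun _ => nOne F q) j ⟨y, hy⟩ i : nOne F q) : Fˣ) ^ ((i : ℕ) + 1)) = _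
      rw [Finset.prod_eq_single j]
      · rw [if_neg hj, Pi.mulSingle_eq_same (M := fun _ => nOne F q)]
      · intro i _ hi
        rw [Pi.mulSingle_eq_of_ne (M := fun _ => nOne F q) hi, OneMemClass.coe_one, one_pow, ite_self]
      · simp
    exact Function.invFun_eq ⟨v, hv.trans (congrArg Subtype.val hz)⟩
  have he : ∀ x : L, eU q x.1.1 = eU q (dsmulT r (u x) x.1.1) := fun x => by rw [eU, eU, dg_dsmulT]
  let f : L → R := fun x =>
    ⟨⟨dsmulT r (u x) x.1.1, fun j => dual_dscale (nOne_norm hσ (u x j).2) (hr _) (x.1.2.2 j)⟩,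
      (Fin.cast (he x) x.2.1.1, Fin.cast (he x) x.2.1.2)⟩
  have hf : Function.Injective f := by
    intro x y h
    obtain ⟨⟨T, hT⟩, ⟨a, b⟩, z⟩ := x
    obtain ⟨⟨T', hT'⟩, ⟨a', b'⟩, z'⟩ := y
    have h3 := congrArg (fun r : R => (r.1.1, (r.2.1 : ℕ), (r.2.2 : ℕ))) h
    simp only [f, Fin.val_cast, Prod.mk.injEq] at h3
    obtain ⟨h1, h2, h4⟩ := h3
    have hzz : ((z : nOne F q) : Fˣ) = (z' : nOne F q) := by
      have := congrArg DT h1
      rw [DT_dsmulT, DT_dsmulT, hT.1, hT'.1, mul_one, mul_one] at this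
      exact (hu ⟨⟨T, hT⟩, (a, b), z⟩).symm.trans (this.trans (hu ⟨⟨T', hT'⟩, (a', b'), z'⟩))
    have hdd : dg T = dg T' := by
      have := congrArg dg h1
      rwa [dg_dsmulT, dg_dsmulT] at this
    have huu : T = T' := by
      have huxy : u ⟨⟨T, hT⟩, (a, b), z⟩ = u ⟨⟨T', hT'⟩, (a', b'), z'⟩ := by
        show Function.invFun (χ (dg T)) ((z : nOne F q) : Fˣ) = Function.invFun (χ (dg T')) ((z' : nOne F q) : Fˣ)
        rw [hdd, hzz]
      clear_value u
      rw [huxy] at h1
      exact dsmulT_injective r _ h1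
    subst huu
    rw [Fin.ext h2, Fin.ext h4, Subtype.ext (Subtype.ext hzz)]
  have hcard := Nat.card_le_card_of_injective f hf
  have hL : Nat.card L = (q + 1) * ∑ T : {T : S F m k // DT T = 1 ∧ SDual σ T}, eU q T.1 := by
    rw [Nat.card_sigma, Finset.mul_sum]
    refine Finset.sum_congr rfl fun T _ => ?_
    rw [Nat.card_prod, Nat.card_prod, Nat.card_fin, IsCyclic.card_powMonoidHom_range, card_nOne hK]
    have hd := eU_dvd_left q T.1
    rw [Nat.gcd_eq_right hd, mul_assoc, Nat.mul_div_cancel' hd]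
    ring
  have hR : Nat.card R = ∑ T : {T : S F m k // SDual σ T}, eU q T.1 ^ 2 := by
    rw [Nat.card_sigma]
    exact Finset.sum_congr rfl fun T _ => by rw [Nat.card_prod, Nat.card_fin, pow_two]
  rw [hL, hR] at hcard
  rw [Finset.sum_subtype _ (p := fun T => DT T = 1 ∧ SDual σ T) (fun T => by simp) (fun T => eU q T),
    Finset.sum_subtype _ (p := fun T => SDual σ T) (fun T => by simp) (fun T => eU q T ^ 2)]
  exact hcard

/-- Weights in the self-dual case. -/
def cwU (q : ℕ) : ℕ → ℕ
  | 0 => 1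
  | a + 1 => (q + 1) * q ^ a

/-- The count in the self-dual case. -/
def cntU (q : ℕ) : ℕ → ℕ → ℕ
  | 0, k => if k = 0 then 1 else 0
  | m + 1, k => ∑ a ∈ Finset.range (k / (m + 1) + 1), cwU q a * cntU q m (k - (m + 1) * a)

theorem card_dual_pd_le (hK : Fintype.card F = q ^ 2) (hσ : ∀ x, σ x = x ^ q) (a : ℕ) :
    Nat.card {f : Pd F a // dualPoly σ f.1.1 = f.1.1} ≤ cwU q a := by
  classical
  haveI : ∀ a, Finite (Pd F a) := fun a => (card_Pd a).2
  have hq2 : 2 ≤ q := by
    have h := Fintype.one_lt_card (α := F)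
    rw [hK] at h
    by_contra hq
    interval_cases q <;> simp at h
  rcases Nat.eq_zero_or_pos a with rfl | ha
  · refine Finite.card_le_one_iff_subsingleton.2 ⟨fun f g => Subtype.ext (Subtype.ext (Subtype.ext ?_))⟩
    rw [eq_one_of_monic_natDegree_zero f.1.1.2.1 f.1.2, eq_one_of_monic_natDegree_zero g.1.1.2.1 g.1.2]
  have hdual : ∀ f : {f : Pd F a // dualPoly σ f.1.1 = f.1.1}, ∀ i ≤ a,
      σ (f.1.1.1.coeff (a - i)) = f.1.1.1.coeff i * σ (f.1.1.1.coeff 0) := by
    intro f i hi
    have h := (dual_iff f.1.1).1 f.2 i (by rw [f.1.2]; exact hi)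
    rwa [f.1.2] at h
  let c0 : {f : Pd F a // dualPoly σ f.1.1 = f.1.1} → nOne F q := fun f =>
    ⟨Units.mk0 _ f.1.1.2.2, mem_nOne.2 (Units.ext (by
      have h := hdual f 0 (Nat.zero_le _)
      have h1 : f.1.1.1.coeff a = 1 := by
        have := f.1.1.2.1.coeff_natDegree
        rwa [f.1.2] at this
      rw [Nat.sub_zero, h1, map_one, hσ] at h
      rw [Units.val_pow_eq_pow_val, Units.val_mk0, pow_succ', ← h, Units.val_one]))⟩
  -- the coefficients below the middle determine the polynomial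
  have hext : ∀ f g : {f : Pd F a // dualPoly σ f.1.1 = f.1.1},
      (∀ i, 2 * i ≤ a → f.1.1.1.coeff i = g.1.1.1.coeff i) → f = g := by
    intro f g h
    refine Subtype.ext (Subtype.ext (Subtype.ext (Polynomial.ext fun i => ?_)))
    rcases le_or_gt (2 * i) a with hi | hi
    · exact h i hi
    rcases le_or_gt i a with hia | hia
    · have h1 := hdual f i hia
      have h2 := hdual g i hia
      rw [h (a - i) (by omega), h2, h 0 (by omega)] at h1
      exact (mul_right_cancel₀ ((map_ne_zero σ).2 g.1.1.2.2) h1).symm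
    · rw [coeff_eq_zero_of_natDegree_lt (by rw [f.1.2]; exact hia),
        coeff_eq_zero_of_natDegree_lt (by rw [g.1.2]; exact hia)]
  obtain ⟨h, hh | hh⟩ := Nat.even_or_odd' a
  · -- even degree
    obtain ⟨h', rfl⟩ : ∃ h', h = h' + 1 := ⟨h - 1, by omega⟩
    let M : nOne F q → Finset F := fun c => (C ((c : Fˣ) : F) * X ^ q - X).roots.toFinset
    have hM : ∀ c, (M c).card ≤ q := fun c => by
      refine (Multiset.toFinset_card_le _).trans ((card_roots' _).trans ?_)
      refine (natDegree_sub_le _ _).trans (max_le (natDegree_C_mul_X_pow_le _ _) ?_)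
      rw [natDegree_X]; omega
    have hmid : ∀ f, f.1.1.1.coeff (h' + 1) ∈ M (c0 f) := fun f => by
      have hne : C (((c0 f : nOne F q) : Fˣ) : F) * X ^ q - X ≠ 0 := fun e => by
        have := congrArg (fun p : F[X] => p.coeff 1) e
        simp [coeff_X_pow, show 1 ≠ q by omega] at this
      rw [Multiset.mem_toFinset, mem_roots hne, IsRoot, eval_sub, eval_mul, eval_C, eval_pow, eval_X, sub_eq_zero]
      have e := hdual f (h' + 1) (by omega)
      rw [show a - (h' + 1) = h' + 1 by omega, hσ, hσ] at e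
      have hn : (f.1.1.1.coeff 0) * (f.1.1.1.coeff 0) ^ q = 1 := by
        have := nOne_norm hσ (c0 f).2
        rwa [hσ] at this
      show f.1.1.1.coeff 0 * _ = _
      rw [e, mul_left_comm, hn, mul_one]
    have hi : Function.Injective fun f : {f : Pd F a // dualPoly σ f.1.1 = f.1.1} =>
        (⟨c0 f, (fun i : Fin h' => f.1.1.1.coeff ((i : ℕ) + 1)), ⟨_, hmid f⟩⟩ :
          Σ c : nOne F q, (Fin h' → F) × M c) := by
      intro f g hfg
      have h1 := congrArg (fun x : Σ c : nOne F q, (Fin h' → F) × M c => (x.1, x.2.1, (x.2.2 : F))) hfg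
      simp only [Prod.mk.injEq] at h1
      refine hext f g fun i hi => ?_
      rcases Nat.eq_zero_or_pos i with rfl | hi0
      · exact congrArg (fun c : nOne F q => ((c : Fˣ) : F)) h1.1
      rcases eq_or_lt_of_le (show i ≤ h' + 1 by omega) with rfl | hlt
      · exact h1.2.2
      · have := congrFun h1.2.1 ⟨i - 1, by omega⟩
        simp only at this
        rwa [show i - 1 + 1 = i by omega] at this
    refine (Nat.card_le_card_of_injective _ hi).trans ?_
    rw [Nat.card_sigma]
    refine (Finset.sum_le_card_nsmul _ _ ((q ^ 2) ^ h' * q) fun c _ => ?_).trans ?_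
    · rw [Nat.card_prod, Nat.card_fun, Nat.card_fin, Nat.card_eq_fintype_card, hK, Nat.card_eq_fintype_card,
        Fintype.card_coe]
      exact Nat.mul_le_mul_left _ (hM c)
    · rw [smul_eq_mul, Finset.card_univ, ← Nat.card_eq_fintype_card, card_nOne hK,
        show a = 2 * h' + 1 + 1 by omega]
      show _ ≤ (q + 1) * q ^ (2 * h' + 1)
      rw [pow_succ q (2 * h'), pow_mul]
  · -- odd degree
    have hi : Function.Injective fun f : {f : Pd F a // dualPoly σ f.1.1 = f.1.1} =>
        ((c0 f, fun i : Fin h => f.1.1.1.coeff ((i : ℕ) + 1)) : nOne F q × (Fin h → F)) := by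
      intro f g hfg
      simp only [Prod.mk.injEq] at hfg
      refine hext f g fun i hi => ?_
      rcases Nat.eq_zero_or_pos i with rfl | hi0
      · exact congrArg (fun c : nOne F q => ((c : Fˣ) : F)) hfg.1
      · have := congrFun hfg.2 ⟨i - 1, by omega⟩
        simp only at this
        rwa [show i - 1 + 1 = i by omega] at this
    refine (Nat.card_le_card_of_injective _ hi).trans ?_
    rw [Nat.card_prod, card_nOne hK, Nat.card_fun, Nat.card_fin, Nat.card_eq_fintype_card, hK,
      show a = 2 * h + 1 by omega]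
    show _ ≤ (q + 1) * q ^ (2 * h)
    rw [← pow_mul]

theorem card_sdual_le (hK : Fintype.card F = q ^ 2) (hσ : ∀ x, σ x = x ^ q) :
    ∀ m k, Nat.card {T : S F m k // SDual σ T} ≤ cntU q m k
  | 0, k => by
    haveI : Subsingleton (S F 0 k) := ⟨fun a b => Subtype.ext (funext fun j => j.elim0)⟩
    by_cases hk : k = 0
    · rw [cntU, if_pos hk]
      exact Finite.card_le_one_iff_subsingleton.2 inferInstance
    · haveI : IsEmpty (S F 0 k) := ⟨fun f => hk (by simpa using f.2.symm)⟩
      simp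
  | m + 1, k => by
    classical
    haveI : ∀ a, Finite (Pd F a) := fun a => (card_Pd a).2
    haveI : ∀ j, Finite (S F m j) := fun j => (card_S m j).2
    let g : {T : S F (m + 1) k // SDual σ T} → Σ a : Fin (k / (m + 1) + 1),
        {f : Pd F a // dualPoly σ f.1.1 = f.1.1} × {T : S F m (k - (m + 1) * a) // SDual σ T} := fun T =>
      ⟨(splitEquiv m k T.1).1, ⟨(splitEquiv m k T.1).2.1, T.2 (Fin.last m)⟩,
        ⟨(splitEquiv m k T.1).2.2, fun j => T.2 j.castSucc⟩⟩
    have hg : Function.Injective g := fun T T' h => by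
      refine Subtype.ext ((splitEquiv m k).injective ?_)
      exact congrArg (fun x : Σ a : Fin (k / (m + 1) + 1),
        {f : Pd F a // dualPoly σ f.1.1 = f.1.1} × {T : S F m (k - (m + 1) * a) // SDual σ T} =>
          (⟨x.1, x.2.1.1, x.2.2.1⟩ : Σ a : Fin (k / (m + 1) + 1), Pd F a × S F m (k - (m + 1) * a))) h
    refine (Nat.card_le_card_of_injective g hg).trans ?_
    rw [Nat.card_sigma, cntU, Finset.sum_range (f := fun a => cwU q a * cntU q m (k - (m + 1) * a))]
    refine Finset.sum_le_sum fun a _ => ?_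
    rw [Nat.card_prod]
    exact Nat.mul_le_mul (card_dual_pd_le hK hσ a) (card_sdual_le hK hσ m _)

end Cfsg.Agent.ClassNum
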