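import Cfsg.Agent.Lib.ClassNum.SpClasses
import Cfsg.Agent.Lib.ClassNum.UScale

/-!
Counting admissible tuples with signs.
-/

set_option autoImplicit false
set_option linter.unusedSectionVars false

namespace Cfsg.Agent.ClassNum

open Polynomial S2478 FormsLib FormTorus

universe u

variable {F : Type u} [Field F]

/-- Self-dual polynomials of a degree. -/
abbrev DP (F : Type u) [Field F] (a : ℕ) : Type u :=
  {f : Pd F a // dualPoly (RingHom.id F) f.1.1 = f.1.1}

/-- Bound on their number. -/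
def cD (q : ℕ) : ℕ → ℕ
  | 0 => 1
  | 1 => 2
  | a + 2 => q * cD q a + Nat.choose 2 (a + 2)

/-- Bound with signs, for an even exponent. -/
def cE (q : ℕ) : ℕ → ℕ
  | 0 => 1
  | 1 => 4
  | a + 2 => q * cE q a + Nat.choose 4 (a + 2)

/-- Bound for an odd exponent. -/
def cO (q a : ℕ) : ℕ := if Even a then q ^ (a / 2) else 0

/-- Weights in the symplectic case. -/
def cwS (q i a : ℕ) : ℕ := if Even i then cE q a else cO q a

/-- The count in the symplectic case. -/
def cntS (q : ℕ) : ℕ → ℕ → ℕ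
  | 0, k => if k = 0 then 1 else 0
  | m + 1, k => ∑ a ∈ Finset.range (k / (m + 1) + 1), cwS q (m + 1) a * cntS q m (k - (m + 1) * a)

theorem cD_odd (q : ℕ) : ∀ d, cD q (2 * d + 1) = 2 * q ^ d
  | 0 => rfl
  | d + 1 => by
    show q * cD q (2 * d + 1) + Nat.choose 2 (2 * d + 1 + 2) = _
    rw [cD_odd q d, Nat.choose_eq_zero_of_lt (by omega), pow_succ]
    ring

theorem cD_even (q : ℕ) : ∀ d, cD q (2 * (d + 1)) = q ^ (d + 1) + q ^ d
  | 0 => by show q * cD q 0 + Nat.choose 2 2 = _; simp [cD]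
  | d + 1 => by
    show q * cD q (2 * (d + 1)) + Nat.choose 2 (2 * (d + 1) + 2) = _
    rw [cD_even q d, Nat.choose_eq_zero_of_lt (by omega)]
    ring

theorem cE_eq (q : ℕ) : ∀ a, cE q (a + 2) = cD q (a + 2) + 2 * cD q (a + 1) + cD q a
  | 0 => by simp [cE, cD, Nat.choose]
  | 1 => by simp [cE, cD, Nat.choose]; ring
  | a + 2 => by
    show q * cE q (a + 2) + Nat.choose 4 (a + 2 + 2) =
      (q * cD q (a + 2) + Nat.choose 2 (a + 2 + 2)) + 2 * (q * cD q (a + 1) + Nat.choose 2 (a + 1 + 2)) +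
        (q * cD q a + Nat.choose 2 (a + 2))
    rw [cE_eq q a]
    rcases a with _ | b
    · norm_num [Nat.choose]
      ring
    · rw [Nat.choose_eq_zero_of_lt (show 4 < b + 1 + 2 + 2 by omega),
        Nat.choose_eq_zero_of_lt (show 2 < b + 1 + 2 + 2 by omega),
        Nat.choose_eq_zero_of_lt (show 2 < b + 1 + 1 + 2 by omega),
        Nat.choose_eq_zero_of_lt (show 2 < b + 1 + 2 by omega)]
      ring

variable [Fintype F]

theorem finite_DP (a : ℕ) : Finite (DP F a) := by
  haveI := (card_Pd (F := F) a).2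
  infer_instance

theorem dual_coeff {a : ℕ} (f : DP F a) (i : ℕ) (hi : i ≤ a) :
    f.1.1.1.coeff (a - i) = f.1.1.1.coeff i * f.1.1.1.coeff 0 := by
  have h := (dual_iff f.1.1).1 f.2 i (by rw [f.1.2]; exact hi)
  rw [f.1.2] at h
  exact h

theorem coeff_top {a : ℕ} (f : DP F a) : f.1.1.1.coeff a = 1 := by
  have := f.1.1.2.1.coeff_natDegree
  rwa [f.1.2] at this

theorem coeff0_sq {a : ℕ} (f : DP F a) : f.1.1.1.coeff 0 = 1 ∨ f.1.1.1.coeff 0 = -1 := by
  have h := dual_coeff f 0 (Nat.zero_le _)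
  rw [Nat.sub_zero, coeff_top] at h
  exact mul_self_eq_one_iff.1 h.symm

theorem dual_ext {a : ℕ} (f g : DP F a) (h : ∀ i, 2 * i ≤ a → f.1.1.1.coeff i = g.1.1.1.coeff i) : f = g := by
  refine Subtype.ext (Subtype.ext (Subtype.ext (Polynomial.ext fun i => ?_)))
  rcases le_or_gt (2 * i) a with hi | hi
  · exact h i hi
  rcases le_or_gt i a with hia | hia
  · have h1 := dual_coeff f (a - i) (by omega)
    have h2 := dual_coeff g (a - i) (by omega)
    rw [show a - (a - i) = i by omega] at h1 h2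
    rw [h1, h2, h (a - i) (by omega), h 0 (by omega)]
  · rw [coeff_eq_zero_of_natDegree_lt (by rw [f.1.2]; exact hia),
      coeff_eq_zero_of_natDegree_lt (by rw [g.1.2]; exact hia)]

theorem card_dual_one (d : ℕ) :
    Nat.card {f : DP F (2 * d) // f.1.1.1.coeff 0 = 1} ≤ Fintype.card F ^ d := by
  haveI := finite_DP (F := F) (2 * d)
  refine (Nat.card_le_card_of_injective (fun f : {f : DP F (2 * d) // f.1.1.1.coeff 0 = 1} =>
    fun i : Fin d => f.1.1.1.1.coeff ((i : ℕ) + 1)) fun f g h => ?_).trans ?_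
  · refine Subtype.ext (dual_ext _ _ fun i hi => ?_)
    rcases Nat.eq_zero_or_pos i with rfl | hi0
    · rw [f.2, g.2]
    · have := congrFun h ⟨i - 1, by omega⟩
      simp only at this
      rwa [show i - 1 + 1 = i by omega] at this
  · rw [Nat.card_fun, Nat.card_fin, Nat.card_eq_fintype_card]

theorem card_dual_neg (h2 : (2 : F) ≠ 0) (d : ℕ) :
    Nat.card {f : DP F (2 * (d + 1)) // f.1.1.1.coeff 0 = -1} ≤ Fintype.card F ^ d := by
  haveI := finite_DP (F := F) (2 * (d + 1))
  refine (Nat.card_le_card_of_injective (fun f : {f : DP F (2 * (d + 1)) // f.1.1.1.coeff 0 = -1} =>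
    fun i : Fin d => f.1.1.1.1.coeff ((i : ℕ) + 1)) fun f g h => ?_).trans ?_
  · refine Subtype.ext (dual_ext _ _ fun i hi => ?_)
    rcases Nat.eq_zero_or_pos i with rfl | hi0
    · rw [f.2, g.2]
    rcases eq_or_lt_of_le (show i ≤ d + 1 by omega) with rfl | hlt
    · have mid : ∀ f : {f : DP F (2 * (d + 1)) // f.1.1.1.coeff 0 = -1}, f.1.1.1.1.coeff (d + 1) = 0 := fun f => by
        have e := dual_coeff f.1 (d + 1) (by omega)
        rw [show 2 * (d + 1) - (d + 1) = d + 1 by omega, f.2] at e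
        exact (mul_eq_zero.1 (show (2 : F) * f.1.1.1.1.coeff (d + 1) = 0 by linear_combination e)).resolve_left h2
      rw [mid f, mid g]
    · have := congrFun h ⟨i - 1, by omega⟩
      simp only at this
      rwa [show i - 1 + 1 = i by omega] at this
  · rw [Nat.card_fun, Nat.card_fin, Nat.card_eq_fintype_card]

theorem card_DP (h2 : (2 : F) ≠ 0) (a : ℕ) : Nat.card (DP F a) ≤ cD (Fintype.card F) a := by
  classical
  haveI := finite_DP (F := F) a
  obtain ⟨d, rfl | rfl⟩ := Nat.even_or_odd' a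
  · rcases d with _ | d
    · refine Finite.card_le_one_iff_subsingleton.2 ⟨fun f g => dual_ext f g fun i hi => ?_⟩
      obtain rfl : i = 0 := by omega
      rw [coeff_top f, coeff_top g]
    rw [cD_even, Nat.card_congr (Equiv.sumCompl fun f : DP F (2 * (d + 1)) => f.1.1.1.coeff 0 = 1).symm,
      Nat.card_sum]
    refine Nat.add_le_add (card_dual_one (d + 1)) (le_trans ?_ (card_dual_neg h2 d))
    haveI : Finite {f : DP F (2 * (d + 1)) // f.1.1.1.coeff 0 = -1} := Subtype.finite
    exact Nat.card_le_card_of_injective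
      (fun f => (⟨f.1, (coeff0_sq f.1).resolve_left f.2⟩ : {f : DP F (2 * (d + 1)) // f.1.1.1.coeff 0 = -1}))
      fun f g h => Subtype.ext (congrArg (fun x : {f : DP F (2 * (d + 1)) // f.1.1.1.coeff 0 = -1} => x.1) h)
  · rw [cD_odd]
    refine (Nat.card_le_card_of_injective (fun f : DP F (2 * d + 1) =>
      (decide (f.1.1.1.coeff 0 = 1), fun i : Fin d => f.1.1.1.coeff ((i : ℕ) + 1))) fun f g h => ?_).trans ?_
    · simp only [Prod.mk.injEq, decide_eq_decide] at h
      refine dual_ext f g fun i hi => ?_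
      rcases Nat.eq_zero_or_pos i with rfl | hi0
      · rcases coeff0_sq f with hf | hf
        · rw [hf, h.1.1 hf]
        · rcases coeff0_sq g with hg | hg
          · rw [hg, h.1.2 hg]
          · rw [hf, hg]
      · have := congrFun h.2 ⟨i - 1, by omega⟩
        simp only at this
        rwa [show i - 1 + 1 = i by omega] at this
    · rw [Nat.card_prod, Nat.card_fun, Nat.card_fin, Nat.card_eq_fintype_card, Nat.card_eq_fintype_card,
        Fintype.card_bool]

theorem dual_linear {c : F} (hc : c * c = 1) : dualPoly (RingHom.id F) (X - C c) = X - C c := by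
  have hc0 : c ≠ 0 := fun h => by simp [h] at hc
  let f : Good F := ⟨X - C c, monic_X_sub_C c, by simpa using hc0⟩
  refine (dual_iff f).2 fun i hi => ?_
  simp only [f, natDegree_X_sub_C] at hi ⊢
  interval_cases i <;> simp [hc]

/-- Remove a linear factor. -/
theorem card_root_le (h2 : (2 : F) ≠ 0) (a : ℕ) {c : F} (hc : c * c = 1) :
    Nat.card {f : DP F (a + 1) // f.1.1.1.eval c = 0} ≤ Nat.card (DP F a) := by
  haveI := finite_DP (F := F) a
  have key : ∀ f : {f : DP F (a + 1) // f.1.1.1.eval c = 0}, ∃ g : DP F a,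
      f.1.1.1.1 = (X - C c) * g.1.1.1 := by
    intro f
    obtain ⟨g, hg⟩ := dvd_iff_isRoot.2 (show f.1.1.1.1.IsRoot c from f.2)
    have hgm : g.Monic := (monic_X_sub_C c).of_mul_monic_left (hg ▸ f.1.1.1.2.1)
    have hg0 : g.coeff 0 ≠ 0 := fun h => f.1.1.1.2.2 (by rw [hg, mul_coeff_zero, h, mul_zero])
    have hdeg : g.natDegree = a := by
      have := f.1.1.2
      rw [hg, (monic_X_sub_C c).natDegree_mul hgm, natDegree_X_sub_C] at this
      omega
    refine ⟨⟨⟨⟨g, hgm, hg0⟩, hdeg⟩, mul_left_cancel₀ (X_sub_C_ne_zero c) ?_⟩, hg⟩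
    have h := f.1.2
    rw [hg, dualPoly_mul, dual_linear hc] at h
    exact h
  choose g hg using key
  exact Nat.card_le_card_of_injective g fun x y h =>
    Subtype.ext (Subtype.ext (Subtype.ext (Subtype.ext (by rw [hg x, hg y, h]))))

/-- Degree `a` data for one exponent. -/
abbrev VS (F : Type u) [Field F] (i a : ℕ) : Type u :=
  {x : Pd F a × (Bool × Bool) // Val i x.1.1.1 x.2}

theorem card_VS_even (h2 : (2 : F) ≠ 0) {i : ℕ} (a : ℕ) :
    Nat.card (VS F i a) ≤ cE (Fintype.card F) a := by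
  classical
  haveI := fun a => finite_DP (F := F) a
  haveI := (card_Pd (F := F) a).2
  let R : Bool × Bool → Type u := fun s =>
    {f : DP F a // (s.1 = true → f.1.1.1.eval 1 = 0) ∧ (s.2 = true → f.1.1.1.eval (-1) = 0)}
  refine (Nat.card_le_card_of_injective
    (fun x : VS F i a => (⟨x.1.2, ⟨x.1.1, x.2.1⟩, x.2.2.2⟩ : Σ s, R s)) fun x y h => ?_).trans ?_
  · exact Subtype.ext (congrArg (fun z : Σ s, R s => (z.2.1.1, z.1)) h)
  rw [Nat.card_sigma, Fintype.sum_prod_type, Fintype.sum_bool, Fintype.sum_bool, Fintype.sum_bool]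
  have h0 : Nat.card (R (false, false)) ≤ cD (Fintype.card F) a :=
    (Nat.card_le_card_of_injective _ Subtype.val_injective).trans (card_DP h2 a)
  have e1 : (1 : F) * 1 = 1 := one_mul 1
  have e2 : (-1 : F) * -1 = 1 := by ring
  have h10 : ∀ b, a = b + 1 → Nat.card (R (true, false)) ≤ cD (Fintype.card F) b := by
    rintro b rfl
    refine le_trans ?_ ((card_root_le h2 b e1).trans (card_DP h2 b))
    exact Nat.card_le_card_of_injective (fun f => ⟨f.1, f.2.1 rfl⟩)
      fun f g h => by have h' := congrArg Subtype.val h; exact Subtype.ext h'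
  have h01 : ∀ b, a = b + 1 → Nat.card (R (false, true)) ≤ cD (Fintype.card F) b := by
    rintro b rfl
    refine le_trans ?_ ((card_root_le h2 b e2).trans (card_DP h2 b))
    exact Nat.card_le_card_of_injective (fun f => ⟨f.1, f.2.2 rfl⟩)
      fun f g h => by have h' := congrArg Subtype.val h; exact Subtype.ext h'
  have hne : (1 : F) ≠ -1 := fun h => h2 (by linear_combination h)
  rcases a with _ | _ | b
  · have hz : ∀ s, s ≠ (false, false) → Nat.card (R s) = 0 := by
      rintro ⟨s1, s2⟩ hs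
      rw [Nat.card_eq_zero]
      refine Or.inl ⟨fun f => ?_⟩
      have hf := eq_one_of_monic_natDegree_zero f.1.1.1.2.1 f.1.1.2
      cases s1
      · cases s2
        · exact hs rfl
        · exact one_ne_zero (α := F) (by simpa [hf] using f.2.2 rfl)
      · exact one_ne_zero (α := F) (by simpa [hf] using f.2.1 rfl)
    rw [hz _ (by decide), hz _ (by decide), hz _ (by decide)]
    simpa [cE, cD] using h0
  · have h11 : Nat.card (R (true, true)) = 0 := by
      rw [Nat.card_eq_zero]
      refine Or.inl ⟨fun f => hne ?_⟩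
      obtain ⟨e, he⟩ : ∃ e, f.1.1.1.1 = X + C e :=
        ⟨_, f.1.1.1.2.1.eq_X_add_C f.1.1.2⟩
      have e1 := f.2.1 rfl
      have e2 := f.2.2 rfl
      simp only [he, eval_add, eval_X, eval_C] at e1 e2
      linear_combination e1 - e2
    have := h10 0 rfl
    have := h01 0 rfl
    simp only [cE, cD] at *
    omega
  · have h11 : Nat.card (R (true, true)) ≤ cD (Fintype.card F) b := by
      have key : ∀ f : R (true, true), ∃ g : {g : DP F (b + 1) // g.1.1.1.eval (-1) = 0},
          f.1.1.1.1 = (X - C 1) * g.1.1.1.1 := by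
        intro f
        obtain ⟨g, hg⟩ := dvd_iff_isRoot.2 (show f.1.1.1.1.IsRoot 1 from f.2.1 rfl)
        have hgm : g.Monic := (monic_X_sub_C (1 : F)).of_mul_monic_left (hg ▸ f.1.1.1.2.1)
        have hg0 : g.coeff 0 ≠ 0 := fun h => f.1.1.1.2.2 (by rw [hg, mul_coeff_zero, h, mul_zero])
        have hdeg : g.natDegree = b + 1 := by
          have := f.1.1.2
          rw [hg, (monic_X_sub_C (1 : F)).natDegree_mul hgm, natDegree_X_sub_C] at this
          omega
        have hd : dualPoly (RingHom.id F) g = g := by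
          refine mul_left_cancel₀ (X_sub_C_ne_zero (1 : F)) ?_
          have h := f.1.2
          rw [hg, dualPoly_mul, dual_linear e1] at h
          exact h
        refine ⟨⟨⟨⟨⟨g, hgm, hg0⟩, hdeg⟩, hd⟩, ?_⟩, hg⟩
        have h := f.2.2 rfl
        rw [hg, eval_mul, eval_sub, eval_X, eval_C] at h
        exact (mul_eq_zero.1 h).resolve_left (sub_ne_zero.2 hne.symm)
      choose g hg using key
      refine le_trans (Nat.card_le_card_of_injective g fun x y h => ?_) ((card_root_le h2 b e2).trans (card_DP h2 b))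
      exact Subtype.ext (Subtype.ext (Subtype.ext (Subtype.ext (by rw [hg x, hg y, h]))))
    have := h10 (b + 1) rfl
    have := h01 (b + 1) rfl
    have := cE_eq (Fintype.card F) b
    simp only [show b + 1 + 1 = b + 2 from rfl] at *
    omega

theorem eval_dual {f : F[X]} {c : F} (hc : c * c = 1) (hd : dualPoly (RingHom.id F) f = f)
    (h0 : f.eval c ≠ 0) : f.coeff 0 = c ^ f.natDegree := by
  letI : Invertible c := ⟨c, hc, hc⟩
  have h := eval₂_reverse_mul_pow (RingHom.id F) c f
  change (reverse f).eval c * c ^ f.natDegree = f.eval c at h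
  have h' := congrArg (eval c) hd
  rw [dualPoly, Polynomial.map_id, RingHom.id_apply, eval_mul, eval_C] at h'
  have hf0 : f.coeff 0 ≠ 0 := fun e => h0 (by rw [← h', e, inv_zero, mul_zero])
  field_simp at h'
  apply mul_left_cancel₀ h0
  have hcc : c ^ f.natDegree * c ^ f.natDegree = 1 := by rw [← mul_pow, hc, one_pow]
  first
    | linear_combination (c ^ f.natDegree) * h - ((reverse f).eval c) * hcc + h'
    | linear_combination (c ^ f.natDegree) * h - ((reverse f).eval c) * hcc - h'

theorem odd_struct {f : F[X]} (hm : f.Monic) (hd : dualPoly (RingHom.id F) f = f) (h0 : f.coeff 0 ≠ 0)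
    (ha : Even (f.rootMultiplicity 1)) (hb : Even (f.rootMultiplicity (-1))) (hne : (1 : F) ≠ -1) :
    Even f.natDegree ∧ f.coeff 0 = 1 := by
  classical
  set α := f.rootMultiplicity 1 with hα
  obtain ⟨g, hg, hg1⟩ := exists_eq_pow_rootMultiplicity_mul_and_not_dvd f hm.ne_zero 1
  have hg0 : g ≠ 0 := fun h => hm.ne_zero (by rw [hg, h, mul_zero])
  obtain ⟨h, hh, hh1⟩ := exists_eq_pow_rootMultiplicity_mul_and_not_dvd g hg0 (-1)
  set β := g.rootMultiplicity (-1) with hβ
  have hβe : f.rootMultiplicity (-1) = β := by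
    conv_lhs => rw [hg]
    rw [rootMultiplicity_mul (mul_ne_zero (pow_ne_zero _ (X_sub_C_ne_zero 1)) hg0),
      rootMultiplicity_eq_zero (p := (X - C (1 : F)) ^ α), zero_add]
    rw [IsRoot, eval_pow, eval_sub, eval_X, eval_C]
    exact pow_ne_zero _ (sub_ne_zero.2 hne.symm)
  have hgm : g.Monic := ((monic_X_sub_C (1 : F)).pow _).of_mul_monic_left (hg ▸ hm)
  have hhm : h.Monic := ((monic_X_sub_C (-1 : F)).pow _).of_mul_monic_left (hh ▸ hgm)
  have hpd : ∀ (c : F) (k : ℕ), c * c = 1 → dualPoly (RingHom.id F) ((X - C c) ^ k) = (X - C c) ^ k :=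
    fun c k hc => by rw [dualPoly_pow, dual_linear hc]
  have e2 : (-1 : F) * -1 = 1 := by ring
  have hgd : dualPoly (RingHom.id F) g = g := by
    refine mul_left_cancel₀ (pow_ne_zero α (X_sub_C_ne_zero (1 : F))) ?_
    have := hd
    rw [hg, dualPoly_mul, hpd _ _ (one_mul 1)] at this
    exact this
  have hhd : dualPoly (RingHom.id F) h = h := by
    refine mul_left_cancel₀ (pow_ne_zero β (X_sub_C_ne_zero (-1 : F))) ?_
    have := hgd
    rw [hh, dualPoly_mul, hpd _ _ e2] at this
    exact this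
  have hh1' : h.eval (-1) ≠ 0 := fun e => hh1 (dvd_iff_isRoot.2 e)
  have hh2' : h.eval 1 ≠ 0 := fun e => hg1 (dvd_iff_isRoot.2 (by rw [IsRoot, hh, eval_mul, e, mul_zero]))
  have c1 := eval_dual (one_mul 1) hhd hh2'
  rw [one_pow] at c1
  have c2 := eval_dual e2 hhd hh1'
  rw [c1] at c2
  have hdeg : Even h.natDegree := by
    by_contra ho
    rw [(Nat.not_even_iff_odd.1 ho).neg_one_pow] at c2
    exact hne c2
  refine ⟨?_, ?_⟩
  · rw [hg, ((monic_X_sub_C (1 : F)).pow _).natDegree_mul hgm, hh,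
      ((monic_X_sub_C (-1 : F)).pow _).natDegree_mul hhm, natDegree_pow, natDegree_pow, natDegree_X_sub_C,
      natDegree_X_sub_C, mul_one, mul_one]
    exact ha.add ((hβe ▸ hb).add hdeg)
  · rw [hg, hh, mul_coeff_zero, mul_coeff_zero, c1, mul_one, coeff_zero_eq_eval_zero, coeff_zero_eq_eval_zero,
      eval_pow, eval_pow, eval_sub, eval_sub, eval_X, eval_C, eval_C, zero_sub, zero_sub, neg_neg, one_pow,
      mul_one, ← hα, ha.neg_one_pow]

theorem card_VS_odd (h2 : (2 : F) ≠ 0) {i : ℕ} (hi : Odd i) (a : ℕ) :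
    Nat.card (VS F i a) ≤ cO (Fintype.card F) a := by
  classical
  have hne : (1 : F) ≠ -1 := fun h => h2 (by linear_combination h)
  have key : ∀ x : VS F i a, Even a ∧ x.1.1.1.1.coeff 0 = 1 := fun x => by
    have h := odd_struct x.1.1.1.2.1 x.2.1 x.1.1.1.2.2 (x.2.2.1 hi).1 (x.2.2.1 hi).2.1 hne
    rw [x.1.1.2] at h
    exact h
  rw [cO]
  split_ifs with ha
  · obtain ⟨d, rfl⟩ : ∃ d, a = 2 * d := ⟨a / 2, by obtain ⟨r, hr⟩ := ha; omega⟩
    rw [Nat.mul_div_cancel_left _ (by norm_num)]
    haveI := finite_DP (F := F) (2 * d)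
    refine le_trans (Nat.card_le_card_of_injective
      (fun x : VS F i (2 * d) => (⟨⟨x.1.1, x.2.1⟩, (key x).2⟩ : {f : DP F (2 * d) // f.1.1.1.coeff 0 = 1}))
      fun x y h => ?_) (card_dual_one d)
    refine Subtype.ext (Prod.ext (congrArg (fun z : {f : DP F (2 * d) // f.1.1.1.coeff 0 = 1} => z.1.1) h) ?_)
    rw [(x.2.2.1 hi).2.2, (y.2.2.1 hi).2.2]
  · haveI : IsEmpty (VS F i a) := ⟨fun x => ha (key x).1⟩
    simp

theorem card_VS (h2 : (2 : F) ≠ 0) (i a : ℕ) : Nat.card (VS F i a) ≤ cwS (Fintype.card F) i a := by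
  rw [cwS]
  split_ifs with h
  · exact card_VS_even h2 a
  · exact card_VS_odd h2 (Nat.not_even_iff_odd.1 h) a

theorem card_DS (h2 : (2 : F) ≠ 0) : ∀ m k, Nat.card (DS F m k) ≤ cntS (Fintype.card F) m k
  | 0, k => by
    by_cases hk : k = 0
    · rw [cntS, if_pos hk]
      haveI : Subsingleton (DS F 0 k) := ⟨fun a b =>
        Subtype.ext (Prod.ext (Subtype.ext (funext fun j => j.elim0)) (funext fun j => j.elim0))⟩
      exact Finite.card_le_one_iff_subsingleton.2 inferInstance
    · haveI : IsEmpty (S F 0 k) := ⟨fun f => hk (by simpa using f.2.symm)⟩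
      haveI : IsEmpty (DS F 0 k) := ⟨fun x => isEmptyElim x.1.1⟩
      simp
  | m + 1, k => by
    classical
    haveI : ∀ a, Finite (Pd F a) := fun a => (card_Pd a).2
    haveI : ∀ j, Finite (DS F m j) := fun j => by
      haveI := (card_S (F := F) m j).2
      exact Subtype.finite
    let g : DS F (m + 1) k → Σ a : Fin (k / (m + 1) + 1), VS F (m + 1) a × DS F m (k - (m + 1) * a) := fun x =>
      ⟨(splitEquiv m k x.1.1).1, ⟨((splitEquiv m k x.1.1).2.1, x.1.2 (Fin.last m)), x.2 (Fin.last m)⟩,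
        ⟨((splitEquiv m k x.1.1).2.2, fun j => x.1.2 j.castSucc), fun j => x.2 j.castSucc⟩⟩
    have hg : Function.Injective g := fun x y h => by
      refine Subtype.ext (Prod.ext ((splitEquiv m k).injective ?_) ?_)
      · exact congrArg (fun z : Σ a : Fin (k / (m + 1) + 1), VS F (m + 1) a × DS F m (k - (m + 1) * a) =>
          (⟨z.1, z.2.1.1.1, z.2.2.1.1⟩ : Σ a : Fin (k / (m + 1) + 1), Pd F a × S F m (k - (m + 1) * a))) h
      · funext j
        refine Fin.lastCases ?_ (fun l => ?_) j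
        · exact congrArg (fun z : Σ a : Fin (k / (m + 1) + 1), VS F (m + 1) a × DS F m (k - (m + 1) * a) =>
            z.2.1.1.2) h
        · exact congrArg (fun z : Σ a : Fin (k / (m + 1) + 1), VS F (m + 1) a × DS F m (k - (m + 1) * a) =>
            z.2.2.1.2 l) h
    refine (Nat.card_le_card_of_injective g hg).trans ?_
    rw [Nat.card_sigma, cntS, Finset.sum_range (f := fun a => cwS _ (m + 1) a * cntS _ m (k - (m + 1) * a))]
    refine Finset.sum_le_sum fun a _ => ?_
    rw [Nat.card_prod]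
    exact Nat.mul_le_mul (card_VS h2 _ a) (card_DS h2 m _)

/-! ### The numerical bound -/

/-- The factor of an exponent. -/
def facS (i : ℕ) : ℚ :=
  if Even i then (1 + (1 / 3) ^ (i / 2)) ^ 4 / (1 - 3 * ((1 / 3) ^ (i / 2)) ^ 2)
  else 1 / (1 - ((1 / 3) ^ (i / 2)) ^ 2)

/-- The constant. -/
def cS : ℕ → ℚ
  | 0 => 1
  | 1 => 1
  | m + 2 => cS (m + 1) * facS (m + 2)

theorem pow_third_le {l l' : ℕ} (h : l' ≤ l) : ((1 : ℚ) / 3) ^ l ≤ (1 / 3) ^ l' :=
  pow_le_pow_of_le_one (by norm_num) (by norm_num) h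

theorem facS_ge (m : ℕ) : 1 ≤ facS (m + 2) := by
  set y := ((1 : ℚ) / 3) ^ ((m + 2) / 2) with hy
  have h1 : y ≤ 1 / 3 := (pow_third_le (show 1 ≤ (m + 2) / 2 by omega)).trans_eq (pow_one _)
  have h0 : 0 < y := by positivity
  rw [facS]
  split_ifs with h
  · rw [← hy, le_div_iff₀ (by nlinarith)]
    have hpow : (1 : ℚ) ≤ (1 + y) ^ 4 := one_le_pow₀ (by linarith)
    nlinarith
  · rw [← hy, le_div_iff₀ (by nlinarith)]
    nlinarith

theorem cS_pos : ∀ m, 1 ≤ cS m
  | 0 => le_rfl
  | 1 => le_rfl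
  | m + 2 => one_le_mul_of_one_le_of_one_le (cS_pos (m + 1)) (facS_ge m)

theorem cS_mono : Monotone cS := monotone_nat_of_le_succ fun m => by
  rcases m with _ | m
  · exact le_rfl
  · show cS (m + 1) ≤ cS (m + 1) * facS (m + 2)
    exact le_mul_of_one_le_right (by linarith [cS_pos (m + 1)]) (facS_ge m)

theorem cS_nine : cS 9 ≤ 54 / 5 * (1 - 21 / 10 * (1 / 3) ^ 4) := by
  norm_num [cS, facS, show Even 2 from ⟨1, rfl⟩, show Even 4 from ⟨2, rfl⟩, show Even 6 from ⟨3, rfl⟩,
    show Even 8 from ⟨4, rfl⟩, show ¬ Even 3 by decide, show ¬ Even 5 by decide, show ¬ Even 7 by decide,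
    show ¬ Even 9 by decide]

theorem cS_tail : ∀ l, cS (2 * (l + 4) + 1) ≤ 54 / 5 * (1 - 21 / 10 * (1 / 3) ^ (l + 4))
  | 0 => cS_nine
  | l + 1 => by
    show cS (2 * (l + 4) + 1) * facS (2 * (l + 4) + 2) * facS (2 * (l + 4) + 3) ≤ _
    rw [facS, if_pos ⟨l + 5, by omega⟩, facS, if_neg (fun h => by obtain ⟨r, hr⟩ := h; omega),
      show (2 * (l + 4) + 2) / 2 = l + 1 + 4 by omega, show (2 * (l + 4) + 3) / 2 = l + 1 + 4 by omega]
    have ih := cS_tail l
    rw [show ((1 : ℚ) / 3) ^ (l + 4) = 3 * (1 / 3) ^ (l + 1 + 4) by rw [show l + 1 + 4 = (l + 4) + 1 by omega, pow_succ]; ring] at ih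
    set y := ((1 : ℚ) / 3) ^ (l + 1 + 4) with hy
    have h1 : y ≤ 1 / 243 := (pow_third_le (show 5 ≤ l + 1 + 4 by omega)).trans_eq (by norm_num)
    have h0 : 0 < y := by positivity
    have d1 : (0 : ℚ) < 1 - 3 * y ^ 2 := by nlinarith
    have d2 : (0 : ℚ) < 1 - y ^ 2 := by nlinarith
    have hden : (0 : ℚ) < (1 - 3 * y ^ 2) * (1 - y ^ 2) := mul_pos d1 d2
    rw [mul_assoc, div_mul_div_comm, mul_one, mul_div_assoc', div_le_iff₀ hden]
    refine le_trans (mul_le_mul_of_nonneg_right ih (by positivity)) ?_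
    rw [mul_assoc (54 / 5 : ℚ) _ ((1 + y) ^ 4), mul_assoc (54 / 5 : ℚ)]
    refine mul_le_mul_of_nonneg_left ?_ (by norm_num)
    nlinarith [mul_le_mul_of_nonneg_left h1 h0.le, pow_pos h0 2, pow_pos h0 3, pow_pos h0 4, pow_pos h0 5]

theorem cS_le (m : ℕ) : cS m ≤ 54 / 5 := by
  refine le_trans (cS_mono (show m ≤ 2 * (m + 4) + 1 by omega)) (le_trans (cS_tail m) ?_)
  have : (0 : ℚ) < (1 / 3) ^ (m + 4) := by positivity
  linarith

theorem sum_choose_four_le (M : ℕ) {x : ℚ} (hx : 0 ≤ x) :
    ∑ a ∈ Finset.range M, (Nat.choose 4 a : ℚ) * x ^ a ≤ (1 + x) ^ 4 := by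
  refine le_trans (Finset.sum_le_sum_of_subset_of_nonneg (Finset.range_mono (Nat.le_add_right M 5))
    fun a _ _ => by positivity) (le_of_eq ?_)
  rw [← Finset.sum_subset (Finset.range_mono (Nat.le_add_left 5 M)) fun a _ ha => by
    rw [Nat.choose_eq_zero_of_lt (by simp at ha; omega), Nat.cast_zero, zero_mul]]
  norm_num [Finset.sum_range_succ, Nat.choose]
  ring

theorem sum_cE_le (q : ℕ) {x : ℚ} (hx : 0 ≤ x) (hqx : (q : ℚ) * x ^ 2 < 1) (M : ℕ) :
    ∑ a ∈ Finset.range M, (cE q a : ℚ) * x ^ a ≤ (1 + x) ^ 4 / (1 - q * x ^ 2) := by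
  have e : ∀ M, ∑ a ∈ Finset.range (M + 2), (cE q a : ℚ) * x ^ a =
      ∑ a ∈ Finset.range (M + 2), (Nat.choose 4 a : ℚ) * x ^ a +
        q * x ^ 2 * ∑ a ∈ Finset.range M, (cE q a : ℚ) * x ^ a := fun M => by
    induction M with
    | zero => norm_num [Finset.sum_range_succ, cE, Nat.choose]
    | succ M ih =>
      rw [Finset.sum_range_succ _ (M + 2), ih, Finset.sum_range_succ _ (M + 2), Finset.sum_range_succ _ M]
      simp only [cE]
      push_cast
      ring
  have hm : ∀ {A B : ℕ}, A ≤ B → ∑ a ∈ Finset.range A, (cE q a : ℚ) * x ^ a ≤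
      ∑ a ∈ Finset.range B, (cE q a : ℚ) * x ^ a := fun h =>
    Finset.sum_le_sum_of_subset_of_nonneg (Finset.range_mono h) fun a _ _ => by positivity
  refine le_trans (hm (Nat.le_add_right M 2)) ?_
  rw [le_div_iff₀ (by linarith)]
  have h1 := e M
  have h2 := sum_choose_four_le (M + 2) hx
  have h3 := mul_le_mul_of_nonneg_left (hm (Nat.le_add_right M 2)) (show (0 : ℚ) ≤ q * x ^ 2 by positivity)
  nlinarith

theorem cntS_odd (q : ℕ) : ∀ m k, Odd k → cntS q m k = 0
  | 0, k, hk => by
    rw [cntS, if_neg]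
    rintro rfl
    simp at hk
  | m + 1, k, hk => by
    rw [cntS]
    refine Finset.sum_eq_zero fun a ha => ?_
    rw [Finset.mem_range, Nat.lt_succ_iff, Nat.le_div_iff_mul_le (Nat.succ_pos m)] at ha
    have hle : (m + 1) * a ≤ k := by rwa [mul_comm]
    by_cases he : Even ((m + 1) * a)
    · rw [cntS_odd q m _ (Nat.Odd.sub_even hle hk he), mul_zero]
    · rw [Nat.even_mul, not_or] at he
      rw [cwS, if_neg he.1, cO, if_neg he.2, zero_mul]

theorem cntS_le (q : ℕ) (hq : 3 ≤ q) : ∀ m k, (cntS q m (2 * k) : ℚ) ≤ cS m * q ^ k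
  | 0, k => by
    rw [cntS, cS, one_mul]
    split_ifs with h
    · obtain rfl : k = 0 := by omega
      simp
    · simp
  | 1, k => by
    rw [cntS, cS, one_mul, Nat.div_one]
    rw [Finset.sum_eq_single (2 * k)]
    · simp [cwS, cntS, cO]
    · intro a ha hne
      rw [Finset.mem_range] at ha
      rw [cntS, if_neg (by omega), mul_zero]
    · simp
  | m + 2, k => by
    have hq0 : (0 : ℚ) < q := by exact_mod_cast (show 0 < q by omega)
    have hq3 : (3 : ℚ) ≤ q := by exact_mod_cast hq
    have hC := cS_pos (m + 1)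
    rw [cntS]
    rcases Nat.even_or_odd (m + 1 + 1) with he | ho
    · obtain ⟨l, hl⟩ := he
      have hl1 : 1 ≤ l := by omega
      set x : ℚ := (1 / q) ^ l with hx
      have hxy : x ≤ (1 / 3) ^ l := pow_le_pow_left₀ (by positivity) (one_div_le_one_div_of_le (by norm_num) hq3) l
      have hx0 : 0 ≤ x := by positivity
      have hqx : (q : ℚ) * x ^ 2 ≤ 3 * ((1 / 3) ^ l) ^ 2 := by
        obtain ⟨j, rfl⟩ : ∃ j, l = j + 1 := ⟨l - 1, by omega⟩
        have e1 : (q : ℚ) * x ^ 2 = (1 / q) ^ (2 * j + 1) := by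
          rw [hx, ← pow_mul, show (j + 1) * 2 = 2 * j + 1 + 1 by ring, pow_succ]
          field_simp
        have e2 : (3 : ℚ) * ((1 / 3) ^ (j + 1)) ^ 2 = (1 / 3) ^ (2 * j + 1) := by
          rw [← pow_mul, show (j + 1) * 2 = 2 * j + 1 + 1 by ring, pow_succ]
          ring
        rw [e1, e2]
        exact pow_le_pow_left₀ (by positivity) (one_div_le_one_div_of_le (by norm_num) hq3) _
      have hy : ((1 : ℚ) / 3) ^ l ≤ 1 / 3 := (pow_third_le hl1).trans_eq (pow_one _)
      have hy0 : (0 : ℚ) ≤ (1 / 3) ^ l := by positivity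
      have h31 : 3 * (((1 : ℚ) / 3) ^ l) ^ 2 < 1 := by nlinarith
      push_cast
      calc ∑ a ∈ Finset.range (2 * k / (m + 1 + 1) + 1), (cwS q (m + 1 + 1) a : ℚ) *
              (cntS q (m + 1) (2 * k - (m + 1 + 1) * a) : ℚ)
          ≤ ∑ a ∈ Finset.range (2 * k / (m + 1 + 1) + 1), cS (m + 1) * q ^ k * ((cE q a : ℚ) * x ^ a) := by
            refine Finset.sum_le_sum fun a ha => ?_
            rw [Finset.mem_range, Nat.lt_succ_iff, Nat.le_div_iff_mul_le (by omega)] at ha
            rw [cwS, if_pos ⟨l, hl⟩]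
            have hla : l * a ≤ k := by nlinarith
            rw [show 2 * k - (m + 1 + 1) * a = 2 * (k - l * a) by rw [hl, Nat.mul_sub]; ring_nf]
            refine le_trans (mul_le_mul_of_nonneg_left (cntS_le q hq (m + 1) _) (by positivity)) (le_of_eq ?_)
            rw [hx, ← pow_mul, pow_sub₀ _ hq0.ne' hla, one_div, inv_pow]
            ring
        _ ≤ cS (m + 1) * q ^ k * ((1 + x) ^ 4 / (1 - q * x ^ 2)) := by
            rw [← Finset.mul_sum]
            exact mul_le_mul_of_nonneg_left (sum_cE_le q hx0 (hqx.trans_lt h31) _) (by positivity)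
        _ ≤ cS (m + 1) * q ^ k * facS (m + 2) := by
            refine mul_le_mul_of_nonneg_left ?_ (by positivity)
            rw [facS, if_pos ⟨l, hl⟩, show (m + 2) / 2 = l by omega]
            exact div_le_div₀ (by positivity) (pow_le_pow_left₀ (by positivity) (by linarith) 4) (by linarith)
              (by linarith)
        _ = cS (m + 2) * q ^ k := by rw [cS]; ring
    · obtain ⟨l, hl⟩ := ho
      have hl1 : 1 ≤ l := by omega
      set r : ℚ := ((1 / q) ^ l) ^ 2 with hr
      have hxy : ((1 : ℚ) / q) ^ l ≤ (1 / 3) ^ l :=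
        pow_le_pow_left₀ (by positivity) (one_div_le_one_div_of_le (by norm_num) hq3) l
      have hy : ((1 : ℚ) / 3) ^ l ≤ 1 / 3 := (pow_third_le hl1).trans_eq (pow_one _)
      have hr0 : 0 ≤ r := by positivity
      have hrle : r ≤ (((1 : ℚ) / 3) ^ l) ^ 2 := pow_le_pow_left₀ (by positivity) hxy 2
      have h31 : (((1 : ℚ) / 3) ^ l) ^ 2 < 1 :=
        pow_lt_one₀ (by positivity) (by linarith) two_ne_zero
      push_cast
      calc ∑ a ∈ Finset.range (2 * k / (m + 1 + 1) + 1), (cwS q (m + 1 + 1) a : ℚ) *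
              (cntS q (m + 1) (2 * k - (m + 1 + 1) * a) : ℚ)
          = ∑ a ∈ (Finset.range (2 * k / (m + 1 + 1) + 1)).filter (fun a => Even a),
              (cwS q (m + 1 + 1) a : ℚ) * (cntS q (m + 1) (2 * k - (m + 1 + 1) * a) : ℚ) := by
            refine (Finset.sum_filter_of_ne fun a _ h => ?_).symm
            by_contra hodd
            refine h ?_
            rw [cwS, if_neg (fun he => by obtain ⟨s, hs⟩ := he; omega), cO, if_neg hodd, Nat.cast_zero, zero_mul]
        _ ≤ ∑ a ∈ (Finset.range (2 * k / (m + 1 + 1) + 1)).filter (fun a => Even a),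
              cS (m + 1) * q ^ k * r ^ (a / 2) := by
            refine Finset.sum_le_sum fun a ha => ?_
            rw [Finset.mem_filter, Finset.mem_range, Nat.lt_succ_iff, Nat.le_div_iff_mul_le (by omega)] at ha
            obtain ⟨ha, b, rfl⟩ := ha
            rw [cwS, if_neg (fun he => by obtain ⟨s, hs⟩ := he; omega), cO, if_pos ⟨b, rfl⟩,
              show (b + b) / 2 = b by omega]
            have hla : (2 * l + 1) * b ≤ k := by rw [hl] at ha; nlinarith
            rw [show 2 * k - (m + 1 + 1) * (b + b) = 2 * (k - (2 * l + 1) * b) by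
              rw [hl, Nat.mul_sub]; ring_nf]
            push_cast
            refine le_trans (mul_le_mul_of_nonneg_left (cntS_le q hq (m + 1) _) (by positivity)) (le_of_eq ?_)
            rw [hr, ← pow_mul, ← pow_mul, pow_sub₀ _ hq0.ne' hla, one_div, inv_pow,
              show (2 * l + 1) * b = l * 2 * b + b by ring, pow_add, mul_inv]
            field_simp
            ring
        _ ≤ cS (m + 1) * q ^ k * (1 / (1 - r)) := by
            rw [← Finset.mul_sum]
            refine mul_le_mul_of_nonneg_left ?_ (by positivity)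
            set s := (Finset.range (2 * k / (m + 1 + 1) + 1)).filter (fun a => Even a)
            have hinj : Set.InjOn (fun a => a / 2) (s : Set ℕ) := fun a ha b hb h => by
              obtain ⟨a', rfl⟩ := (Finset.mem_filter.1 ha).2
              obtain ⟨b', rfl⟩ := (Finset.mem_filter.1 hb).2
              simp only at h
              omega
            rw [← Finset.sum_image (f := fun b => r ^ b) hinj, le_div_iff₀ (by linarith)]
            refine le_trans (mul_le_mul_of_nonneg_right (Finset.sum_le_sum_of_subset_of_nonneg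
              (t := Finset.range (k + 1)) ?_ fun b _ _ => by positivity) (by linarith)) ?_
            · intro b hb
              obtain ⟨a, ha, rfl⟩ := Finset.mem_image.1 hb
              have h1 := Finset.mem_range.1 (Finset.mem_filter.1 ha).1
              have h2 : 2 * k / (m + 1 + 1) ≤ k := Nat.div_le_of_le_mul (by nlinarith)
              exact Finset.mem_range.2 (by omega)
            · rw [geom_sum_mul_neg]
              linarith [pow_nonneg hr0 (k + 1)]
        _ ≤ cS (m + 1) * q ^ k * facS (m + 2) := by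
            refine mul_le_mul_of_nonneg_left ?_ (by positivity)
            rw [facS, if_neg (fun he => by obtain ⟨s, hs⟩ := he; omega), show (m + 2) / 2 = l by omega]
            exact one_div_le_one_div_of_le (by linarith) (by linarith)
        _ = cS (m + 2) * q ^ k := by rw [cS]; ring

theorem classes_sp_le (hodd : Odd (Fintype.card F)) (n : ℕ) :
    5 * Nat.card (ConjClasses (Matrix.symplecticGroup (Fin n) F)) ≤ 54 * Fintype.card F ^ n := by
  have h2 : (2 : F) ≠ 0 := Ring.two_ne_zero fun h => by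
    have := FiniteField.even_card_iff_char_two.1 h
    obtain ⟨r, hr⟩ := hodd
    omega
  have hq : 3 ≤ Fintype.card F := by
    have := Fintype.one_lt_card (α := F)
    obtain ⟨r, hr⟩ := hodd
    omega
  have h1 := (classes_le_sp h2 n).trans (card_DS h2 (n + n) (n + n))
  have h3 : (cntS (Fintype.card F) (n + n) (2 * n) : ℚ) ≤ 54 / 5 * (Fintype.card F : ℚ) ^ n :=
    (cntS_le _ hq (n + n) n).trans (mul_le_mul_of_nonneg_right (cS_le _) (by positivity))
  rw [← two_mul n] at h1 h3
  have h4 : ((5 * Nat.card (ConjClasses (Matrix.symplecticGroup (Fin n) F)) : ℕ) : ℚ) ≤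
      ((54 * Fintype.card F ^ n : ℕ) : ℚ) := by
    have h5 := (Nat.cast_le (α := ℚ)).2 h1
    push_cast
    linarith
  exact_mod_cast h4

end Cfsg.Agent.ClassNum
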