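import Cfsg.Agent.Lib.ClassNum.WeightCount

/-!
The weight of the exponent one for classes which may split in the spinor kernel: both eigenvalues `±1`
occur at most once there. Initial bounds for the recursive counts.
-/

set_option autoImplicit false
set_option linter.unusedSectionVars false

namespace Cfsg.Agent.ClassNum

open Polynomial S2478 FormsLib FormTorus

universe u

variable {F : Type u} [Field F] [Fintype F]

/-- Self-dual polynomials without the roots `±1`. -/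
abbrev G0 (F : Type u) [Field F] (a : ℕ) : Type u :=
  {f : DP F a // f.1.1.1.eval 1 ≠ 0 ∧ f.1.1.1.eval (-1) ≠ 0}

/-- Bound on their number. -/
def cP (q : ℕ) : ℕ → ℕ
  | 0 => 1
  | 1 => 0
  | 2 => q - 1
  | a + 3 => if Even (a + 3) then (q - 1) ^ 2 * q ^ ((a - 1) / 2) else 0

/-- The weight. -/
def cB (q a : ℕ) : ℕ :=
  cP q a + (if 1 ≤ a then 4 * cP q (a - 1) else 0) + if 2 ≤ a then 4 * cP q (a - 2) else 0

theorem eval_sym {a : ℕ} (f : DP F a) {c : F} (hc : c * c = 1) :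
    f.1.1.1.eval c = f.1.1.1.coeff 0 * c ^ a * f.1.1.1.eval c := by
  have hcc : ∀ i, c ^ i * c ^ i = 1 := fun i => by rw [← mul_pow, hc, one_pow]
  conv_lhs => rw [Polynomial.eval_eq_sum_range, f.1.2, ← Finset.sum_range_reflect]
  rw [Polynomial.eval_eq_sum_range, f.1.2, Finset.mul_sum]
  refine Finset.sum_congr rfl fun i hi => ?_
  rw [Finset.mem_range] at hi
  rw [show a + 1 - 1 - i = a - i by omega, dual_coeff f i (by omega)]
  have e : c ^ (a - i) = c ^ a * c ^ i := by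
    conv_rhs => rw [show a = (a - i) + i by omega, pow_add, mul_assoc, hcc, mul_one]
  rw [e]
  ring

theorem coeff0_G0 (h2F : (2 : F) ≠ 0) {a : ℕ} (f : G0 F a) : f.1.1.1.1.coeff 0 = 1 ∧ Even a := by
  have h1 : f.1.1.1.1.coeff 0 * (1 : F) ^ a = 1 := (mul_eq_right₀ f.2.1).1 (eval_sym f.1 (one_mul 1)).symm
  have h2 : f.1.1.1.1.coeff 0 * (-1 : F) ^ a = 1 := (mul_eq_right₀ f.2.2).1 (eval_sym f.1 (by ring)).symm
  rw [one_pow, mul_one] at h1
  rw [h1, one_mul] at h2
  exact ⟨h1, (neg_one_pow_eq_one_iff_even (fun h => h2F (by linear_combination -h))).1 h2⟩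

theorem card_G0 (h2 : (2 : F) ≠ 0) : ∀ a, Nat.card (G0 F a) ≤ cP (Fintype.card F) a := by
  classical
  intro a
  haveI := finite_DP (F := F) a
  rcases Nat.even_or_odd a with he | ho
  swap
  · haveI : IsEmpty (G0 F a) := ⟨fun f => Nat.not_even_iff_odd.2 ho (coeff0_G0 h2 f).2⟩
    simp
  obtain ⟨d, rfl⟩ := he
  have hne : Nat.card {x : F // x ≠ 0} = Fintype.card F - 1 := by
    rw [Nat.card_eq_fintype_card, Fintype.card_subtype_compl]
    simp
  rcases d with _ | _ | d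
  · rw [cP]
    refine Finite.card_le_one_iff_subsingleton.2 ⟨fun f g => Subtype.ext (dual_ext _ _ fun i hi => ?_)⟩
    obtain rfl : i = 0 := by omega
    rw [(coeff0_G0 h2 f).1, (coeff0_G0 h2 g).1]
  · rw [show 0 + 1 + (0 + 1) = 2 by rfl] at *
    rw [cP, ← hne]
    refine Nat.card_le_card_of_injective (fun f => ⟨f.1.1.1.1.eval 1, f.2.1⟩) fun f g h => ?_
    refine Subtype.ext (dual_ext _ _ fun i hi => ?_)
    have h' := congrArg Subtype.val h
    simp only [Polynomial.eval_eq_sum_range, f.1.1.2, g.1.1.2, Finset.sum_range_succ, Finset.sum_range_zero,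
      coeff_top, (coeff0_G0 h2 f).1, (coeff0_G0 h2 g).1, one_pow, mul_one, zero_add] at h'
    obtain rfl | rfl : i = 0 ∨ i = 1 := by omega
    · rw [(coeff0_G0 h2 f).1, (coeff0_G0 h2 g).1]
    · linear_combination h'
  · rw [show d + 1 + 1 + (d + 1 + 1) = (2 * d + 1) + 3 by ring] at *
    rw [cP, if_pos ⟨d + 2, by ring⟩, show (2 * d + 1 - 1) / 2 = d by omega]
    refine (Nat.card_le_card_of_injective (fun f : G0 F (2 * d + 1 + 3) =>
      (((⟨_, f.2.1⟩ : {x : F // x ≠ 0}), (⟨_, f.2.2⟩ : {x : F // x ≠ 0})),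
        fun i : Fin d => f.1.1.1.1.coeff ((i : ℕ) + 1))) fun f g h => ?_).trans ?_
    swap
    · rw [Nat.card_prod, Nat.card_prod, Nat.card_fun, Nat.card_fin, hne, Nat.card_eq_fintype_card (α := F), pow_two]
    simp only [Prod.mk.injEq, Subtype.mk.injEq] at h
    obtain ⟨⟨v1, v2⟩, h3⟩ := h
    set D : F[X] := f.1.1.1.1 - g.1.1.1.1
    have hD0 : ∀ i, i ≤ 2 * d + 4 → D.coeff (2 * d + 4 - i) = D.coeff i := fun i hi => by
      have e1 := dual_coeff f.1 i (by omega)
      have e2 := dual_coeff g.1 i (by omega)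
      rw [(coeff0_G0 h2 f).1, mul_one] at e1
      rw [(coeff0_G0 h2 g).1, mul_one] at e2
      simp only [D, coeff_sub, show 2 * d + 4 - i = 2 * d + 1 + 3 - i by omega, e1, e2]
    have hlow : ∀ i, i ≤ d → D.coeff i = 0 := fun i hi => by
      rcases Nat.eq_zero_or_pos i with rfl | hi0
      · simp [D, (coeff0_G0 h2 f).1, (coeff0_G0 h2 g).1]
      · have := congrFun h3 ⟨i - 1, by omega⟩
        simp only [show i - 1 + 1 = i by omega] at this
        simp [D, this]
    have hhigh : ∀ i, d + 4 ≤ i → D.coeff i = 0 := fun i hi => by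
      rcases le_or_gt i (2 * d + 4) with h | h
      · rw [← hlow (2 * d + 4 - i) (by omega), ← hD0 (2 * d + 4 - i) (by omega)]
        congr 1
        omega
      · simp only [D, coeff_sub]
        rw [coeff_eq_zero_of_natDegree_lt (by rw [f.1.1.2]; omega),
          coeff_eq_zero_of_natDegree_lt (by rw [g.1.1.2]; omega), sub_zero]
    have hm : D.coeff (d + 3) = D.coeff (d + 1) := by
      rw [← hD0 (d + 1) (by omega)]
      congr 1
      omega
    have eD : D = C (D.coeff (d + 1)) * X ^ (d + 1) + C (D.coeff (d + 2)) * X ^ (d + 2) +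
        C (D.coeff (d + 1)) * X ^ (d + 3) := by
      ext i
      simp only [coeff_add, coeff_C_mul_X_pow]
      by_cases a1 : i = d + 1
      · subst a1; simp
      by_cases a2 : i = d + 2
      · subst a2; simp
      by_cases a3 : i = d + 3
      · subst a3; simp [hm]
      rw [if_neg a1, if_neg a2, if_neg a3, add_zero, add_zero]
      rcases le_or_gt i d with h | h
      · exact hlow i h
      · exact hhigh i (by omega)
    have e1 : D.eval 1 = 0 := by simp [D, v1]
    have e2 : D.eval (-1) = 0 := by simp [D, v2]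
    rw [eD] at e1 e2
    simp only [eval_add, eval_mul, eval_C, eval_pow, eval_X, one_pow, mul_one] at e1 e2
    have k1 : (-1 : F) ^ (d + 1) ≠ 0 := pow_ne_zero _ (neg_ne_zero.2 one_ne_zero)
    have e2' : (-1 : F) ^ (d + 1) * (2 * D.coeff (d + 1) - D.coeff (d + 2)) = 0 := by
      linear_combination e2
    have e3 := (mul_eq_zero.1 e2').resolve_left k1
    have ha : D.coeff (d + 1) = 0 := by
      have : (2 : F) * 2 * D.coeff (d + 1) = 0 := by linear_combination e1 + e3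
      exact (mul_eq_zero.1 this).resolve_left (mul_ne_zero h2 h2)
    have hb : D.coeff (d + 2) = 0 := by linear_combination e1 - 2 * ha
    refine Subtype.ext (Subtype.ext (Subtype.ext (Subtype.ext (sub_eq_zero.1 ?_))))
    show D = 0
    rw [eD, ha, hb]
    simp

/-- Both roots `±1` simple. -/
def Simple1 (f : F[X]) (_s : Bool × Bool) : Prop := f.rootMultiplicity 1 ≤ 1 ∧ f.rootMultiplicity (-1) ≤ 1

theorem exists_remove {f : F[X]} (hm : f.Monic) (h0 : f.coeff 0 ≠ 0) (hd : dualPoly (RingHom.id F) f = f) {c : F}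
    (hc : c * c = 1) (hr : f.rootMultiplicity c ≤ 1) :
    ∃ g : F[X], f = (X - C c) ^ f.rootMultiplicity c * g ∧ g.Monic ∧ g.coeff 0 ≠ 0 ∧
      dualPoly (RingHom.id F) g = g ∧ g.eval c ≠ 0 ∧ f.rootMultiplicity c + g.natDegree = f.natDegree := by
  obtain ⟨g, hg, hnd⟩ := exists_eq_pow_rootMultiplicity_mul_and_not_dvd f hm.ne_zero c
  have hgm : g.Monic := ((monic_X_sub_C c).pow _).of_mul_monic_left (hg ▸ hm)
  have hg0 : g.coeff 0 ≠ 0 := fun h => h0 (by rw [hg, mul_coeff_zero, h, mul_zero])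
  refine ⟨g, hg, hgm, hg0, ?_, fun h => hnd (dvd_iff_isRoot.2 h), ?_⟩
  · generalize f.rootMultiplicity c = r at hg hr
    obtain rfl | rfl : r = 0 ∨ r = 1 := by omega
    · rw [pow_zero, one_mul] at hg
      rw [← hg]
      exact hd
    · rw [pow_one] at hg
      refine mul_left_cancel₀ (X_sub_C_ne_zero c) ?_
      rw [hg, dualPoly_mul, dual_linear hc] at hd
      exact hd
  · conv_rhs => rw [hg, ((monic_X_sub_C c).pow _).natDegree_mul hgm, natDegree_pow, natDegree_X_sub_C, mul_one]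

/-- Whether a root occurs, and then its sign. -/
noncomputable def rootOpt (f : F[X]) (c : F) (s : Bool) : Option Bool :=
  if f.rootMultiplicity c = 0 then none else some s

/-- Number of roots recorded. -/
def optN : Option Bool → ℕ
  | none => 0
  | some _ => 1

theorem card_VS_simple (h2 : (2 : F) ≠ 0) (a : ℕ) :
    Nat.card {v : VS F 2 a // Simple1 v.1.1.1.1 v.1.2} ≤ cB (Fintype.card F) a := by
  classical
  haveI := fun a => finite_DP (F := F) a
  have hne : (1 : F) ≠ -1 := fun h => h2 (by linear_combination h)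
  let T : Option Bool × Option Bool → Type u := fun t =>
    {g : G0 F (a - (optN t.1 + optN t.2)) // optN t.1 + optN t.2 ≤ a}
  have key : ∀ v : {v : VS F 2 a // Simple1 v.1.1.1.1 v.1.2},
      ∃ g : T (rootOpt v.1.1.1.1.1 1 v.1.1.2.1, rootOpt v.1.1.1.1.1 (-1) v.1.1.2.2),
        v.1.1.1.1.1 = (X - C 1) ^ v.1.1.1.1.1.rootMultiplicity 1 *
          ((X - C (-1)) ^ v.1.1.1.1.1.rootMultiplicity (-1) * g.1.1.1.1.1) := by
    rintro ⟨⟨⟨⟨⟨f, hm, h0⟩, hdeg⟩, s⟩, hval⟩, hr1, hr2⟩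
    simp only at hr1 hr2 hdeg ⊢
    have hdual : dualPoly (RingHom.id F) f = f := hval.1
    obtain ⟨g₁, e1, m1, z1, d1, v1, n1⟩ := exists_remove hm h0 hdual (one_mul 1) hr1
    have hrm : g₁.rootMultiplicity (-1) = f.rootMultiplicity (-1) := by
      conv_rhs => rw [e1]
      rw [rootMultiplicity_mul (((monic_X_sub_C (1 : F)).pow _).mul m1).ne_zero,
        rootMultiplicity_eq_zero (p := (X - C (1 : F)) ^ _) (fun h => hne (by
          rw [IsRoot, eval_pow, eval_sub, eval_X, eval_C] at h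
          linear_combination -(pow_eq_zero_iff'.1 h).1)),
        zero_add]
    obtain ⟨g₂, e2, m2, z2, d2, v2, n2⟩ := exists_remove m1 z1 d1 (show (-1 : F) * -1 = 1 by ring) (hrm ▸ hr2)
    have v1' : g₂.eval 1 ≠ 0 := fun h => v1 (by rw [e2, eval_mul, h, mul_zero])
    have hN : ∀ (c : F) (b : Bool), f.rootMultiplicity c ≤ 1 →
        optN (rootOpt f c b) = f.rootMultiplicity c := by
      intro c b hc
      unfold rootOpt
      split_ifs with h
      · rw [h]; rfl
      · show 1 = _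
        omega
    refine ⟨⟨⟨⟨⟨⟨g₂, m2, z2⟩, ?_⟩, d2⟩, v1', v2⟩, ?_⟩, ?_⟩
    · rw [hN _ _ hr1, hN _ _ hr2]
      show g₂.natDegree = _
      omega
    · rw [hN _ _ hr1, hN _ _ hr2]
      omega
    · show f = (X - C 1) ^ f.rootMultiplicity 1 * ((X - C (-1)) ^ f.rootMultiplicity (-1) * g₂)
      have e3 := e2
      rw [hrm] at e3
      rw [← e3]
      exact e1
  choose g hg using key
  haveI : ∀ t, Finite (T t) := fun t => Subtype.finite
  refine (Nat.card_le_card_of_injective (fun v => (⟨_, g v⟩ : Σ t, T t)) fun v w h => ?_).trans ?_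
  · have hp : (rootOpt v.1.1.1.1.1 1 v.1.1.2.1, rootOpt v.1.1.1.1.1 (-1) v.1.1.2.2) =
        (rootOpt w.1.1.1.1.1 1 w.1.1.2.1, rootOpt w.1.1.1.1.1 (-1) w.1.1.2.2) := congrArg Sigma.fst h
    have hgg : ((g v).1.1.1.1.1 : F[X]) = (g w).1.1.1.1.1 := congrArg (fun z : Σ t, T t => z.2.1.1.1.1.1) h
    have hrm : ∀ (f f' : F[X]) (c : F) (b b' : Bool), f.rootMultiplicity c ≤ 1 → f'.rootMultiplicity c ≤ 1 →
        (b = true → f.eval c = 0) → (b' = true → f'.eval c = 0) → f ≠ 0 → f' ≠ 0 →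
        rootOpt f c b = rootOpt f' c b' → f.rootMultiplicity c = f'.rootMultiplicity c ∧ b = b' := by
      intro f f' c b b' l l' hb hb' hf hf' e
      unfold rootOpt at e
      split_ifs at e with i1 i2 i2
      · refine ⟨by rw [i1, i2], ?_⟩
        have q1 : ¬ b = true := fun hbt => absurd ((rootMultiplicity_pos hf).2 (hb hbt)) (by omega)
        have q2 : ¬ b' = true := fun hbt => absurd ((rootMultiplicity_pos hf').2 (hb' hbt)) (by omega)
        rw [Bool.eq_false_iff.2 q1, Bool.eq_false_iff.2 q2]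
      · exact ⟨by omega, Option.some.inj e⟩
    simp only [Prod.mk.injEq] at hp
    obtain ⟨a1, b1⟩ := hrm _ _ 1 _ _ v.2.1 w.2.1 v.1.2.2.2.1 w.1.2.2.2.1 v.1.1.1.1.2.1.ne_zero
      w.1.1.1.1.2.1.ne_zero hp.1
    obtain ⟨a2, b2⟩ := hrm _ _ (-1) _ _ v.2.2 w.2.2 v.1.2.2.2.2 w.1.2.2.2.2 v.1.1.1.1.2.1.ne_zero
      w.1.1.1.1.2.1.ne_zero hp.2
    have hf : v.1.1.1.1.1 = w.1.1.1.1.1 := by rw [hg v, hg w, a1, a2, hgg]
    exact Subtype.ext (Subtype.ext (Prod.ext (Subtype.ext (Subtype.ext hf)) (Prod.ext b1 b2)))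
  · rw [Nat.card_sigma]
    have hT : ∀ t, Nat.card (T t) ≤
        if optN t.1 + optN t.2 ≤ a then cP (Fintype.card F) (a - (optN t.1 + optN t.2)) else 0 := by
      intro t
      split_ifs with h
      · exact (Nat.card_le_card_of_injective _ Subtype.val_injective).trans (card_G0 h2 _)
      · haveI : IsEmpty (T t) := ⟨fun x => h x.2⟩
        simp
    refine (Finset.sum_le_sum fun t _ => hT t).trans (le_of_eq ?_)
    simp only [Fintype.sum_prod_type, Fintype.sum_option, Fintype.sum_bool, optN, cB, zero_add, add_zero,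
      Nat.zero_le, if_true, Nat.sub_zero, show (1 : ℕ) + 1 = 2 from rfl]
    by_cases i1 : 1 ≤ a
    · by_cases i2 : 2 ≤ a
      · simp only [i1, i2, if_true]
        ring
      · simp only [i1, i2, if_true, if_false]
        ring
    · simp only [i1, show ¬ 2 ≤ a by omega, if_false, add_zero]

theorem conv_shift {c d : ℕ → ℕ} {q : ℕ} (hc : ∀ a, c (a + 2) = q * c a + d a) (f : ℕ → ℕ) (i : ℕ) (hi : 0 < i)
    (K : ℕ) :
    ∑ a ∈ Finset.range ((K + 2 * i) / i + 1), c a * f (K + 2 * i - i * a) =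
      c 0 * f (K + 2 * i) + c 1 * f (K + i) + q * (∑ a ∈ Finset.range (K / i + 1), c a * f (K - i * a)) +
        ∑ a ∈ Finset.range (K / i + 1), d a * f (K - i * a) := by
  rw [Nat.add_mul_div_right _ _ hi, show K / i + 2 + 1 = K / i + 1 + 1 + 1 by ring, Finset.sum_range_succ',
    Finset.sum_range_succ', Finset.mul_sum, mul_zero, Nat.sub_zero, zero_add, mul_one,
    show K + 2 * i - i = K + i by omega]
  have e : ∀ a, c (a + 1 + 1) * f (K + 2 * i - i * (a + 1 + 1)) = q * (c a * f (K - i * a)) + d a * f (K - i * a) := by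
    intro a
    rw [show K + 2 * i - i * (a + 1 + 1) = K - i * a by rw [show i * (a + 1 + 1) = i * a + 2 * i by ring]; omega,
      hc]
    ring
  simp only [e, Finset.sum_add_distrib]
  ring

theorem cntW_two_rec (w : ℕ → ℕ) (K : ℕ) : cntW 3 w 2 (K + 4) = w (K + 4) + 3 * cntW 3 w 2 K := by
  have hc : ∀ a, cwS 3 (Nat.succ 2) (a + 2) = 3 * cwS 3 (Nat.succ 2) a + (fun _ => 0) a := by
    intro a
    simp only [cwS, cO, show ¬ Even (Nat.succ 2) by decide, if_false, Nat.even_add, even_two, iff_true]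
    split_ifs
    · rw [show (a + 2) / 2 = a / 2 + 1 by omega, pow_succ]
      ring
    · ring
  show ∑ a ∈ Finset.range ((K + 2 * 2) / 2 + 1), cwS 3 (Nat.succ 2) a * w (K + 2 * 2 - 2 * a) = _
  rw [conv_shift hc w 2 two_pos K]
  simp [cwS, cO, show ¬ Even 3 by decide, cntW]

theorem cntW_three_rec (w : ℕ → ℕ) (K : ℕ) : cntW 3 w 3 (K + 12) = cntW 3 w 2 (K + 12) + 4 * cntW 3 w 2 (K + 9) +
    6 * cntW 3 w 2 (K + 6) + 4 * cntW 3 w 2 (K + 3) + cntW 3 w 2 K + 3 * cntW 3 w 3 (K + 6) := by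
  have hw : ∀ a, cwS 3 (Nat.succ 3) a = cE 3 a := fun a => by rw [cwS, if_pos (by decide)]
  have hc : ∀ a, cE 3 (a + 2) = 3 * cE 3 a + (fun a => Nat.choose 4 (a + 2)) a := fun a => by rw [cE]
  show ∑ a ∈ Finset.range ((K + 6 + 2 * 3) / 3 + 1), cwS 3 (Nat.succ 3) a * cntW 3 w 2 (K + 6 + 2 * 3 - 3 * a) = _
  simp only [hw]
  rw [conv_shift hc (cntW 3 w 2) 3 three_pos (K + 6)]
  have hd : ∑ a ∈ Finset.range ((K + 6) / 3 + 1), Nat.choose 4 (a + 2) * cntW 3 w 2 (K + 6 - 3 * a) =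
      6 * cntW 3 w 2 (K + 6) + 4 * cntW 3 w 2 (K + 3) + cntW 3 w 2 K := by
    rw [← Finset.sum_subset (Finset.range_mono (show 3 ≤ (K + 6) / 3 + 1 by omega)) fun a _ ha => by
      rw [Nat.choose_eq_zero_of_lt (by rw [Finset.mem_range] at ha; omega), zero_mul]]
    simp [Finset.sum_range_succ, Nat.choose]
  have hG : cntW 3 w 3 (K + 6) = ∑ a ∈ Finset.range ((K + 6) / 3 + 1), cE 3 a * cntW 3 w 2 (K + 6 - 3 * a) := by
    rw [cntW]
    simp only [hw]
  rw [hd, hG, cE, cE, show K + 6 + 2 * 3 = K + 12 by ring, show K + 6 + 3 = K + 9 by ring]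
  ring

theorem cB_three (k : ℕ) : cB 3 (2 * (k + 3)) = 28 * 3 ^ k ∧ cB 3 (2 * (k + 3) + 1) = 16 * 3 ^ (k + 1) := by
  have he : ∀ j, cP 3 (2 * j + 4) = 4 * 3 ^ j := fun j => by
    show (if Even (2 * j + 1 + 3) then (3 - 1) ^ 2 * 3 ^ ((2 * j + 1 - 1) / 2) else 0) = _
    rw [if_pos ⟨j + 2, by ring⟩, show (2 * j + 1 - 1) / 2 = j by omega]
    norm_num
  have ho : ∀ j, cP 3 (2 * j + 3) = 0 := fun j => by
    rw [cP, if_neg (Nat.not_even_iff_odd.2 ⟨j + 1, by ring⟩)]
  constructor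
  · rw [cB, if_pos (by omega), if_pos (by omega), show 2 * (k + 3) - 1 = 2 * (k + 1) + 3 by omega,
      show 2 * (k + 3) - 2 = 2 * k + 4 by omega, show 2 * (k + 3) = 2 * (k + 1) + 4 by ring, he, ho, he, pow_succ]
    ring
  · rw [cB, if_pos (by omega), if_pos (by omega), show 2 * (k + 3) + 1 - 1 = 2 * (k + 1) + 4 by omega,
      show 2 * (k + 3) + 1 - 2 = 2 * (k + 1) + 3 by omega, show 2 * (k + 3) + 1 = 2 * (k + 2) + 3 by ring, he, ho, ho]
    ring

set_option maxHeartbeats 1000000 in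
theorem cntB_two_le : ∀ k, 7 ≤ k →
    100 * cntW 3 (cB 3) 2 (2 * k) ≤ 158 * 3 ^ k ∧ 100 * cntW 3 (cB 3) 2 (2 * k + 1) ≤ 269 * 3 ^ k := by
  intro k
  induction k using Nat.strong_induction_on with
  | _ k ih =>
    intro hk
    by_cases hk9 : k < 9
    · interval_cases k <;> decide +kernel
    · obtain ⟨j, rfl⟩ : ∃ j, k = j + 2 := ⟨k - 2, by omega⟩
      obtain ⟨i1, i2⟩ := ih j (by omega) (by omega)
      obtain ⟨l, hl⟩ : ∃ l, j + 2 = l + 3 := ⟨j - 1, by omega⟩
      obtain ⟨b1, b2⟩ := cB_three l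
      have ej : 3 ^ (j + 2) = 27 * 3 ^ l := by rw [hl, pow_add]; ring
      have ej' : 9 * 3 ^ j = 27 * 3 ^ l := by rw [← ej, pow_add]; ring
      rw [show 2 * (j + 2) = 2 * j + 4 by ring, show 2 * j + 4 + 1 = 2 * j + 1 + 4 by ring, cntW_two_rec,
        cntW_two_rec, show 2 * j + 1 + 4 = 2 * (l + 3) + 1 by omega, show 2 * j + 4 = 2 * (l + 3) by omega,
        b1, b2, ej, pow_succ]
      omega

set_option maxHeartbeats 1000000 in
theorem cntB_three_le : ∀ k,
    100 * cntW 3 (cB 3) 3 (2 * k) ≤ 365 * 3 ^ k ∧ 100 * cntW 3 (cB 3) 3 (2 * k + 1) ≤ 623 * 3 ^ k := by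
  intro k
  induction k using Nat.strong_induction_on with
  | _ k ih =>
    by_cases hk : k < 14
    · interval_cases k <;> decide +kernel
    · obtain ⟨j, rfl⟩ : ∃ j, k = j + 6 := ⟨k - 6, by omega⟩
      obtain ⟨i1, i2⟩ := ih (j + 3) (by omega)
      have g : ∀ t, 7 ≤ j + t → 100 * cntW 3 (cB 3) 2 (2 * (j + t)) ≤ 158 * 3 ^ (j + t) ∧
          100 * cntW 3 (cB 3) 2 (2 * (j + t) + 1) ≤ 269 * 3 ^ (j + t) := fun t ht => cntB_two_le _ ht
      obtain ⟨a0, c0⟩ := g 0 (by omega)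
      obtain ⟨a1, c1⟩ := g 1 (by omega)
      obtain ⟨a2, c2⟩ := g 2 (by omega)
      obtain ⟨a3, c3⟩ := g 3 (by omega)
      obtain ⟨a4, c4⟩ := g 4 (by omega)
      obtain ⟨a5, c5⟩ := g 5 (by omega)
      obtain ⟨a6, c6⟩ := g 6 (by omega)
      rw [show 2 * (j + 6) = 2 * j + 12 by ring, show 2 * j + 12 + 1 = 2 * j + 1 + 12 by ring, cntW_three_rec,
        cntW_three_rec]
      simp only [show 2 * j + 9 = 2 * (j + 4) + 1 by omega, show 2 * j + 3 = 2 * (j + 1) + 1 by omega,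
        show 2 * j + 1 + 12 = 2 * (j + 6) + 1 by omega, show 2 * j + 1 + 9 = 2 * (j + 5) by omega,
        show 2 * j + 1 + 6 = 2 * (j + 3) + 1 by omega, show 2 * j + 1 + 3 = 2 * (j + 2) by omega,
        show 2 * j + 12 = 2 * (j + 6) by omega, show 2 * j + 6 = 2 * (j + 3) by omega]
      simp only [pow_add, add_zero] at a0 a1 a2 a3 a4 a5 a6 c0 c1 c2 c3 c4 c5 c6 i1 i2 ⊢
      generalize 3 ^ j = y at *
      omega

theorem cE_five_le (q : ℕ) (hq : 5 ≤ q) : ∀ k,
    (cE q (2 * k) : ℚ) ≤ 56 / 25 * q ^ k ∧ (cE q (2 * k + 1) : ℚ) ≤ 24 / 5 * q ^ k := by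
  have hq' : (5 : ℚ) ≤ q := by exact_mod_cast hq
  intro k
  induction k with
  | zero => norm_num [cE]
  | succ k ih =>
    obtain ⟨h1, h2⟩ := ih
    rcases k with _ | _ | k
    · norm_num [cE, Nat.choose]
      constructor <;> nlinarith
    · norm_num [cE, Nat.choose] at h2 ⊢
      constructor <;> nlinarith
    · rw [show 2 * (k + 2 + 1) = 2 * (k + 2) + 2 by ring, show 2 * (k + 2) + 2 + 1 = 2 * (k + 2) + 1 + 2 by ring,
        cE, cE, Nat.choose_eq_zero_of_lt (by omega), Nat.choose_eq_zero_of_lt (by omega), add_zero, add_zero]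
      push_cast
      constructor <;> rw [pow_succ (q : ℚ) (k + 2)] <;> nlinarith

set_option maxHeartbeats 1000000 in
/-- The total count for `q = 3`, with and without the condition at the exponent one. -/
theorem cntW_three_bound (m k : ℕ) (hm : 3 ≤ m) :
    (cntW 3 (cE 3) m (2 * k + 1) : ℚ) ≤ 7 / 4 * (1632 / 100) * 3 ^ k ∧
      (cntW 3 (cB 3) m (2 * k + 1) : ℚ) ≤ 7 / 4 * (562 / 100) * 3 ^ k := by
  have hρ : (1 : ℚ) / ((3 : ℕ) : ℚ) ≤ 1 / 3 := le_of_eq (by norm_num)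
  constructor
  · obtain ⟨j, rfl⟩ : ∃ j, m = 1 + j := ⟨m - 1, by omega⟩
    have hb := cntW_le_iterB 3 (ρ := 1 / 3) three_pos hρ (by norm_num) (cE 3) le_rfl
      (p := (28 / 9, 16 / 3)) (by norm_num) (fun k => by rw [cntW, cntW]; exact cE_bounds 3 le_rfl k) j k
    have ht := iterB_tail (ρ := 1 / 3) (by norm_num) le_rfl (7 / 4) (1632 / 100) (by norm_num) (by norm_num)
      (by norm_num) 5 1 9 le_rfl le_rfl rfl (p := (28 / 9, 16 / 3)) (by norm_num)
      (by norm_num [iterB, stepB, Nat.even_iff]) j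
    refine hb.2.trans ?_
    push_cast
    exact mul_le_mul_of_nonneg_right ht.2 (by positivity)
  · obtain ⟨j, rfl⟩ : ∃ j, m = 3 + j := ⟨m - 3, by omega⟩
    have h0 : ∀ k, (cntW 3 (cB 3) 3 (2 * k) : ℚ) ≤ 365 / 100 * ((3 : ℕ) : ℚ) ^ k ∧
        (cntW 3 (cB 3) 3 (2 * k + 1) : ℚ) ≤ 623 / 100 * ((3 : ℕ) : ℚ) ^ k := fun k => by
      obtain ⟨a, b⟩ := cntB_three_le k
      have a' := (Nat.cast_le (α := ℚ)).2 a
      have b' := (Nat.cast_le (α := ℚ)).2 b
      push_cast at a' b' ⊢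
      constructor <;> linarith
    have hb := cntW_le_iterB 3 (ρ := 1 / 3) three_pos hρ (by norm_num) (cB 3) (show 1 ≤ 3 by norm_num)
      (p := (365 / 100, 623 / 100)) (by norm_num) h0 j k
    have ht := iterB_tail (ρ := 1 / 3) (by norm_num) le_rfl (7 / 4) (562 / 100) (by norm_num) (by norm_num)
      (by norm_num) 5 3 7 le_rfl (by norm_num) rfl (p := (365 / 100, 623 / 100)) (by norm_num)
      (by norm_num [iterB, stepB, Nat.even_iff]) j
    refine hb.2.trans ?_
    push_cast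
    exact mul_le_mul_of_nonneg_right ht.2 (by positivity)

set_option maxHeartbeats 1000000 in
/-- The total count for `q ≥ 5`. -/
theorem cntW_five_bound (q : ℕ) (hq : 5 ≤ q) (m k : ℕ) (hm : 1 ≤ m) :
    (cntW q (cE q) m (2 * k + 1) : ℚ) ≤ 9 / 4 * (449 / 100) * q ^ k := by
  have hρ : (1 : ℚ) / (q : ℚ) ≤ 1 / 5 := one_div_le_one_div_of_le (by norm_num) (by exact_mod_cast hq)
  obtain ⟨j, rfl⟩ : ∃ j, m = 1 + j := ⟨m - 1, by omega⟩
  have hb := cntW_le_iterB q (ρ := 1 / 5) (by omega) hρ (by norm_num) (cE q) le_rfl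
    (p := (56 / 25, 24 / 5)) (by norm_num) (fun k => by rw [cntW, cntW]; exact cE_five_le q hq k) j k
  have ht := iterB_tail (ρ := 1 / 5) (by norm_num) (by norm_num) (9 / 4) (449 / 100) (by norm_num) (by norm_num)
    (by norm_num) 5 1 9 le_rfl le_rfl rfl (p := (56 / 25, 24 / 5)) (by norm_num)
    (by norm_num [iterB, stepB, Nat.even_iff]) j
  exact hb.2.trans (mul_le_mul_of_nonneg_right ht.2 (by positivity))

end Cfsg.Agent.ClassNum
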