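import Cfsg.Agent.Lib.ClassNum.Data

/-!
Tuples of polynomials and the count of those with trivial determinant.
-/

set_option autoImplicit false
set_option linter.unusedSectionVars false

namespace Cfsg.Agent.ClassNum

open Polynomial S2478

universe u

variable {F : Type u} [Field F]

/-- The gcd of `q - 1` and the indices present. -/
def eD {m : ℕ} (q : ℕ) (d : Fin m → ℕ) : ℕ :=
  Nat.gcd (q - 1) ((Finset.univ.filter fun j => d j ≠ 0).gcd fun j => (j : ℕ) + 1)

theorem eD_dvd_left {m : ℕ} (q : ℕ) (d : Fin m → ℕ) : eD q d ∣ q - 1 := Nat.gcd_dvd_left _ _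

theorem eD_dvd {m : ℕ} (q : ℕ) (d : Fin m → ℕ) {j : Fin m} (hj : d j ≠ 0) : eD q d ∣ (j : ℕ) + 1 :=
  (Nat.gcd_dvd_right _ _).trans
    (Finset.gcd_dvd (s := Finset.univ.filter fun j => d j ≠ 0) (f := fun j : Fin m => (j : ℕ) + 1)
      (Finset.mem_filter.2 ⟨Finset.mem_univ j, hj⟩))

theorem dvd_eD {m : ℕ} {q : ℕ} {d : Fin m → ℕ} {a : ℕ} (h0 : a ∣ q - 1)
    (h : ∀ j, d j ≠ 0 → a ∣ (j : ℕ) + 1) : a ∣ eD q d :=
  Nat.dvd_gcd h0 (Finset.dvd_gcd fun j hj => h j (Finset.mem_filter.1 hj).2)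

theorem eD_pos {m : ℕ} {q : ℕ} (hq : 2 ≤ q) (d : Fin m → ℕ) : 0 < eD q d :=
  Nat.gcd_pos_of_pos_left _ (by omega)

theorem eD_dvd_sum {m : ℕ} (q : ℕ) (d : Fin m → ℕ) (w : Fin m → ℕ) (hw : ∀ j, d j = 0 → w j = 0) :
    eD q d ∣ ∑ j : Fin m, ((j : ℕ) + 1) * w j :=
  Finset.dvd_sum fun j _ => by
    by_cases h : d j = 0
    · simp [hw j h]
    · exact (eD_dvd q d h).mul_right _

theorem pow_eD_mem [Fintype F] {m : ℕ} {d : Fin m → ℕ} (H : Subgroup Fˣ)
    (h : ∀ j, d j ≠ 0 → ∀ y : Fˣ, y ^ ((j : ℕ) + 1) ∈ H) (y : Fˣ) :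
    y ^ eD (Fintype.card F) d ∈ H := by
  classical
  rw [← QuotientGroup.eq_one_iff, QuotientGroup.mk_pow, ← orderOf_dvd_iff_pow_eq_one]
  refine dvd_eD ?_ fun j hj => ?_
  · refine (orderOf_map_dvd (QuotientGroup.mk' H) y).trans ?_
    rw [← Fintype.card_units]
    exact orderOf_dvd_card
  · rw [orderOf_dvd_iff_pow_eq_one, ← QuotientGroup.mk_pow, QuotientGroup.eq_one_iff]
    exact h j hj y

/-- The degrees. -/
noncomputable def dg {m k : ℕ} (T : S F m k) : Fin m → ℕ := fun j => (T.1 j).1.natDegree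

theorem W_ne_zero (f : Good F) : W f.1 ≠ 0 :=
  mul_ne_zero (pow_ne_zero _ (neg_ne_zero.2 one_ne_zero)) f.2.2

/-- The sign-normalised constant term as a unit. -/
noncomputable def WU (f : Good F) : Fˣ := Units.mk0 (W f.1) (W_ne_zero f)

/-- The determinant attached to a tuple. -/
noncomputable def DT {m k : ℕ} (T : S F m k) : Fˣ := ∏ j, WU (T.1 j) ^ ((j : ℕ) + 1)

/-- Scale the constant term. -/
noncomputable def scale (u : Fˣ) (f : Good F) : Good F :=
  if hd : f.1.natDegree = 0 then f else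
    ⟨f.1 + C (((u : F) - 1) * f.1.coeff 0), by
      refine ⟨f.2.1.add_of_left (lt_of_le_of_lt degree_C_le ?_), ?_⟩
      · exact natDegree_pos_iff_degree_pos.1 (Nat.pos_of_ne_zero hd)
      · rw [coeff_add, coeff_C_zero, sub_mul, one_mul, add_sub_cancel]
        exact mul_ne_zero u.ne_zero f.2.2⟩

theorem natDegree_scale (u : Fˣ) (f : Good F) : (scale u f).1.natDegree = f.1.natDegree := by
  unfold scale
  split_ifs with hd
  · rfl
  · exact natDegree_add_C

theorem WU_scale (u : Fˣ) (f : Good F) :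
    WU (scale u f) = if f.1.natDegree = 0 then WU f else u * WU f := by
  split_ifs with hd
  · rw [scale, dif_pos hd]
  · refine Units.ext ?_
    show W (scale u f).1 = (u : F) * W f.1
    rw [W, W, natDegree_scale, scale, dif_neg hd]
    simp only [coeff_add, coeff_C_zero]
    ring

theorem scale_injective (u : Fˣ) {f f' : Good F} (h : scale u f = scale u f') : f = f' := by
  have hd : f.1.natDegree = f'.1.natDegree := by
    rw [← natDegree_scale u f, h, natDegree_scale]
  by_cases h0 : f.1.natDegree = 0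
  · rwa [scale, dif_pos h0, scale, dif_pos (hd ▸ h0)] at h
  · rw [scale, dif_neg h0, scale, dif_neg (hd ▸ h0), Subtype.mk.injEq] at h
    have hc : f.1.coeff 0 = f'.1.coeff 0 := by
      have h' := congrArg (fun g => Polynomial.coeff g 0) h
      simp only [coeff_add, coeff_C_zero, sub_mul, one_mul, add_sub_cancel] at h'
      exact mul_left_cancel₀ u.ne_zero h'
    rw [hc] at h
    exact Subtype.ext (add_right_cancel h)

/-- The effect of scaling on the determinant. -/
noncomputable def chi {m : ℕ} (d : Fin m → ℕ) : (Fin m → Fˣ) →* Fˣ where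
  toFun u := ∏ j, if d j = 0 then 1 else u j ^ ((j : ℕ) + 1)
  map_one' := Finset.prod_eq_one fun j _ => by simp
  map_mul' u v := by
    rw [← Finset.prod_mul_distrib]
    exact Finset.prod_congr rfl fun j _ => by split_ifs <;> simp [mul_pow]

theorem pow_eD_mem_chi [Fintype F] {m : ℕ} (d : Fin m → ℕ) (y : Fˣ) :
    y ^ eD (Fintype.card F) d ∈ (chi (F := F) d).range := by
  classical
  refine pow_eD_mem _ (fun j hj z => MonoidHom.mem_range.2 ⟨Pi.mulSingle (M := fun _ => Fˣ) j z, ?_⟩) y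
  show (∏ i, if d i = 0 then 1 else (Pi.mulSingle (M := fun _ => Fˣ) j z i) ^ ((i : ℕ) + 1)) = _
  rw [Finset.prod_eq_single j]
  · rw [if_neg hj, Pi.mulSingle_eq_same (M := fun _ => Fˣ)]
  · intro i _ hi
    rw [Pi.mulSingle_eq_of_ne (M := fun _ => Fˣ) hi, one_pow, ite_self]
  · simp

/-- Act on a tuple. -/
noncomputable def smulT {m k : ℕ} (u : Fin m → Fˣ) (T : S F m k) : S F m k :=
  ⟨fun j => scale (u j) (T.1 j), by simp only [natDegree_scale]; exact T.2⟩

theorem dg_smulT {m k : ℕ} (u : Fin m → Fˣ) (T : S F m k) : dg (smulT u T) = dg T :=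
  funext fun j => natDegree_scale _ _

theorem DT_smulT {m k : ℕ} (u : Fin m → Fˣ) (T : S F m k) : DT (smulT u T) = chi (dg T) u * DT T := by
  show (∏ j, WU (scale (u j) (T.1 j)) ^ ((j : ℕ) + 1)) =
    (∏ j, if dg T j = 0 then 1 else u j ^ ((j : ℕ) + 1)) * ∏ j, WU (T.1 j) ^ ((j : ℕ) + 1)
  rw [← Finset.prod_mul_distrib]
  refine Finset.prod_congr rfl fun j _ => ?_
  rw [WU_scale]
  simp only [dg]
  by_cases h : (T.1 j).1.natDegree = 0
  · simp [h]
  · simp [h, mul_pow]

variable [Fintype F]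

/-- The splitting bound of a tuple. -/
noncomputable def eT {m k : ℕ} (T : S F m k) : ℕ := eD (Fintype.card F) (dg T)

theorem eT_pos {m k : ℕ} (T : S F m k) : 0 < eT T := eD_pos Fintype.one_lt_card _

noncomputable instance instFintypeS (m k : ℕ) : Fintype (S F m k) :=
  haveI := (card_S (F := F) m k).2
  Fintype.ofFinite _

theorem two_scale (m k : ℕ) [DecidableEq Fˣ] :
    (Fintype.card F - 1) * ∑ T ∈ (Finset.univ : Finset (S F m k)).filter (fun T => DT T = 1), eT T ≤
      ∑ T : S F m k, eT T ^ 2 := by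
  classical
  let L := Σ T : {T : S F m k // DT T = 1},
    (Fin (eT T.1) × Fin (eT T.1)) × (powMonoidHom (eT T.1) : Fˣ →* Fˣ).range
  let R := Σ T : S F m k, Fin (eT T) × Fin (eT T)
  let u : L → (Fin m → Fˣ) := fun x => Function.invFun (chi (dg x.1.1)) (x.2.2 : Fˣ)
  have hu : ∀ x : L, chi (dg x.1.1) (u x) = (x.2.2 : Fˣ) := fun x => by
    obtain ⟨z, hz⟩ := x.2.2.2
    obtain ⟨v, hv⟩ := pow_eD_mem_chi (dg x.1.1) z
    exact Function.invFun_eq ⟨v, hv.trans hz⟩
  have he : ∀ x : L, eT x.1.1 = eT (smulT (u x) x.1.1) := fun x => by rw [eT, eT, dg_smulT]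
  let f : L → R := fun x =>
    ⟨smulT (u x) x.1.1, (Fin.cast (he x) x.2.1.1, Fin.cast (he x) x.2.1.2)⟩
  have hf : Function.Injective f := by
    intro x y h
    obtain ⟨⟨T, hT⟩, ⟨a, b⟩, z⟩ := x
    obtain ⟨⟨T', hT'⟩, ⟨a', b'⟩, z'⟩ := y
    have h3 := congrArg (fun r : R => (r.1, (r.2.1 : ℕ), (r.2.2 : ℕ))) h
    simp only [f, Fin.val_cast, Prod.mk.injEq] at h3
    obtain ⟨h1, h2, h4⟩ := h3
    have hzz : (z : Fˣ) = z' := by
      have := congrArg DT h1
      rw [DT_smulT, DT_smulT, hT, hT', mul_one, mul_one] at this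
      have hx := hu ⟨⟨T, hT⟩, (a, b), z⟩
      have hy := hu ⟨⟨T', hT'⟩, (a', b'), z'⟩
      dsimp only at hx hy
      rw [← hx, ← hy, this]
    have hdd : dg T = dg T' := by
      have := congrArg dg h1
      rwa [dg_smulT, dg_smulT] at this
    have hee : eT T = eT T' := by rw [eT, eT, hdd]
    have huu : T = T' := by
      simp only [u] at h1
      rw [← hdd, ← hzz] at h1
      refine Subtype.ext (funext fun j => ?_)
      exact scale_injective _ (congrFun (congrArg Subtype.val h1) j)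
    subst huu
    rw [Fin.ext h2, Fin.ext h4, Subtype.ext hzz]
  have hcard := Nat.card_le_card_of_injective f hf
  have hL : Nat.card L = (Fintype.card F - 1) * ∑ T : {T : S F m k // DT T = 1}, eT T.1 := by
    rw [Nat.card_sigma, Finset.mul_sum]
    refine Finset.sum_congr rfl fun T _ => ?_
    rw [Nat.card_prod, Nat.card_prod, Nat.card_fin, IsCyclic.card_powMonoidHom_range, Nat.card_units,
      Nat.card_eq_fintype_card]
    have hd := eD_dvd_left (Fintype.card F) (dg T.1)
    rw [eT, Nat.gcd_eq_right hd, mul_assoc, Nat.mul_div_cancel' hd]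
    ring
  have hR : Nat.card R = ∑ T : S F m k, eT T ^ 2 := by
    rw [Nat.card_sigma]
    exact Finset.sum_congr rfl fun T _ => by rw [Nat.card_prod, Nat.card_fin, pow_two]
  rw [hL, hR] at hcard
  refine le_of_eq_of_le ?_ hcard
  congr 1
  exact (Finset.sum_subtype _ (fun T => by simp) (fun T => eT T))

end Cfsg.Agent.ClassNum
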