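import Cfsg.Agent.Lib.ClassNum.Det
import Cfsg.Agent.Lib.FormTorus.Dual
import Cfsg.Agent.Lib.FormCentral.UnitaryDet

/-!
Non-degenerate cyclic blocks of a unitary transformation and determinants in its centraliser.
-/

set_option autoImplicit false
set_option linter.unusedSectionVars false

namespace Cfsg.Agent.ClassNum

open Polynomial FormsLib FormTorus

universe u

variable {F V : Type u} [Field F] [AddCommGroup V] [Module F V] [FiniteDimensional F V] [Finite F]
  {σ : F →+* F} {B : V →ₛₗ[σ] V →ₗ[F] F} {s : V ≃ₗ[F] V}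

/-- The adjoint relation, with the polynomial on the right. -/
theorem pres_aeval' (hV : IsTraceForm σ 1 B) (hs : Preserves B s) (f : F[X]) (u v : V) :
    B (aeval (en s.symm) (f.map σ) u) v = B u (aeval (en s) f v) := by
  rw [hV.flip v, ← pres_aeval hs f v u, ← hV.flip]

/-- The set of vectors left orthogonal to a subspace. -/
def lperp (B : V →ₛₗ[σ] V →ₗ[F] F) (W : Submodule F V) : Set V := {v | ∀ w ∈ W, B v w = 0}

theorem card_lperp {ε : F} (hV : IsTraceForm σ ε B) (W : Submodule F V) :
    Nat.card (lperp B W) * Nat.card W = Nat.card V := by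
  classical
  haveI : Finite V := Module.finite_of_finite F
  let φ : V →+ (W →ₗ[F] F) :=
    { toFun := fun v => (B v).comp W.subtype
      map_zero' := by simp
      map_add' := fun a b => by simp [LinearMap.add_comp] }
  have hsur : Function.Surjective φ := fun l => by
    obtain ⟨L, hL⟩ := l.exists_extend
    obtain ⟨v, hv⟩ := hV.exists_rep L
    exact ⟨v, by show (B v).comp W.subtype = l; rw [hv, hL]⟩
  haveI : Finite (W →ₗ[F] F) := Finite.of_surjective φ hsur
  have hker : Nat.card φ.ker = Nat.card (lperp B W) := Nat.card_congr (Equiv.subtypeEquivRight fun v =>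
    ⟨fun h w hw => LinearMap.congr_fun (show (B v).comp W.subtype = 0 from h) ⟨w, hw⟩,
      fun h => LinearMap.ext fun w => h w w.2⟩)
  have hW : Nat.card (W →ₗ[F] F) = Nat.card W := by
    rw [Module.natCard_eq_pow_finrank (K := F), Module.natCard_eq_pow_finrank (K := F) (V := W),
      Subspace.dual_finrank_eq]
  rw [← hW, ← hker, ← φ.ker.card_mul_index, AddSubgroup.index_ker,
    AddMonoidHom.range_eq_top.2 hsur, AddSubgroup.card_top]

theorem symm_commute (s : V ≃ₗ[F] V) : Commute (en s.symm) (en s) :=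
  (en_symm_mul s).trans (en_mul_symm s).symm

theorem mul_pow_symm (s : V ≃ₗ[F] V) (N : ℕ) : en s ^ N * en s.symm ^ N = 1 := by
  rw [← (symm_commute s).symm.mul_pow, en_mul_symm, one_pow]

theorem aeval_dual (f : F[X]) :
    aeval (en s) (dualPoly σ f) =
      (σ (f.coeff 0))⁻¹ • (aeval (en s.symm) (f.map σ) * en s ^ (f.map σ).natDegree) := by
  set N := (f.map σ).natDegree with hN
  have h1 := aeval_reflect_mul (en_mul_symm s) (en_symm_mul s) N (f.map σ) le_rfl
  have h2 : aeval (en s) (f.map σ).reverse = aeval (en s.symm) (f.map σ) * en s ^ N := by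
    rw [← h1, mul_assoc, ← (symm_commute s).mul_pow, en_symm_mul, one_pow, mul_one]
    rfl
  rw [dualPoly, map_mul, aeval_C, h2, Algebra.algebraMap_eq_smul_one, mul_smul_comm, mul_one]

theorem ker_dual (f : F[X]) (h0 : f.coeff 0 ≠ 0) :
    LinearMap.ker (aeval (en s) (dualPoly σ f)) =
      (LinearMap.ker (aeval (en s.symm) (f.map σ))) := by
  ext v
  have hc : Commute (aeval (en s.symm) (f.map σ)) (en s ^ (f.map σ).natDegree) :=
    (Algebra.commute_of_mem_adjoin_singleton_of_commute (aeval_mem_adjoin_singleton F (en s.symm))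
      (symm_commute s).symm).symm.pow_right _
  rw [LinearMap.mem_ker, LinearMap.mem_ker, aeval_dual, hc.eq, LinearMap.smul_apply, Module.End.mul_apply,
    smul_eq_zero, or_iff_right (inv_ne_zero ((map_ne_zero σ).2 h0))]
  refine ⟨fun h => ?_, fun h => by rw [h, map_zero]⟩
  have h' := congrArg (en s.symm ^ (f.map σ).natDegree) h
  rwa [map_zero, ← Module.End.mul_apply, ← (symm_commute s).mul_pow, en_symm_mul, one_pow, Module.End.one_apply]
    at h'

theorem card_ker_dual {ε : F} (hV : IsTraceForm σ ε B) (hs : Preserves B s) (f : F[X]) (h0 : f.coeff 0 ≠ 0) :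
    Nat.card (LinearMap.ker (aeval (en s) f)) = Nat.card (LinearMap.ker (aeval (en s) (dualPoly σ f))) := by
  classical
  haveI : Finite V := Module.finite_of_finite F
  rw [ker_dual f h0]
  set g := aeval (en s.symm) (f.map σ)
  have hperp : lperp B (LinearMap.range g) = (LinearMap.ker (aeval (en s) f) : Set V) := by
    ext v
    refine ⟨fun h => hV.nondeg _ fun w => ?_, ?_⟩
    · rw [pres_aeval hs]; exact h _ ⟨w, rfl⟩
    · rintro (h : aeval (en s) f v = 0) _ ⟨w, rfl⟩
      rw [← pres_aeval hs, h, map_zero, LinearMap.zero_apply]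
  have h1 := card_lperp hV (LinearMap.range g)
  rw [hperp] at h1
  have h2 : Nat.card (LinearMap.ker g) * Nat.card (LinearMap.range g) = Nat.card V := by
    rw [Module.natCard_eq_pow_finrank (K := F) (V := LinearMap.ker g),
      Module.natCard_eq_pow_finrank (K := F) (V := LinearMap.range g), ← pow_add, add_comm,
      LinearMap.finrank_range_add_finrank_ker, ← Module.natCard_eq_pow_finrank]
  exact Nat.eq_of_mul_eq_mul_right Nat.card_pos (h1.trans h2.symm)

theorem finrank_ker_dual {ε : F} (hV : IsTraceForm σ ε B) (hs : Preserves B s) (f : F[X]) (h0 : f.coeff 0 ≠ 0) :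
    Module.finrank F (LinearMap.ker (aeval (en s) f)) =
      Module.finrank F (LinearMap.ker (aeval (en s) (dualPoly σ f))) := by
  have h := card_ker_dual hV hs f h0
  rw [Module.natCard_eq_pow_finrank (K := F) (V := LinearMap.ker (aeval (en s) f)),
    Module.natCard_eq_pow_finrank (K := F) (V := LinearMap.ker (aeval (en s) (dualPoly σ f)))] at h
  exact Nat.pow_right_injective Finite.one_lt_card h

theorem lperp_ker_dual (hV : IsTraceForm σ 1 B) (hs : Preserves B s) (f : F[X]) (h0 : f.coeff 0 ≠ 0)
    {x : V} (h : ∀ z ∈ LinearMap.ker (aeval (en s) (dualPoly σ f)), B x z = 0) :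
    x ∈ LinearMap.range (aeval (en s) f) := by
  classical
  haveI : Finite V := Module.finite_of_finite F
  set g := aeval (en s) f
  set K := LinearMap.ker (aeval (en s) (dualPoly σ f))
  have hsub : (LinearMap.range g : Set V) ⊆ lperp B K := by
    rintro _ ⟨w, rfl⟩ z hz
    rw [pres_aeval hs]
    have hz' : z ∈ LinearMap.ker (aeval (en s.symm) (f.map σ)) := by rw [← ker_dual (s := s) f h0]; exact hz
    rw [LinearMap.mem_ker.1 hz', map_zero]
  have heq : (LinearMap.range g : Set V) = lperp B K := by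
    refine Set.eq_of_subset_of_ncard_le hsub ?_ (Set.toFinite _)
    rw [← Nat.card_coe_set_eq, ← Nat.card_coe_set_eq]
    refine le_of_eq (Nat.eq_of_mul_eq_mul_right (Nat.card_pos (α := K)) ?_)
    rw [card_lperp hV K, ← card_ker_dual hV hs f h0]
    show _ = Nat.card (LinearMap.range g) * Nat.card (LinearMap.ker g)
    rw [Module.natCard_eq_pow_finrank (K := F) (V := LinearMap.ker g),
      Module.natCard_eq_pow_finrank (K := F) (V := LinearMap.range g), ← pow_add,
      LinearMap.finrank_range_add_finrank_ker, ← Module.natCard_eq_pow_finrank]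
  exact heq.ge (show x ∈ lperp B K from h)

/-- A vector of height `i` whose top is not higher. -/
theorem exists_height (T : Module.End F V) (p : F[X]) (k : ℕ)
    (hlt : Module.finrank F (LinearMap.ker (aeval T (p ^ (k + 2)))) + Module.finrank F (LinearMap.ker (aeval T (p ^ k))) <
      2 * Module.finrank F (LinearMap.ker (aeval T (p ^ (k + 1))))) :
    ∃ w, aeval T (p ^ (k + 1)) w = 0 ∧ aeval T (p ^ k) w ∉ LinearMap.range (aeval T (p ^ (k + 1))) := by
  classical
  have step : ∀ j, Module.finrank F ((LinearMap.ker (aeval T (p ^ (j + 1)))).map (aeval T (p ^ j))) +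
      Module.finrank F (LinearMap.ker (aeval T (p ^ j))) = Module.finrank F (LinearMap.ker (aeval T (p ^ (j + 1)))) := by
    intro j
    set K := LinearMap.ker (aeval T (p ^ (j + 1)))
    have hle : LinearMap.ker (aeval T (p ^ j)) ≤ K := fun v hv => by
      show aeval T (p ^ (j + 1)) v = 0
      rw [pow_succ', map_mul, Module.End.mul_apply, LinearMap.mem_ker.1 hv, map_zero]
    have h := LinearMap.finrank_range_add_finrank_ker ((aeval T (p ^ j)).domRestrict K)
    rw [LinearMap.range_domRestrict, LinearMap.ker_domRestrict] at h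
    rw [← h]
    congr 1
    exact (LinearEquiv.finrank_eq (Submodule.comapSubtypeEquivOfLe hle)).symm
  by_contra hne
  push Not at hne
  have hsub : (LinearMap.ker (aeval T (p ^ (k + 1)))).map (aeval T (p ^ k)) ≤
      (LinearMap.ker (aeval T (p ^ (k + 1 + 1)))).map (aeval T (p ^ (k + 1))) := by
    rintro _ ⟨w, hw, rfl⟩
    obtain ⟨v, hv⟩ := hne w hw
    refine ⟨v, ?_, hv⟩
    show aeval T (p ^ (k + 1 + 1)) v = 0
    rw [pow_succ', map_mul, Module.End.mul_apply, hv, ← Module.End.mul_apply, ← map_mul, ← pow_succ']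
    exact hw
  have h1 := Submodule.finrank_mono hsub
  have h2 := step k
  have h3 := step (k + 1)
  rw [show k + 1 + 1 = k + 2 from rfl] at h1 h3
  omega

/-- Evaluation at a vector, as an `F`-linear map on polynomials. -/
noncomputable def evAt (T : Module.End F V) (w : V) : F[X] →ₗ[F] V :=
  (LinearMap.applyₗ w).comp (aeval T).toLinearMap

theorem evAt_apply (T : Module.End F V) (w : V) (g : F[X]) : evAt T w g = aeval T g w := rfl

/-- A determinant in the unitary centraliser from a non-degenerate cyclic block. -/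
theorem det_of_block (hV : IsTraceForm σ 1 B) (hs : Preserves B s) (w : V) (f : F[X]) (hf : f.Monic)
    (hker : ∀ g : F[X], aeval (en s) g w = 0 ↔ f ∣ g)
    (hnd : ∀ g : F[X], ¬ f ∣ g → ∃ r : F[X], B (aeval (en s) g w) (aeval (en s) r w) ≠ 0)
    (v : F[X]) (hv : LinearMap.det (mulQ f v) ≠ 0) :
    ∃ c : V ≃ₗ[F] V, (∀ x y, B (c x) (c y) = B x y) ∧ (∀ x, c (s x) = s (c x)) ∧
      LinearMap.det (c : V →ₗ[F] V) * σ (LinearMap.det (mulQ f v)) = LinearMap.det (mulQ f v) := by
  classical
  haveI : Finite V := Module.finite_of_finite F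
  set A := en s with hA
  set W := LinearMap.range (evAt A w) with hW
  have hWinv : ∀ g : F[X], ∀ x ∈ W, aeval A g x ∈ W := by
    rintro g _ ⟨r, rfl⟩
    exact ⟨g * r, by rw [evAt_apply, evAt_apply, map_mul, Module.End.mul_apply]⟩
  have hWs : ∀ x ∈ W, A x ∈ W := fun x hx => by simpa using hWinv X x hx
  have hWsym : ∀ g : F[X], ∀ x ∈ W, aeval (en s.symm) g x ∈ W := by
    have hsymm : ∀ x ∈ W, en s.symm x ∈ W := by
      intro x hx
      obtain ⟨⟨y, hy⟩, he⟩ := Finite.surjective_of_injective
        (f := fun z : W => (⟨A z, hWs z z.2⟩ : W))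
        (fun a b h => Subtype.ext (s.injective (congrArg Subtype.val h))) ⟨x, hx⟩
      have hyx : s y = x := congrArg Subtype.val he
      show s.symm x ∈ W
      rw [← hyx, s.symm_apply_apply]
      exact hy
    intro g
    induction g using Polynomial.induction_on' with
    | add a b ha hb => intro x hx; rw [map_add, LinearMap.add_apply]; exact add_mem (ha x hx) (hb x hx)
    | monomial k a =>
      intro x hx
      rw [aeval_monomial, Algebra.algebraMap_eq_smul_one, smul_mul_assoc, one_mul, LinearMap.smul_apply]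
      refine Submodule.smul_mem _ _ ?_
      induction k generalizing x with
      | zero => simpa using hx
      | succ k ih => rw [pow_succ, Module.End.mul_apply]; exact ih _ (hsymm x hx)
  let orth : Submodule F V :=
    { carrier := {y | ∀ x ∈ W, B x y = 0}
      add_mem' := fun ha hb x hx => by rw [map_add, ha x hx, hb x hx, add_zero]
      zero_mem' := fun x _ => map_zero _
      smul_mem' := fun c y hy x hx => by rw [map_smul, hy x hx, smul_zero] }
  have hdis : W ⊓ orth = ⊥ := by
    rw [Submodule.eq_bot_iff]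
    rintro _ ⟨⟨g, rfl⟩, hg⟩
    by_contra hne
    obtain ⟨r, hr⟩ := hnd g fun hd => hne ((hker g).2 hd)
    refine hr ?_
    have h1 : B (aeval A r w) (aeval A g w) = 0 := hg (aeval A r w) ⟨r, rfl⟩
    rw [hV.flip, h1, map_zero, mul_zero]
  let Bw : W →ₛₗ[σ] W →ₗ[F] F := B.domRestrict₁₂ W W
  have hWt : IsTraceForm σ 1 Bw :=
    ⟨hV.invol, hV.eps, fun a b => hV.flip a b, fun a => hV.trace a, fun a ha =>
      Subtype.ext ((Submodule.eq_bot_iff _).1 hdis _ ⟨a.2, fun x hx => by
        rw [hV.flip, show B (a : V) x = 0 from ha ⟨x, hx⟩, map_zero, mul_zero]⟩)⟩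
  have hc : IsCompl W orth := by
    refine ⟨disjoint_iff.2 hdis, codisjoint_iff.2 (eq_top_iff.2 fun y _ => ?_)⟩
    obtain ⟨x, hx⟩ := hWt.exists_rep ((B y).comp W.subtype)
    refine Submodule.mem_sup.2 ⟨x, x.2, y - x, fun z hz => ?_, add_sub_cancel _ _⟩
    have h1 : B (x : V) z = B y z := LinearMap.congr_fun hx ⟨z, hz⟩
    rw [map_sub, hV.flip y z, hV.flip (x : V) z, h1, sub_self]
  have horth : ∀ y ∈ orth, A y ∈ orth := fun y hy x hx => by
    have h1 : s.symm x ∈ W := by simpa using hWsym X x hx
    rw [← s.apply_symm_apply x]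
    exact (hs _ _).trans (hy _ h1)
  obtain ⟨u, huW, huC, hud⟩ := FormCentral.exists_extend hc ((aeval A v).restrict (hWinv v))
  obtain ⟨T, hTW, hTC, -⟩ :=
    FormCentral.exists_extend hc ((aeval (en s.symm) (v.map σ)).restrict (hWsym (v.map σ)))
  have dec : ∀ x : V, ∃ a ∈ W, ∃ b ∈ orth, a + b = x := fun x =>
    Submodule.mem_sup.1 (hc.sup_eq_top ▸ Submodule.mem_top : x ∈ W ⊔ orth)
  have huW' : ∀ a ∈ W, u a = aeval A v a := fun a ha => huW ⟨a, ha⟩
  have hTW' : ∀ a ∈ W, T a = aeval (en s.symm) (v.map σ) a := fun a ha => hTW ⟨a, ha⟩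
  have hoW : ∀ b ∈ orth, ∀ a ∈ W, B b a = 0 := fun b hb a ha => by
    rw [hV.flip, hb a ha, map_zero, mul_zero]
  have hT : ∀ x y, B (T x) y = B x (u y) := by
    intro x y
    obtain ⟨a, ha, b, hb, rfl⟩ := dec x
    obtain ⟨a', ha', b', hb', rfl⟩ := dec y
    simp only [map_add, LinearMap.add_apply, hTW' a ha, huW' a' ha', hTC b hb, huC b' hb']
    rw [pres_aeval' hV hs, hb' a ha, hb' _ (hWsym _ a ha), hoW b hb a' ha', hoW b hb _ (hWinv v a' ha')]
  have hcomm : Commute u A := LinearMap.ext fun x => by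
    obtain ⟨a, ha, b, hb, rfl⟩ := dec x
    simp only [Module.End.mul_apply, map_add, huW' a ha, huW' _ (hWs a ha), huC b hb, huC _ (horth b hb)]
    congr 1
    exact LinearMap.congr_fun (Algebra.commute_of_mem_adjoin_singleton_of_commute
      (aeval_mem_adjoin_singleton F A) (Commute.refl A)).eq.symm a
  have huT : Commute u T := LinearMap.ext fun x => by
    obtain ⟨a, ha, b, hb, rfl⟩ := dec x
    simp only [Module.End.mul_apply, map_add, hTW' a ha, huW' a ha, huW' _ (hWsym _ a ha),
      hTW' _ (hWinv v a ha), huC b hb, hTC b hb]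
    congr 1
    have h1 : Commute (en s.symm) (aeval A v) :=
      Algebra.commute_of_mem_adjoin_singleton_of_commute (aeval_mem_adjoin_singleton F A) (symm_commute s)
    exact LinearMap.congr_fun (Algebra.commute_of_mem_adjoin_singleton_of_commute
      (aeval_mem_adjoin_singleton F (en s.symm)) h1.symm).eq a
  let e₀ : (F[X] ⧸ F[X] ∙ f) →ₗ[F] W :=
    { toFun := fun x => Quotient.liftOn' x (fun g => (⟨evAt A w g, ⟨g, rfl⟩⟩ : W)) (fun a b hab => by
        rw [Submodule.quotientRel_def, Submodule.mem_span_singleton] at hab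
        obtain ⟨r, hr⟩ := hab
        refine Subtype.ext (sub_eq_zero.1 ?_)
        show evAt A w a - evAt A w b = 0
        rw [← map_sub, evAt_apply, hker, ← hr, smul_eq_mul]
        exact dvd_mul_left _ _)
      map_add' := fun a b => by
        obtain ⟨a, rfl⟩ := Submodule.Quotient.mk_surjective _ a
        obtain ⟨b, rfl⟩ := Submodule.Quotient.mk_surjective _ b
        exact Subtype.ext (map_add (evAt A w) a b)
      map_smul' := fun r a => by
        obtain ⟨a, rfl⟩ := Submodule.Quotient.mk_surjective _ a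
        exact Subtype.ext (map_smul (evAt A w) r a) }
  have hbij : Function.Bijective e₀ := by
    refine ⟨(injective_iff_map_eq_zero _).2 fun x hx => ?_, fun y => ?_⟩
    · obtain ⟨g, rfl⟩ := Submodule.Quotient.mk_surjective _ x
      have h1 : aeval A g w = 0 := congrArg Subtype.val hx
      rw [Submodule.Quotient.mk_eq_zero, Ideal.submodule_span_eq, Ideal.mem_span_singleton]
      exact (hker g).1 h1
    · obtain ⟨_, g, rfl⟩ := y
      exact ⟨Submodule.Quotient.mk g, rfl⟩
  let e := LinearEquiv.ofBijective e₀ hbij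
  have hdet : LinearMap.det u = LinearMap.det (mulQ f v) := by
    rw [hud, ← LinearMap.det_conj (mulQ f v) e]
    congr 1
    refine LinearMap.ext fun y => ?_
    obtain ⟨x, rfl⟩ := e.surjective y
    obtain ⟨g, rfl⟩ := Submodule.Quotient.mk_surjective _ x
    simp only [LinearMap.comp_apply, LinearEquiv.coe_coe, LinearEquiv.symm_apply_apply]
    exact Subtype.ext (show aeval A v (aeval A g w) = aeval A (v • g) w by
      rw [smul_eq_mul, map_mul, Module.End.mul_apply])
  obtain ⟨c, h1, h2, h3⟩ := FormCentral.exists_unitary_of_normal hV (A := A) (fun x y => hs x y) hT hcomm huT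
    (hdet ▸ hv)
  exact ⟨c, h1, h2, hdet ▸ h3⟩

theorem detVal_mul {L : Type*} [Field L] (v P Q : L[X]) (hP : P.Monic) (hQ : Q.Monic) :
    detVal v (P * Q) = detVal v P * detVal v Q := by
  rw [detVal, detVal, detVal, hP.natDegree_mul hQ, pow_add, mul_mul_mul_comm, ← Multiset.prod_map_mul]
  congr 2
  exact Multiset.map_congr rfl fun b _ => by rw [eval_mul, pow_add, mul_mul_mul_comm]

theorem exists_det_mul {p r : F[X]} (hp : Irreducible p) (hpm : p.Monic) (hrm : r.Monic) (hco : IsCoprime p r)
    (d : F) : ∃ v, LinearMap.det (mulQ (p * r) v) = d := by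
  haveI := Fact.mk hp
  obtain ⟨v₀, hv₀⟩ := exists_det_mulQ_pow hp hpm 1 d
  rw [pow_one, pow_one] at hv₀
  obtain ⟨a, b, hab⟩ := hco
  refine ⟨1 + b * r * (v₀ - 1), ?_⟩
  apply (algebraMap F (AlgebraicClosure F)).injective
  rw [map_det_mulQ (hpm.mul hrm), Polynomial.map_mul, detVal_mul _ _ _ (hpm.map _) (hrm.map _),
    ← map_det_mulQ hpm, ← map_det_mulQ hrm, ← map_mul]
  congr 1
  have hcongr : ∀ P v v' : F[X], P ∣ v - v' → LinearMap.det (mulQ P v) = LinearMap.det (mulQ P v') :=
    fun P v v' h => by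
    rw [det_mulQ_eq_norm, det_mulQ_eq_norm, AdjoinRoot.mk_eq_mk.2 h]
  rw [hcongr p (1 + b * r * (v₀ - 1)) v₀ ⟨-(a * (v₀ - 1)), by linear_combination (v₀ - 1) * hab⟩, hv₀,
    hcongr r (1 + b * r * (v₀ - 1)) 1 ⟨b * (v₀ - 1), by ring⟩]
  have h1 : mulQ r (1 : F[X]) = LinearMap.id := LinearMap.ext fun x => one_smul F[X] x
  rw [h1, LinearMap.det_id, mul_one]

omit [AddCommGroup V] [Module F V] [FiniteDimensional F V] [Finite F] in
theorem dualPoly_one : dualPoly σ (1 : F[X]) = 1 := by
  rw [dualPoly, Polynomial.map_one, coeff_one_zero, map_one, inv_one, C_1, mul_one, ← C_1, reverse_C]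

omit [AddCommGroup V] [Module F V] [FiniteDimensional F V] [Finite F] in
theorem irreducible_of_dual (hσ : ∀ a, σ (σ a) = a) {h : F[X]} (hh : Irreducible h) (hm : h.Monic)
    (h0 : h.coeff 0 ≠ 0) : Irreducible (dualPoly σ h) := by
  have h0' : (dualPoly σ h).coeff 0 ≠ 0 := by
    rw [coeff_zero_dualPoly hm h0]; exact inv_ne_zero ((_root_.map_ne_zero σ).2 h0)
  refine ⟨fun hu => ?_, fun a b hab => ?_⟩
  · have h1 := natDegree_eq_zero_of_isUnit hu
    rw [natDegree_dualPoly h0] at h1
    exact hh.natDegree_pos.ne' h1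
  · have ha0 : a.coeff 0 ≠ 0 := fun e => h0' (by rw [hab, mul_coeff_zero, e, zero_mul])
    have hb0 : b.coeff 0 ≠ 0 := fun e => h0' (by rw [hab, mul_coeff_zero, e, mul_zero])
    have hh' : h = dualPoly σ a * dualPoly σ b := by
      rw [← dualPoly_mul, ← hab, dualPoly_dualPoly hσ hm h0]
    have hne : ∀ c : F[X], c.coeff 0 ≠ 0 → c ≠ 0 := fun c hc e => hc (by rw [e, coeff_zero])
    rcases hh.isUnit_or_isUnit hh' with h1 | h1
    · left
      have := natDegree_eq_zero_of_isUnit h1
      rw [natDegree_dualPoly ha0] at this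
      rw [Polynomial.isUnit_iff_degree_eq_zero, degree_eq_natDegree (hne a ha0), this]; rfl
    · right
      have := natDegree_eq_zero_of_isUnit h1
      rw [natDegree_dualPoly hb0] at this
      rw [Polynomial.isUnit_iff_degree_eq_zero, degree_eq_natDegree (hne b hb0), this]; rfl

theorem coprime_to_mul {p a : F[X]} (hp : Irreducible p) (k : ℕ) (g : F[X]) (ha : ¬ p ^ (k + 1) ∣ g)
    (hco : IsCoprime p a) : ∃ h : F[X], p ^ (k + 1) ∣ g * a * h - p ^ k := by
  obtain ⟨j, g', hg', rfl⟩ := WfDvdMonoid.max_power_factor (a₀ := g) (fun h => ha (h ▸ dvd_zero _)) hp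
  have hjk : j ≤ k := by
    by_contra h
    exact ha ((pow_dvd_pow p (show k + 1 ≤ j by omega)).trans (dvd_mul_right _ _))
  obtain ⟨c, e, hce⟩ := (((hp.coprime_iff_not_dvd).2 hg').mul_right hco).pow_left (m := k + 1)
  refine ⟨e * p ^ (k - j), -(c * p ^ k), ?_⟩
  have h1 : p ^ j * p ^ (k - j) = p ^ k := by rw [← pow_add, Nat.add_sub_cancel' hjk]
  linear_combination (g' * a * e) * h1 + p ^ k * hce

/-- **Determinants in unitary centralisers**: an exponent `k + 1` of an irreducible factor gives all
`(k + 1)`-th powers of norm-one scalars. -/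
theorem exists_unitary_det_pow (hV : IsTraceForm σ 1 B) (hσ : σ ≠ RingHom.id F) (hs : Preserves B s)
    {p : F[X]} (hp : Irreducible p) (hpm : p.Monic) (h0 : p.coeff 0 ≠ 0) (k : ℕ)
    (hlt : Module.finrank F (LinearMap.ker (aeval (en s) (p ^ (k + 2)))) +
      Module.finrank F (LinearMap.ker (aeval (en s) (p ^ k))) <
      2 * Module.finrank F (LinearMap.ker (aeval (en s) (p ^ (k + 1))))) {y : F} (hy : y * σ y = 1) :
    ∃ c : V ≃ₗ[F] V, (∀ x z, B (c x) (c z) = B x z) ∧ (∀ x, c (s x) = s (c x)) ∧
      LinearMap.det (c : V →ₗ[F] V) = y ^ (k + 1) := by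
  classical
  set A := en s with hA
  obtain ⟨d, hd, hdy⟩ := FormCentral.exists_ratio hV hσ hy
  have finish : ∀ (f v w₁), Polynomial.Monic f → LinearMap.det (mulQ f v) = d ^ (k + 1) →
      (∀ g : F[X], aeval A g w₁ = 0 ↔ f ∣ g) →
      (∀ g : F[X], ¬ f ∣ g → ∃ r : F[X], B (aeval A g w₁) (aeval A r w₁) ≠ 0) →
      ∃ c : V ≃ₗ[F] V, (∀ x z, B (c x) (c z) = B x z) ∧ (∀ x, c (s x) = s (c x)) ∧
        LinearMap.det (c : V →ₗ[F] V) = y ^ (k + 1) := by
    intro f v w₁ hf hv hk hn
    obtain ⟨c, h1, h2, h3⟩ := det_of_block hV hs w₁ f hf hk hn v (by rw [hv]; exact pow_ne_zero _ hd)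
    refine ⟨c, h1, h2, mul_right_cancel₀ ((map_ne_zero σ).2 (pow_ne_zero (k + 1) hd)) ?_⟩
    rw [hv] at h3
    rw [h3]
    conv_lhs => rw [hdy]
    rw [map_pow, mul_pow, mul_comm]
  have hcongr : ∀ (x : V) (g g' P : F[X]), aeval A P x = 0 → P ∣ g - g' → aeval A g x = aeval A g' x := by
    intro x g g' P hx hdvd
    obtain ⟨c, hc⟩ := hdvd
    rw [← sub_eq_zero, ← LinearMap.sub_apply, ← map_sub, hc, mul_comm, map_mul, Module.End.mul_apply, hx, map_zero]
  have hadj : ∀ (h : F[X]) (x z : V), B (aeval A h x) z = B x (aeval (en s.symm) (h.map σ) z) :=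
    fun h x z => pres_aeval hs h x z
  obtain ⟨w, hw, hwr⟩ := exists_height A p k hlt
  have hp0' : (p ^ (k + 1)).coeff 0 ≠ 0 := by
    rw [coeff_zero_eq_eval_zero, eval_pow, ← coeff_zero_eq_eval_zero]; exact pow_ne_zero _ h0
  obtain ⟨z, hz, hwz⟩ : ∃ z ∈ LinearMap.ker (aeval A (dualPoly σ (p ^ (k + 1)))), B (aeval A (p ^ k) w) z ≠ 0 := by
    by_contra h
    push Not at h
    exact hwr (lperp_ker_dual hV hs _ hp0' h)
  have hsymmW : ∀ (x : V) (P g : F[X]), ∀ r : F[X], ∃ r' : F[X],
      aeval (en s.symm) g (aeval A r x) = aeval A r' x := by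
    intro x P g
    induction g using Polynomial.induction_on' with
    | add a b ha hb =>
      intro r
      obtain ⟨r1, h1⟩ := ha r
      obtain ⟨r2, h2⟩ := hb r
      exact ⟨r1 + r2, by rw [map_add, LinearMap.add_apply, h1, h2, map_add, LinearMap.add_apply]⟩
    | monomial i a =>
      intro r
      haveI : Finite V := Module.finite_of_finite F
      haveI : Finite (V ≃ₗ[F] V) := Finite.of_injective (fun g : V ≃ₗ[F] V => (g : V → V)) DFunLike.coe_injective
      obtain ⟨m, hm⟩ : ∃ m, en s.symm = A ^ m := by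
        refine ⟨orderOf s - 1, LinearMap.ext fun v => ?_⟩
        have h1 : en (s ^ (orderOf s - 1)) = A ^ (orderOf s - 1) := by
          generalize orderOf s - 1 = m
          induction m with
          | zero => rfl
          | succ m ih => rw [pow_succ, pow_succ, ← ih]; rfl
        rw [← h1]
        show s.symm v = (s ^ (orderOf s - 1)) v
        have h2 : s * s ^ (orderOf s - 1) = 1 := by
          rw [← pow_succ', Nat.sub_add_cancel (orderOf_pos s), pow_orderOf_eq_one]
        apply s.injective
        rw [s.apply_symm_apply]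
        exact (LinearEquiv.congr_fun h2 v).symm
      refine ⟨C a * X ^ (m * i) * r, ?_⟩
      rw [aeval_monomial, hm, ← pow_mul, map_mul, map_mul, aeval_C, aeval_X_pow]
      rfl
  by_cases hself : dualPoly σ p = p
  · -- self-dual factor
    have hdp : dualPoly σ (p ^ (k + 1)) = p ^ (k + 1) := by
      have : ∀ j, dualPoly σ (p ^ j) = p ^ j := by
        intro j
        induction j with
        | zero => rw [pow_zero, dualPoly_one]
        | succ j ih => rw [pow_succ, dualPoly_mul, ih, hself]
      exact this _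
    rw [hdp] at hz
    obtain ⟨x, hx, hxx⟩ : ∃ x, aeval A (p ^ (k + 1)) x = 0 ∧ B (aeval A (p ^ k) x) x ≠ 0 := by
      by_contra h
      push Not at h
      obtain ⟨c, hc⟩ : ∃ c : F, σ c ≠ c := by
        by_contra h
        push Not at h
        exact hσ (RingHom.ext h)
      have hmem : ∀ a : F, aeval A (p ^ (k + 1)) (a • w + z) = 0 := fun a => by
        rw [map_add, map_smul, hw, smul_zero, zero_add, LinearMap.mem_ker.1 hz]
      have key : ∀ a : F, σ a * B (aeval A (p ^ k) w) z + a * B (aeval A (p ^ k) z) w = 0 := by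
        intro a
        have e := h _ (hmem a)
        simp only [map_add, map_smul, map_smulₛₗ, LinearMap.add_apply, LinearMap.smul_apply, smul_eq_mul,
          RingHom.id_apply, h w hw, h z (LinearMap.mem_ker.1 hz), mul_zero, add_zero, zero_add] at e
        linear_combination e
      have e1 := key 1
      rw [map_one, one_mul, one_mul] at e1
      have e2 := key c
      refine hwz ((mul_eq_zero.1 ?_).resolve_left (sub_ne_zero.2 hc))
      linear_combination e2 - c * e1
    have hker : ∀ g : F[X], aeval A g x = 0 ↔ p ^ (k + 1) ∣ g := by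
      intro g
      constructor
      · intro hg
        by_contra hnd
        obtain ⟨h, hh⟩ := coprime_to_mul hp k g hnd isCoprime_one_right
        have h1 := hcongr x _ _ _ hx hh
        rw [mul_one, mul_comm g h, map_mul, Module.End.mul_apply, hg, map_zero] at h1
        exact hxx (by rw [← h1, map_zero, LinearMap.zero_apply])
      · rintro ⟨c, rfl⟩
        rw [mul_comm, map_mul, Module.End.mul_apply, hx, map_zero]
    obtain ⟨v, hv⟩ := exists_det_mulQ_pow hp hpm (k + 1) d
    refine finish _ v x (hpm.pow _) hv hker fun g hnd => ?_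
    by_contra hall
    push Not at hall
    obtain ⟨h, hh⟩ := coprime_to_mul hp k g hnd isCoprime_one_right
    have h1 := hcongr x _ _ _ hx hh
    rw [mul_one, mul_comm g h, map_mul, Module.End.mul_apply] at h1
    refine hxx ?_
    rw [← h1, hadj]
    obtain ⟨r', hr'⟩ := hsymmW x (p ^ (k + 1)) (h.map σ) 1
    rw [map_one, Module.End.one_apply] at hr'
    rw [hr']
    exact hall r'
  · -- a dual pair
    set p' := dualPoly σ p with hp'
    have hp'm : p'.Monic := monic_dualPoly h0
    have hdpow : ∀ j, dualPoly σ (p ^ j) = p' ^ j := by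
      intro j
      induction j with
      | zero => rw [pow_zero, dualPoly_one, pow_zero]
      | succ j ih => rw [pow_succ, dualPoly_mul, ih, pow_succ]
    rw [hdpow] at hz
    have hco : IsCoprime p p' := (hp.coprime_iff_not_dvd).2 fun h => hself
      (eq_of_monic_of_dvd_of_natDegree_le hpm hp'm h (natDegree_dualPoly h0).le)
    obtain ⟨v, hv⟩ := exists_det_mul hp hpm hp'm hco d
    have hcopow : IsCoprime (p ^ (k + 1)) (p' ^ (k + 1)) := hco.pow
    obtain ⟨a, b, hab⟩ := hcopow
    have hz' : aeval A (p' ^ (k + 1)) z = 0 := LinearMap.mem_ker.1 hz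
    have proj : ∀ g, aeval A (g * (b * p' ^ (k + 1))) (w + z) = aeval A g w := by
      intro g
      rw [map_add, hcongr w (g * (b * p' ^ (k + 1))) g (p ^ (k + 1)) hw ⟨-(g * a), by linear_combination g * hab⟩,
        hcongr z (g * (b * p' ^ (k + 1))) 0 (p' ^ (k + 1)) hz' ⟨g * b, by ring⟩, map_zero, LinearMap.zero_apply,
        add_zero]
    have projz : aeval A (a * p ^ (k + 1)) (w + z) = z := by
      rw [map_add, hcongr w (a * p ^ (k + 1)) 0 (p ^ (k + 1)) hw ⟨a, by ring⟩,
        hcongr z (a * p ^ (k + 1)) 1 (p' ^ (k + 1)) hz' ⟨-b, by linear_combination hab⟩, map_zero,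
        LinearMap.zero_apply, zero_add, map_one, Module.End.one_apply]
    have hsub : ∀ g : F[X], aeval A g (w + z) = aeval A g w + aeval A g z := fun g => map_add _ _ _
    have hkw : ∀ g : F[X], ¬ p ^ (k + 1) ∣ g → ∃ h, aeval A (h * g) (w + z) = aeval A (p ^ k) w := by
      intro g hnd
      obtain ⟨h, hh⟩ := coprime_to_mul hp k g hnd (hco.pow_right (n := k + 1))
      refine ⟨h * p' ^ (k + 1), ?_⟩
      rw [hsub, hcongr w _ (p ^ k) (p ^ (k + 1)) hw (by convert hh using 1; ring),
        hcongr z _ 0 (p' ^ (k + 1)) hz' ⟨h * g, by ring⟩, map_zero, LinearMap.zero_apply, add_zero]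
    have hzk : aeval A (p' ^ k) z ≠ 0 := by
      intro h
      apply hwz
      rw [hadj]
      have h' : z ∈ LinearMap.ker (aeval A (dualPoly σ (p ^ k))) := by rw [hdpow]; exact h
      rw [ker_dual _ (by rw [coeff_zero_eq_eval_zero, eval_pow, ← coeff_zero_eq_eval_zero]; exact pow_ne_zero _ h0)] at h'
      rw [LinearMap.mem_ker.1 h', map_zero]
    have hp'i : Irreducible p' := by
      refine irreducible_of_dual hV.invol hp hpm h0
    have hkz : ∀ g : F[X], ¬ p' ^ (k + 1) ∣ g → ∃ h, aeval A (h * g) (w + z) = aeval A (p' ^ k) z := by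
      intro g hnd
      obtain ⟨h, hh⟩ := coprime_to_mul hp'i k g hnd (hco.symm.pow_right (n := k + 1))
      refine ⟨h * p ^ (k + 1), ?_⟩
      rw [hsub, hcongr z _ (p' ^ k) (p' ^ (k + 1)) hz' (by convert hh using 1; ring),
        hcongr w _ 0 (p ^ (k + 1)) hw ⟨h * g, by ring⟩, map_zero, LinearMap.zero_apply, zero_add]
    refine finish ((p * p') ^ (k + 1)) v (w + z) ((hpm.mul hp'm).pow _)
      (by rw [det_mulQ_pow (hpm.mul hp'm), hv]) (fun g => ⟨fun hg => ?_, ?_⟩) (fun g hg => ?_)
    · rw [mul_pow]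
      refine IsCoprime.mul_dvd hco.pow ?_ ?_
      · by_contra h
        obtain ⟨h', hh'⟩ := hkw g h
        rw [map_mul, Module.End.mul_apply, hg, map_zero] at hh'
        exact hwz (by rw [← hh', map_zero, LinearMap.zero_apply])
      · by_contra h
        obtain ⟨h', hh'⟩ := hkz g h
        rw [map_mul, Module.End.mul_apply, hg, map_zero] at hh'
        exact hzk hh'.symm
    · rintro ⟨c, rfl⟩
      rw [hsub, hcongr w _ 0 (p ^ (k + 1)) hw ⟨p' ^ (k + 1) * c, by ring⟩,
        hcongr z _ 0 (p' ^ (k + 1)) hz' ⟨p ^ (k + 1) * c, by ring⟩, map_zero, LinearMap.zero_apply,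
        LinearMap.zero_apply, add_zero]
    · by_contra hall
      push Not at hall
      have hperp : ∀ h r : F[X], B (aeval A (h * g) (w + z)) (aeval A r (w + z)) = 0 := by
        intro h r
        rw [map_mul, Module.End.mul_apply, hadj]
        obtain ⟨r', hr'⟩ := hsymmW (w + z) 1 (h.map σ) r
        rw [hr']
        exact hall r'
      have hnd : ¬ p ^ (k + 1) ∣ g ∨ ¬ p' ^ (k + 1) ∣ g := by
        by_contra h
        push Not at h
        exact hg (by rw [mul_pow]; exact IsCoprime.mul_dvd hco.pow h.1 h.2)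
      rcases hnd with h | h
      · obtain ⟨h', hh'⟩ := hkw g h
        apply hwz
        have h1 := hperp h' (a * p ^ (k + 1))
        rwa [hh', projz] at h1
      · obtain ⟨h', hh'⟩ := hkz g h
        apply hwz
        -- move the polynomial to the other side
        have h1 : ∀ r : F[X], B (aeval A (p' ^ k) z) (aeval A r w) = 0 := by
          intro r
          rw [← proj r, ← hh']
          exact hperp h' _
        have h2 : aeval A (dualPoly σ (p ^ k)) z = aeval A (p' ^ k) z := by rw [hdpow]
        rw [aeval_dual] at h2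
        set N := ((p ^ k).map σ).natDegree
        have hcm : Commute (aeval (en s.symm) ((p ^ k).map σ)) (A ^ N) :=
          (Algebra.commute_of_mem_adjoin_singleton_of_commute (aeval_mem_adjoin_singleton F (en s.symm))
            (symm_commute s).symm).symm.pow_right _
        rw [hcm.eq, LinearMap.smul_apply, Module.End.mul_apply] at h2
        have h3 := h1 (X ^ N)
        rw [aeval_X_pow, ← h2, map_smulₛₗ, LinearMap.smul_apply, smul_eq_zero,
          or_iff_right ((map_ne_zero σ).2 (inv_ne_zero ((map_ne_zero σ).2 (by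
            rw [coeff_zero_eq_eval_zero, eval_pow, ← coeff_zero_eq_eval_zero]; exact pow_ne_zero _ h0))))] at h3
        have h4 : ∀ (N : ℕ) (a c : V), B ((A ^ N) a) ((A ^ N) c) = B a c := by
          intro N
          induction N with
          | zero => intro a c; rfl
          | succ N ih => intro a c; rw [pow_succ]; exact (ih _ _).trans (hs _ _)
        rw [h4] at h3
        rw [hadj, hV.flip, h3, map_zero, mul_zero]

end Cfsg.Agent.ClassNum
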