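import Cfsg.Agent.Lib.ClassNum.UScale

/-!
Numerical bounds for class numbers of special unitary groups.
-/

set_option autoImplicit false
set_option linter.unusedSectionVars false

namespace Cfsg.Agent.ClassNum

open Polynomial S2478 FormsLib FormTorus

universe u

theorem cntU_step {q m : ℕ} (hq : 2 ≤ q) (hm : 1 ≤ m) {C R : ℚ} (hC : 0 ≤ C) (hR : 0 ≤ R)
    (hR' : (q : ℚ) + 1 ≤ R * ((q : ℚ) ^ (m + 1) - q)) (h : ∀ k, (cntU q m k : ℚ) ≤ C * (q : ℚ) ^ k) (k : ℕ) :
    (cntU q (m + 1) k : ℚ) ≤ C * (1 + R) * (q : ℚ) ^ k := by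
  let G : ℕ → ℕ := fun k =>
    ∑ a ∈ Finset.range (k / (m + 1)), cwU q (a + 1) * cntU q m (k - (m + 1) * (a + 1))
  have hcnt : cntU q (m + 1) k = cntU q m k + G k := by
    rw [cntU, Finset.sum_range_succ']
    simp [cwU, G, add_comm]
  have hG : ∀ j, G (j + (m + 1)) = (q + 1) * cntU q m j + q * G j := by
    intro j
    show Finset.sum (Finset.range ((j + (m + 1)) / (m + 1))) _ = _
    rw [Nat.add_div_right _ (Nat.succ_pos m), Finset.sum_range_succ', Finset.mul_sum, add_comm]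
    congr 1
    · simp [cwU]
    · refine Finset.sum_congr rfl fun a _ => ?_
      rw [show j + (m + 1) - (m + 1) * (a + 1 + 1) = j - (m + 1) * (a + 1) by
        rw [Nat.mul_succ (m + 1) (a + 1)]; omega]
      show (q + 1) * q ^ (a + 1) * _ = q * ((q + 1) * q ^ a * _)
      ring
  have hGb : ∀ k, (G k : ℚ) ≤ R * C * (q : ℚ) ^ k := by
    intro k
    induction k using Nat.strong_induction_on with
    | _ k ih =>
      have hnn : 0 ≤ R * C * (q : ℚ) ^ k := mul_nonneg (mul_nonneg hR hC) (pow_nonneg (Nat.cast_nonneg _) _)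
      rcases lt_or_ge k (m + 1) with hk | hk
      · simp [G, Nat.div_eq_of_lt hk, hnn]
      · obtain ⟨j, rfl⟩ := Nat.exists_eq_add_of_le' hk
        rw [hG]
        push_cast
        have h1 := ih j (by omega)
        have hp : (0 : ℚ) ≤ C * (q : ℚ) ^ j := mul_nonneg hC (pow_nonneg (Nat.cast_nonneg _) _)
        have h2 := mul_le_mul_of_nonneg_left hR' hp
        calc ((q : ℚ) + 1) * cntU q m j + q * G j
            ≤ ((q : ℚ) + 1) * (C * (q : ℚ) ^ j) + q * (R * C * (q : ℚ) ^ j) :=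
              add_le_add (mul_le_mul_of_nonneg_left (h j) (by positivity))
                (mul_le_mul_of_nonneg_left h1 (by positivity))
          _ ≤ _ := by rw [pow_add (q : ℚ) j (m + 1)]; linarith
  rw [hcnt]
  push_cast
  linarith [h k, hGb k]

theorem cntU_step' {q r m : ℕ} (hr : 2 ≤ r) (hq : r ≤ q) (hm : 1 ≤ m) {C : ℚ} (hC : 0 ≤ C)
    (h : ∀ k, (cntU q m k : ℚ) ≤ C * (q : ℚ) ^ k) (k : ℕ) :
    (cntU q (m + 1) k : ℚ) ≤ C * (1 + ((r : ℚ) + 1) / ((r : ℚ) ^ (m + 1) - r)) * (q : ℚ) ^ k := by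
  have hr' : (2 : ℚ) ≤ r := by exact_mod_cast hr
  have hqr : (r : ℚ) ≤ q := by exact_mod_cast hq
  have hrm : (r : ℚ) ≤ (r : ℚ) ^ m := le_self_pow₀ (by linarith) (by omega)
  have hqm : (r : ℚ) ^ m ≤ (q : ℚ) ^ m := pow_le_pow_left₀ (by linarith) hqr m
  have hd : (0 : ℚ) < (r : ℚ) ^ (m + 1) - r := by rw [pow_succ]; nlinarith
  refine cntU_step (hr.trans hq) hm hC (div_nonneg (by linarith) hd.le) ?_ h k
  rw [div_mul_eq_mul_div, le_div_iff₀ hd, pow_succ, pow_succ]
  nlinarith [mul_nonneg (sub_nonneg.2 hqr) (show (0 : ℚ) ≤ (r : ℚ) ^ m - 1 by linarith),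
    mul_le_mul_of_nonneg_left hqm (show (0 : ℚ) ≤ (r + 1) * q by positivity),
    mul_le_mul_of_nonneg_left hqm (show (0 : ℚ) ≤ (r : ℚ) * q by positivity)]

theorem cntU_one {q r : ℕ} (hr : 1 ≤ r) (hq : r ≤ q) (k : ℕ) :
    (cntU q 1 k : ℚ) ≤ (((r : ℚ) + 1) / r) * (q : ℚ) ^ k := by
  have h1 : cntU q 1 k = cwU q k := by
    rw [cntU, Nat.div_one, Finset.sum_range_succ, Finset.sum_eq_zero, zero_add]
    · simp [cntU]
    · intro a ha
      simp only [Finset.mem_range] at ha
      simp [cntU, show k - a ≠ 0 by omega]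
  rw [h1]
  have hr' : (1 : ℚ) ≤ r := by exact_mod_cast hr
  have hqr : (r : ℚ) ≤ q := by exact_mod_cast hq
  cases k with
  | zero =>
    simp only [cwU, pow_zero, mul_one, Nat.cast_one]
    rw [le_div_iff₀ (by linarith)]
    linarith
  | succ j =>
    show (((q + 1) * q ^ j : ℕ) : ℚ) ≤ _
    push_cast
    rw [div_mul_eq_mul_div, le_div_iff₀ (by linarith), pow_succ]
    nlinarith [pow_nonneg (show (0 : ℚ) ≤ q by linarith) j]

theorem cntU_le_ten {q : ℕ} (hq : 2 ≤ q) :
    ∀ m, 4 ≤ m → ∀ k, (cntU q m k : ℚ) ≤ 10 * (1 - 3 / 2 ^ m) * (q : ℚ) ^ k := by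
  intro m hm
  induction m, hm using Nat.le_induction with
  | base =>
    intro k
    have h2 := fun k => cntU_step' (r := 2) le_rfl hq le_rfl (C := 3 / 2) (by norm_num)
      (fun k => le_of_le_of_eq (cntU_one (r := 2) (by norm_num) hq k) (by norm_num)) k
    have h3 := fun k => cntU_step' (r := 2) le_rfl hq (m := 2) (by norm_num) (by norm_num) h2 k
    have h4 := cntU_step' (r := 2) le_rfl hq (m := 3) (by norm_num) (by norm_num) h3 k
    refine h4.trans (mul_le_mul_of_nonneg_right ?_ (by positivity))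
    norm_num
  | succ m hm ih =>
    intro k
    have h16 : (16 : ℚ) ≤ 2 ^ m := le_trans (by norm_num) (pow_le_pow_right₀ (show (1 : ℚ) ≤ 2 by norm_num) hm)
    have hC : (0 : ℚ) ≤ 10 * (1 - 3 / 2 ^ m) := by
      have : 3 / (2 : ℚ) ^ m ≤ 1 := by rw [div_le_one (by positivity)]; linarith
      linarith
    refine (cntU_step' (r := 2) le_rfl hq (by omega) hC ih k).trans
      (mul_le_mul_of_nonneg_right ?_ (by positivity))
    push_cast
    rw [pow_succ]
    obtain ⟨x, hx⟩ : ∃ x : ℚ, (2 : ℚ) ^ m = x := ⟨_, rfl⟩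
    rw [hx] at h16 ⊢
    have hx2 : (0 : ℚ) < x * 2 - 2 := by linarith
    field_simp
    have hy0 : (0 : ℚ) ≤ (2 + 1) / (x - 1) := div_nonneg (by norm_num) (by linarith)
    have hy : (2 + 1) / (x - 1) * (x - 1) = (3 : ℚ) := by rw [div_mul_cancel₀ _ (by linarith)]; norm_num
    linarith

theorem cntU_le_three {q : ℕ} (hq : 3 ≤ q) : ∀ m k, (cntU q m k : ℚ) ≤ 3 * (q : ℚ) ^ k := by
  have key : ∀ m, 2 ≤ m → ∀ k, (cntU q m k : ℚ) ≤ 3 * (1 - 2 / 3 ^ m) * (q : ℚ) ^ k := by
    intro m hm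
    induction m, hm using Nat.le_induction with
    | base =>
      intro k
      have h2 := cntU_step' (r := 3) (by norm_num) hq le_rfl (C := 4 / 3) (by norm_num)
        (fun k => le_of_le_of_eq (cntU_one (r := 3) (by norm_num) hq k) (by norm_num)) k
      refine h2.trans (mul_le_mul_of_nonneg_right ?_ (by positivity))
      norm_num
    | succ m hm ih =>
      intro k
      have h9 : (9 : ℚ) ≤ 3 ^ m := le_trans (by norm_num) (pow_le_pow_right₀ (show (1 : ℚ) ≤ 3 by norm_num) hm)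
      have hC : (0 : ℚ) ≤ 3 * (1 - 2 / 3 ^ m) := by
        have : 2 / (3 : ℚ) ^ m ≤ 1 := by rw [div_le_one (by positivity)]; linarith
        linarith
      refine (cntU_step' (r := 3) (by norm_num) hq (by omega) hC ih k).trans
        (mul_le_mul_of_nonneg_right ?_ (by positivity))
      push_cast
      rw [pow_succ]
      obtain ⟨x, hx⟩ : ∃ x : ℚ, (3 : ℚ) ^ m = x := ⟨_, rfl⟩
      rw [hx] at h9 ⊢
      have hx2 : (0 : ℚ) < x * 3 - 3 := by linarith
      field_simp
      have hy0 : (0 : ℚ) ≤ (3 + 1) / (x - 1) := div_nonneg (by norm_num) (by linarith)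
      have hy : (3 + 1) / (x - 1) * (x - 1) = (4 : ℚ) := by rw [div_mul_cancel₀ _ (by linarith)]; norm_num
      linarith
  intro m k
  rcases Nat.lt_or_ge m 2 with hm | hm
  · interval_cases m
    · have hq' : (1 : ℚ) ≤ q := by exact_mod_cast (show 1 ≤ q by omega)
      rw [cntU]
      split_ifs with hk
      · subst hk; norm_num
      · push_cast; positivity
    · exact (cntU_one (r := 3) (by norm_num) hq k).trans (mul_le_mul_of_nonneg_right (by norm_num) (by positivity))
  · refine (key m hm k).trans (mul_le_mul_of_nonneg_right ?_ (by positivity))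
    have : (0 : ℚ) ≤ 2 / 3 ^ m := by positivity
    linarith

section tuples

variable {F : Type u} [Field F] [Fintype F] {q : ℕ} {σ : F →+* F}

theorem card_dvd_dual_le (hK : Fintype.card F = q ^ 2) (hσ : ∀ x, σ x = x ^ q) {n d : ℕ} (hd : 1 ≤ d)
    (hdn : d ∣ n) : Nat.card {T : S F n n // SDual σ T ∧ d ∣ eU q T} ≤ cntU q (n / d) (n / d) := by
  classical
  obtain ⟨r, rfl⟩ := hdn
  rw [Nat.mul_div_cancel_left _ hd]
  refine le_trans ?_ (card_sdual_le hK hσ r r)
  have hι : ∀ i : Fin r, d * (i : ℕ) + (d - 1) < d * r := fun i => by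
    have : d * ((i : ℕ) + 1) ≤ d * r := Nat.mul_le_mul_left _ i.2
    rw [mul_add, mul_one] at this
    omega
  let ι : Fin r → Fin (d * r) := fun i => ⟨d * (i : ℕ) + (d - 1), hι i⟩
  have hinj : Function.Injective ι := fun a b h => Fin.ext (by
    have := congrArg Fin.val h
    simp only [ι] at this
    exact Nat.eq_of_mul_eq_mul_left hd (by omega))
  have hout : ∀ T : S F (d * r) (d * r), d ∣ eU q T → ∀ j, j ∉ Set.range ι → (T.1 j).1.natDegree = 0 := by
    intro T hT j hj
    by_contra h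
    obtain ⟨c, hc⟩ := hT.trans (eD_dvd (q + 2) (dg T) h)
    have hc0 : 1 ≤ c := by
      rcases Nat.eq_zero_or_pos c with rfl | h
      · simp at hc
      · exact h
    have hcr : c - 1 < r := by
      have h1 : d * c ≤ d * r := hc ▸ j.2
      have := Nat.le_of_mul_le_mul_left h1 hd
      omega
    refine hj ⟨⟨c - 1, hcr⟩, Fin.ext ?_⟩
    show d * (c - 1) + (d - 1) = j
    obtain ⟨c', rfl⟩ : ∃ c', c = c' + 1 := ⟨c - 1, by omega⟩
    rw [mul_add, mul_one] at hc
    rw [Nat.add_sub_cancel]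
    omega
  have hsum : ∀ T : S F (d * r) (d * r), d ∣ eU q T →
      ∑ i : Fin r, ((i : ℕ) + 1) * (T.1 (ι i)).1.natDegree = r := by
    intro T hT
    apply Nat.eq_of_mul_eq_mul_left hd
    refine Eq.trans ?_ T.2
    rw [Finset.mul_sum]
    refine Fintype.sum_of_injective ι hinj _ _ (fun j hj => by rw [hout T hT j hj, mul_zero]) fun i => ?_
    show d * (((i : ℕ) + 1) * _) = (d * (i : ℕ) + (d - 1) + 1) * _
    rw [← mul_assoc, show d * (i : ℕ) + (d - 1) + 1 = d * ((i : ℕ) + 1) by rw [mul_add, mul_one]; omega]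
  haveI : Finite (S F r r) := (card_S r r).2
  refine Nat.card_le_card_of_injective (fun T : {T : S F (d * r) (d * r) // SDual σ T ∧ d ∣ eU q T} =>
    (⟨⟨fun i => T.1.1 (ι i), hsum T.1 T.2.2⟩, fun i => T.2.1 (ι i)⟩ : {T : S F r r // SDual σ T})) ?_
  intro T T' h
  refine Subtype.ext (Subtype.ext (funext fun j => ?_))
  by_cases hj : j ∈ Set.range ι
  · obtain ⟨i, rfl⟩ := hj
    exact congrFun (congrArg Subtype.val (congrArg Subtype.val h)) i
  · exact Subtype.ext ((eq_one_of_monic_natDegree_zero (T.1.1 j).2.1 (hout T.1 T.2.2 j hj)).trans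
      (eq_one_of_monic_natDegree_zero (T'.1.1 j).2.1 (hout T'.1 T'.2.2 j hj)).symm)

theorem su_classes_mul_le (hK : Fintype.card F = q ^ 2) (n : ℕ) :
    (q + 1) * Nat.card (ConjClasses ↥(Cfsg.SU n F q)) ≤ cntU q n n +
      ∑ d ∈ (Nat.gcd n (q + 1)).divisors.erase 1, (d ^ 2 - 1) * cntU q (n / d) (n / d) := by
  classical
  obtain ⟨σ, hσ, hσσ, hq2⟩ := exists_qhom hK
  have hU := fun n => (hermB_isUnitary hK n hσ hσσ hq2).1
  refine (Nat.mul_le_mul_left _ (classes_le_unitary hK hσ (hU n))).trans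
    ((two_scale_dual hK hσ (hU 1) n n).trans ?_)
  set D := (Nat.gcd n (q + 1)).divisors.erase 1 with hD
  set P := (Finset.univ : Finset (S F n n)).filter (fun T => SDual σ T) with hP
  calc ∑ T ∈ P, eU q T ^ 2
      ≤ ∑ T ∈ P, (1 + ∑ d ∈ D, if d ∣ eU q T then d ^ 2 - 1 else 0) := by
        refine Finset.sum_le_sum fun T _ => ?_
        rcases eq_or_ne (eU q T) 1 with h | h
        · simp [h]
        · have hmem : eU q T ∈ D := Finset.mem_erase.2 ⟨h, Nat.mem_divisors.2
            ⟨Nat.dvd_gcd (eU_dvd_weight q T) (eU_dvd_left q T), (Nat.gcd_pos_of_pos_right _ (by omega)).ne'⟩⟩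
          have := Finset.single_le_sum (f := fun d => if d ∣ eU q T then d ^ 2 - 1 else 0)
            (fun d _ => Nat.zero_le _) hmem
          simp only [dvd_refl, if_true] at this
          omega
    _ = P.card + ∑ d ∈ D, (d ^ 2 - 1) * (P.filter fun T => d ∣ eU q T).card := by
        rw [Finset.sum_add_distrib, Finset.sum_comm, Finset.sum_const, smul_eq_mul, mul_one]
        refine congrArg _ (Finset.sum_congr rfl fun d _ => ?_)
        rw [← Finset.sum_filter, Finset.sum_const, smul_eq_mul, mul_comm]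
    _ ≤ _ := by
        refine add_le_add ?_ (Finset.sum_le_sum fun d hd => Nat.mul_le_mul_left _ ?_)
        · rw [← Fintype.card_subtype, ← Nat.card_eq_fintype_card]
          exact card_sdual_le hK hσ n n
        · have hd' := Nat.mem_divisors.1 (Finset.mem_erase.1 hd).2
          rw [hP, Finset.filter_filter, ← Fintype.card_subtype, ← Nat.card_eq_fintype_card]
          exact card_dvd_dual_le hK hσ (Nat.pos_of_dvd_of_pos hd'.1 (Nat.gcd_pos_of_pos_right _ (by omega)))
            (hd'.1.trans (Nat.gcd_dvd_left _ _))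

end tuples

/-- The correction term. -/
def corrU (q n : ℕ) : ℕ :=
  ∑ d ∈ (Nat.gcd n (q + 1)).divisors.erase 1, (d ^ 2 - 1) * cntU q (n / d) (n / d)

theorem numeric_three {q n : ℕ} (hq : 3 ≤ q) (hn : 2 ≤ n) :
    100 * (cntU q n n + corrU q n) ≤ 826 * (q ^ (n - 1) * (q + 1)) := by
  have hb : ∀ k, cntU q k k ≤ 3 * q ^ k := fun k => by exact_mod_cast cntU_le_three hq k k
  have hcorr : corrU q n ≤ 5 * q ^ n := by
    set D := (Nat.gcd n (q + 1)).divisors.erase 1 with hD
    have hsub : ∀ d ∈ D, d ∈ n.divisors.erase 1 ∧ 2 ≤ d ∧ d ≤ q + 1 := fun d hd => by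
      have h := Nat.mem_divisors.1 (Finset.mem_erase.1 hd).2
      have h1 := (Finset.mem_erase.1 hd).1
      have h2 : d ∣ q + 1 := h.1.trans (Nat.gcd_dvd_right _ _)
      have h3 := Nat.pos_of_dvd_of_pos h2 (by omega)
      exact ⟨Finset.mem_erase.2 ⟨h1, Nat.mem_divisors.2 ⟨h.1.trans (Nat.gcd_dvd_left _ _), by omega⟩⟩,
        by omega, Nat.le_of_dvd (by omega) h2⟩
    by_cases h7 : 7 ≤ n
    · have hterm : ∀ d ∈ D, (d ^ 2 - 1) * cntU q (n / d) (n / d) ≤ (q + 1) ^ 2 * (3 * q ^ (n / 2)) := by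
        intro d hd
        obtain ⟨-, h2, h3⟩ := hsub d hd
        exact Nat.mul_le_mul ((Nat.sub_le _ _).trans (Nat.pow_le_pow_left h3 2))
          ((hb _).trans (Nat.mul_le_mul_left _ (Nat.pow_le_pow_right (by omega) (Nat.div_le_div_left h2 two_pos))))
      have hcard : D.card ≤ q := (Finset.card_le_card fun d hd => Finset.mem_Icc.2 (hsub d hd).2).trans
        (by simp)
      have hsum : corrU q n ≤ q * ((q + 1) ^ 2 * (3 * q ^ (n / 2))) :=
        (Finset.sum_le_card_nsmul D _ _ hterm).trans (by rw [smul_eq_mul]; exact Nat.mul_le_mul_right _ hcard)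
      refine hsum.trans ?_
      have hq1 : (q + 1) ^ 2 ≤ 2 * q ^ 2 := by nlinarith
      calc q * ((q + 1) ^ 2 * (3 * q ^ (n / 2))) ≤ q * (2 * q ^ 2 * (3 * q ^ (n / 2))) :=
            Nat.mul_le_mul_left _ (Nat.mul_le_mul_right _ hq1)
        _ = 6 * q ^ (n / 2 + 3) := by ring
        _ ≤ 6 * q ^ (n - 1) := Nat.mul_le_mul_left _ (Nat.pow_le_pow_right (by omega) (by omega))
        _ ≤ (5 * q) * q ^ (n - 1) := Nat.mul_le_mul_right _ (by omega)
        _ = _ := by rw [mul_assoc, ← pow_succ', show n - 1 + 1 = n by omega]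
    · have hle : corrU q n ≤ ∑ d ∈ n.divisors.erase 1, d ^ 2 * (3 * q ^ (n / d)) :=
        (Finset.sum_le_sum fun d hd => Nat.mul_le_mul (Nat.sub_le _ _) (hb _)).trans
          (Finset.sum_le_sum_of_subset fun d hd => (hsub d hd).1)
      refine hle.trans ?_
      have h2 := Nat.mul_le_mul_right q hq
      have hp : ∀ e, 3 * q ^ e ≤ q ^ (e + 1) := fun e => by
        rw [pow_succ']; exact Nat.mul_le_mul_right _ hq
      have := hp 1; have := hp 2; have := hp 3; have := hp 4; have := hp 5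
      interval_cases n
      · rw [show (2 : ℕ).divisors.erase 1 = {2} by decide, Finset.sum_singleton]
        norm_num at *; omega
      · rw [show (3 : ℕ).divisors.erase 1 = {3} by decide, Finset.sum_singleton]
        norm_num at *; omega
      · rw [show (4 : ℕ).divisors.erase 1 = {2, 4} by decide, Finset.sum_insert (by decide), Finset.sum_singleton]
        norm_num at *; omega
      · rw [show (5 : ℕ).divisors.erase 1 = {5} by decide, Finset.sum_singleton]
        norm_num at *; omega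
      · rw [show (6 : ℕ).divisors.erase 1 = {2, 3, 6} by decide, Finset.sum_insert (by decide),
          Finset.sum_insert (by decide), Finset.sum_singleton]
        norm_num at *; omega
  have h := hb n
  have he : q ^ (n - 1) * (q + 1) = q ^ n + q ^ (n - 1) := by
    rw [mul_add, mul_one, ← pow_succ, show n - 1 + 1 = n by omega]
  rw [he]
  omega

theorem numeric_two {n : ℕ} (hn : 2 ≤ n) : 100 * (cntU 2 n n + corrU 2 n) ≤ 826 * (2 ^ (n - 1) * (2 + 1)) := by
  by_cases h9 : n < 9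
  · interval_cases n <;> decide +kernel
  have hb : ∀ m, 4 ≤ m → cntU 2 m m ≤ 10 * 2 ^ m := fun m hm => by
    have h := cntU_le_ten (le_refl 2) m hm m
    have h2 : (cntU 2 m m : ℚ) ≤ 10 * ((2 : ℕ) : ℚ) ^ m := h.trans (mul_le_mul_of_nonneg_right (by
      have : (0 : ℚ) ≤ 3 / 2 ^ m := by positivity
      linarith) (by positivity))
    exact_mod_cast h2
  have hsmall : ∀ m, cntU 2 m m ≤ 10 * 2 ^ m := fun m => by
    rcases Nat.lt_or_ge m 4 with hm | hm
    · interval_cases m <;> decide +kernel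
    · exact hb m hm
  have hcorr : corrU 2 n ≤ 8 * (10 * 2 ^ (n / 3)) := by
    refine (Finset.sum_le_sum_of_subset (t := {3}) fun d hd => ?_).trans
      (le_of_eq_of_le (Finset.sum_singleton _ _) (Nat.mul_le_mul (by norm_num) (hsmall _)))
    have h := Nat.mem_divisors.1 (Finset.mem_erase.1 hd).2
    have h1 := (Finset.mem_erase.1 hd).1
    have h2 : d ∣ 3 := h.1.trans (Nat.gcd_dvd_right _ _)
    rcases (Nat.dvd_prime Nat.prime_three).1 h2 with h3 | h3
    · exact absurd h3 h1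
    · simp [h3]
  have h3 : 2 ^ (n / 3) * 64 ≤ 2 ^ n := by
    rw [show (64 : ℕ) = 2 ^ 6 by norm_num, ← pow_add]
    exact Nat.pow_le_pow_right (by norm_num) (by omega)
  have h4 := hsmall n
  have he : 2 * 2 ^ (n - 1) = 2 ^ n := by rw [← pow_succ', show n - 1 + 1 = n by omega]
  omega

theorem su_classes_upper {F : Type u} [Field F] [Fintype F] {n q : ℕ} (hn : 2 ≤ n)
    (hK : Fintype.card F = q ^ 2) : 100 * Nat.card (ConjClasses ↥(Cfsg.SU n F q)) ≤ 826 * q ^ (n - 1) := by
  obtain ⟨σ, -, -, hq2⟩ := exists_qhom hK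
  have h : (q + 1) * Nat.card (ConjClasses ↥(Cfsg.SU n F q)) ≤ cntU q n n + corrU q n := su_classes_mul_le hK n
  refine Nat.le_of_mul_le_mul_left ?_ (Nat.succ_pos q)
  have h2 : 100 * (cntU q n n + corrU q n) ≤ 826 * (q ^ (n - 1) * (q + 1)) := by
    rcases Nat.lt_or_ge q 3 with hq | hq
    · obtain rfl : q = 2 := by omega
      exact numeric_two hn
    · exact numeric_three hq hn
  calc (q + 1) * (100 * Nat.card (ConjClasses ↥(Cfsg.SU n F q)))
      = 100 * ((q + 1) * Nat.card (ConjClasses ↥(Cfsg.SU n F q))) := by ring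
    _ ≤ 100 * (cntU q n n + corrU q n) := Nat.mul_le_mul_left _ h
    _ ≤ _ := h2.trans (le_of_eq (by rw [Nat.succ_eq_add_one]; ring))

end Cfsg.Agent.ClassNum
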