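import Cfsg.Agent.Lib.ClassNum.Classes
import Cfsg.Agent.Lib.ClassNum.UBlock
import Cfsg.Agent.Lib.FormCentral.SUConj

/-!
Self-dual tuples of polynomials and conjugacy classes of special unitary groups.
-/

set_option autoImplicit false
set_option linter.unusedSectionVars false

namespace Cfsg.Agent.ClassNum

open Polynomial S2478 FormsLib FormTorus

universe u

variable {F : Type u} [Field F]

/-- All members of the tuple are self-dual. -/
def SDual (σ : F →+* F) {m k : ℕ} (T : S F m k) : Prop := ∀ j, dualPoly σ (T.1 j).1 = (T.1 j).1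

/-- The norm-one elements. -/
def nOne (F : Type u) [Field F] (q : ℕ) : Subgroup Fˣ := (powMonoidHom (q + 1) : Fˣ →* Fˣ).ker

theorem mem_nOne {q : ℕ} {y : Fˣ} : y ∈ nOne F q ↔ y ^ (q + 1) = 1 := Iff.rfl

theorem card_nOne [Fintype F] {q : ℕ} (hF : Fintype.card F = q ^ 2) : Nat.card (nOne F q) = q + 1 := by
  rw [nOne, IsCyclic.card_powMonoidHom_ker, Nat.card_units, Nat.card_eq_fintype_card, hF]
  have h2 : 1 ≤ q := by
    rcases Nat.eq_zero_or_pos q with rfl | h
    · exact absurd hF (by simp)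
    · exact h
  obtain ⟨r, rfl⟩ : ∃ r, q = r + 1 := ⟨q - 1, by omega⟩
  refine Nat.gcd_eq_right ⟨r, ?_⟩
  rw [Nat.sub_eq_iff_eq_add (Nat.one_le_pow _ _ (by omega))]
  ring

theorem nOne_norm {q : ℕ} {σ : F →+* F} (hσ : ∀ x, σ x = x ^ q) {y : Fˣ} (hy : y ∈ nOne F q) :
    (y : F) * σ y = 1 := by
  rw [hσ, ← pow_succ', ← Units.val_pow_eq_pow_val, mem_nOne.1 hy, Units.val_one]

theorem dualPoly_pow (σ : F →+* F) (f : F[X]) (k : ℕ) : dualPoly σ (f ^ k) = dualPoly σ f ^ k := by
  induction k with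
  | zero => rw [pow_zero, dualPoly_one, pow_zero]
  | succ k ih => rw [pow_succ, dualPoly_mul, ih, pow_succ]

theorem dualPoly_prod (σ : F →+* F) (t : Multiset F[X]) : dualPoly σ t.prod = (t.map (dualPoly σ)).prod := by
  induction t using Multiset.induction with
  | empty => rw [Multiset.prod_zero, dualPoly_one, Multiset.map_zero, Multiset.prod_zero]
  | cons a t ih => rw [Multiset.prod_cons, dualPoly_mul, ih, Multiset.map_cons, Multiset.prod_cons]

section invariance

variable [Fintype F] {q n : ℕ} {σ : F →+* F}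

theorem preserves_toLin (hσ : ∀ x, σ x = x ^ q) {A : GL (Fin n) F} (hA : A ∈ Cfsg.GU n F q) :
    Preserves (hermB n σ) (Matrix.GeneralLinearGroup.toLin A).toLinearEquiv := by
  intro u v
  show hermB n σ (A.1.mulVec u) (A.1.mulVec v) = _
  rw [hermB_apply hσ, hermB_apply hσ]
  exact hA v u

theorem en_toLin (A : GL (Fin n) F) :
    en (Matrix.GeneralLinearGroup.toLin A).toLinearEquiv = Matrix.toLin' A.1 :=
  LinearMap.ext fun _ => rfl

theorem count_dual {ε : F} {B : (Fin n → F) →ₛₗ[σ] (Fin n → F) →ₗ[F] F} (hV : IsTraceForm σ ε B) {A : GL (Fin n) F}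
    (hpres : Preserves B (Matrix.GeneralLinearGroup.toLin A).toLinearEquiv) {p : F[X]} (hp : Irreducible p) (hpm : p.Monic) (h0 : p.coeff 0 ≠ 0) (k : ℕ)
    [DecidableEq F] : (datG A).count (p, k + 1) = (datG A).count (dualPoly σ p, k + 1) := by
  classical
  have hl : ∀ k, longCount (datG A) p k = longCount (datG A) (dualPoly σ p) k := by
    intro k
    have hk : ∀ i, ((datG A).map fun x => if x.1 = p then p.natDegree * min i x.2 else 0).sum =
        ((datG A).map fun x => if x.1 = dualPoly σ p then (dualPoly σ p).natDegree * min i x.2 else 0).sum :=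
      fun i => by
      have h := finrank_ker_dual hV hpres (p ^ i)
        (by rw [coeff_zero_eq_eval_zero, eval_pow, ← coeff_zero_eq_eval_zero]; exact pow_ne_zero _ h0)
      rw [dualPoly_pow, en_toLin, finrank_ker_of_data (datG_spec A) p hp hpm i,
        finrank_ker_of_data (datG_spec A) _ (irreducible_of_dual hV.invol hp hpm h0) (monic_dualPoly h0) i] at h
      exact h
    have h1 := hk (k + 1)
    rw [sum_min_succ, sum_min_succ, ← hk k, natDegree_dualPoly h0] at h1
    exact Nat.eq_of_mul_eq_mul_left hp.natDegree_pos (Nat.add_left_cancel h1)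
  have a := longCount_succ (datG A) p k
  have b := longCount_succ (datG A) (dualPoly σ p) k
  have := hl k
  have := hl (k + 1)
  omega

theorem sdual_tupG {ε : F} {B : (Fin n → F) →ₛₗ[σ] (Fin n → F) →ₗ[F] F} (hV : IsTraceForm σ ε B) {A : GL (Fin n) F}
    (hpres : Preserves B (Matrix.GeneralLinearGroup.toLin A).toLinearEquiv) : SDual σ (tupG A) := by
  classical
  intro j
  show dualPoly σ (facs A j).prod = (facs A j).prod
  rw [dualPoly_prod]
  let δ : F[X] → F[X] := fun p => if p.Monic ∧ p.coeff 0 ≠ 0 then dualPoly σ p else p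
  have hδδ : ∀ p, δ (δ p) = p := by
    intro p
    by_cases h : p.Monic ∧ p.coeff 0 ≠ 0
    · have h' : (dualPoly σ p).Monic ∧ (dualPoly σ p).coeff 0 ≠ 0 :=
        ⟨monic_dualPoly h.2, by rw [coeff_zero_dualPoly h.1 h.2]; exact inv_ne_zero ((map_ne_zero σ).2 h.2)⟩
      simp only [δ, if_pos h, if_pos h', dualPoly_dualPoly hV.invol h.1 h.2]
    · simp only [δ, if_neg h]
  rw [Multiset.map_congr rfl (g := δ) fun p hp => by
    simp only [δ, if_pos (show p.Monic ∧ p.coeff 0 ≠ 0 from (facs_good A j hp).2)]]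
  refine congrArg Multiset.prod (Multiset.ext.2 fun x => ?_)
  conv_lhs => rw [← hδδ x]
  rw [Multiset.count_map_eq_count' δ _ (Function.LeftInverse.injective hδδ)]
  have hcf : ∀ p : F[X], (facs A j).count p = (datG A).count (p, (j : ℕ) + 1) := by
    intro p
    rw [← Multiset.count_map_eq_count' (fun p : F[X] => (p, (j : ℕ) + 1)) (facs A j)
      (fun a b h => congrArg Prod.fst h) p, ← filter_eq,
      Multiset.count_filter_of_pos (p := fun y : F[X] × ℕ => y.2 = (j : ℕ) + 1) rfl]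
  by_cases hx : Irreducible x ∧ x.Monic ∧ x.coeff 0 ≠ 0
  · rw [show δ x = dualPoly σ x from if_pos hx.2, hcf, hcf]
    exact (count_dual hV hpres hx.1 hx.2.1 hx.2.2 j).symm
  · rw [Multiset.count_eq_zero_of_notMem fun h => hx (facs_good A j h),
      Multiset.count_eq_zero_of_notMem fun h => hx ?_]
    have hg := facs_good A j h
    have hd : (dualPoly σ (δ x)).coeff 0 ≠ 0 := by
      rw [coeff_zero_dualPoly hg.2.1 hg.2.2]; exact inv_ne_zero ((map_ne_zero σ).2 hg.2.2)
    have e : δ (δ x) = dualPoly σ (δ x) := if_pos hg.2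
    rw [hδδ] at e
    rw [e]
    exact ⟨irreducible_of_dual hV.invol hg.1 hg.2.1 hg.2.2, monic_dualPoly hg.2.2, hd⟩

theorem exists_centralizer_pow (hK : Fintype.card F = q ^ 2) (hσ : ∀ x, σ x = x ^ q)
    (hU : IsUnitaryForm σ (hermB n σ)) {A : GL (Fin n) F} (hA : A ∈ Cfsg.GU n F q) {j : Fin n}
    (hj : dg (tupG A) j ≠ 0) {y : Fˣ} (hy : y ∈ nOne F q) :
    ∃ C : GL (Fin n) F, C ∈ Cfsg.GU n F q ∧ C * A = A * C ∧
      Matrix.GeneralLinearGroup.det C = y ^ ((j : ℕ) + 1) := by
  classical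
  obtain ⟨p, hp⟩ : ∃ p, p ∈ facs A j := by
    refine Multiset.exists_mem_of_ne_zero fun h0 => hj ?_
    show (facs A j).prod.natDegree = 0
    rw [h0, Multiset.prod_zero, natDegree_one]
  obtain ⟨hpi, hpm, hp0⟩ := facs_good A j hp
  have hmem : (p, (j : ℕ) + 1) ∈ datG A := by
    have : (p, (j : ℕ) + 1) ∈ (facs A j).map fun p => (p, (j : ℕ) + 1) := Multiset.mem_map_of_mem _ hp
    rw [← filter_eq] at this
    exact (Multiset.mem_filter.1 this).1
  have hlt : Module.finrank F (LinearMap.ker (aeval (en (Matrix.GeneralLinearGroup.toLin A).toLinearEquiv)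
        (p ^ ((j : ℕ) + 2)))) +
      Module.finrank F (LinearMap.ker (aeval (en (Matrix.GeneralLinearGroup.toLin A).toLinearEquiv)
        (p ^ (j : ℕ)))) <
      2 * Module.finrank F (LinearMap.ker (aeval (en (Matrix.GeneralLinearGroup.toLin A).toLinearEquiv)
        (p ^ ((j : ℕ) + 1)))) := by
    rw [en_toLin, finrank_ker_of_data (datG_spec A) p hpi hpm, finrank_ker_of_data (datG_spec A) p hpi hpm,
      finrank_ker_of_data (datG_spec A) p hpi hpm, sum_min_succ, sum_min_succ]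
    have h1 := longCount_succ (datG A) p j
    have h2 := Multiset.one_le_count_iff_mem.2 hmem
    have h3 : p.natDegree * longCount (datG A) p ((j : ℕ) + 1) < p.natDegree * longCount (datG A) p j :=
      Nat.mul_lt_mul_of_pos_left (by omega) hpi.natDegree_pos
    omega
  obtain ⟨c, hc, hcA, hcd⟩ := exists_unitary_det_pow hU.tf hU.sigma_ne (preserves_toLin hσ hA) hpi hpm hp0 j hlt
    (nOne_norm hσ hy)
  obtain ⟨G, hG, hGv, hGd⟩ := FormCentral.exists_gu_of_isometry (q := q) hσ c hc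
  refine ⟨G, hG, Units.ext (Matrix.ext_of_mulVec_single fun i => ?_), Units.ext ?_⟩
  · rw [Units.val_mul, Units.val_mul, ← Matrix.mulVec_mulVec, ← Matrix.mulVec_mulVec, hGv, hGv]
    exact hcA _
  · rw [Units.val_pow_eq_pow_val, ← hcd, ← hGd]
    rfl

end invariance

/-- The splitting bound of a tuple in the unitary case. -/
noncomputable def eU (q : ℕ) {m k : ℕ} (T : S F m k) : ℕ := eD (q + 2) (dg T)

theorem eU_dvd_left (q : ℕ) {m k : ℕ} (T : S F m k) : eU q T ∣ q + 1 := eD_dvd_left (q + 2) (dg T)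

theorem eU_pos (q : ℕ) {m k : ℕ} (T : S F m k) : 0 < eU q T := eD_pos (by omega) _

theorem eU_dvd_weight (q : ℕ) {m k : ℕ} (T : S F m k) : eU q T ∣ k :=
  (eD_dvd_sum (q + 2) (dg T) (dg T) fun _ hj => hj).trans (dvd_of_eq T.2)

theorem pow_eU_mem {q m : ℕ} {d : Fin m → ℕ} (H : Subgroup Fˣ)
    (h : ∀ j, d j ≠ 0 → ∀ y : Fˣ, y ∈ nOne F q → y ^ ((j : ℕ) + 1) ∈ H) {y : Fˣ} (hy : y ∈ nOne F q) :
    y ^ eD (q + 2) d ∈ H := by
  rw [← QuotientGroup.eq_one_iff, QuotientGroup.mk_pow, ← orderOf_dvd_iff_pow_eq_one]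
  refine dvd_eD ?_ fun j hj => ?_
  · refine (orderOf_map_dvd (QuotientGroup.mk' H) y).trans ?_
    exact orderOf_dvd_of_pow_eq_one (mem_nOne.1 hy)
  · rw [orderOf_dvd_iff_pow_eq_one, ← QuotientGroup.mk_pow, QuotientGroup.eq_one_iff]
    exact h j hj y hy

theorem index_pow_nOne [Fintype F] {q e : ℕ} (hF : Fintype.card F = q ^ 2) (he : e ∣ q + 1) :
    (powMonoidHom e : nOne F q →* nOne F q).range.index = e := by
  rw [IsCyclic.index_powMonoidHom_range, card_nOne hF, Nat.gcd_eq_right he]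

variable [Fintype F] {q n : ℕ} {σ : F →+* F}

theorem classes_le_unitary (hK : Fintype.card F = q ^ 2) (hσ : ∀ x, σ x = x ^ q)
    (hU : IsUnitaryForm σ (hermB n σ)) [DecidablePred fun T : S F n n => DT T = 1 ∧ SDual σ T] :
    Nat.card (ConjClasses ↥(Cfsg.SU n F q)) ≤
      ∑ T ∈ (Finset.univ : Finset (S F n n)).filter (fun T => DT T = 1 ∧ SDual σ T), eU q T := by
  classical
  let emb : ↥(Cfsg.SU n F q) →* GL (Fin n) F := iot.comp (Cfsg.SU n F q).subtype
  have hmem : ∀ g, emb g ∈ Cfsg.GU n F q := fun g => FormCentral.su_toGL_mem g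
  have hdet : ∀ g, Matrix.GeneralLinearGroup.det (emb g) = 1 := fun g =>
    Units.ext (g : Matrix.SpecialLinearGroup (Fin n) F).2
  have hinj : Function.Injective emb := fun a b h => Subtype.ext (Subtype.ext (congrArg Units.val h))
  choose rep hrep using fun C : ConjClasses ↥(Cfsg.SU n F q) => ConjClasses.exists_rep C
  let R : S F n n → GL (Fin n) F := fun T => (Function.invFun (fun g : ↥(Cfsg.GU n F q) => tupG g.1) T).1
  have hR : ∀ g ∈ Cfsg.GU n F q, tupG (R (tupG g)) = tupG g := fun g hg =>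
    Function.invFun_eq (f := fun g : ↥(Cfsg.GU n F q) => tupG g.1) ⟨⟨g, hg⟩, rfl⟩
  have hRm : ∀ T, R T ∈ Cfsg.GU n F q := fun T => SetLike.coe_mem _
  have hcc : ∀ x, ∃ c : GL (Fin n) F, c ∈ Cfsg.GU n F q ∧ c * R (tupG (emb (rep x))) = emb (rep x) * c := by
    intro x
    obtain ⟨P, hP⟩ := isConj_iff.1 (isConj_of_tupG _ _ (hR _ (hmem (rep x))))
    exact FormCentral.gu_intertwine hK (hRm _) (hmem _) (mul_inv_eq_iff_eq_mul.1 hP)
  choose c hcm hc using hcc
  have hcN : ∀ x, Matrix.GeneralLinearGroup.det (c x) ∈ nOne F q := fun x => Units.ext (by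
    rw [powMonoidHom_apply, Units.val_pow_eq_pow_val, Units.val_one]
    exact UnitaryOrder.det_norm_one hK (hcm x))
  let f : ConjClasses ↥(Cfsg.SU n F q) → Σ T : {T : S F n n // DT T = 1 ∧ SDual σ T},
      nOne F q ⧸ (powMonoidHom (eU q T.1) : nOne F q →* nOne F q).range := fun x =>
    ⟨⟨tupG (emb (rep x)), by rw [DT_tupG, hdet], sdual_tupG hU.tf (preserves_toLin hσ (hmem _))⟩,
      QuotientGroup.mk ⟨Matrix.GeneralLinearGroup.det (c x), hcN x⟩⟩
  have hf : Function.Injective f := by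
    intro x y h
    have key : ∀ T T' : S F n n, T = T' → ∀ a b : nOne F q, (Sigma.mk T (QuotientGroup.mk a) :
        Σ T : S F n n, nOne F q ⧸ (powMonoidHom (eU q T) : nOne F q →* nOne F q).range) =
          Sigma.mk T' (QuotientGroup.mk b) →
        a⁻¹ * b ∈ (powMonoidHom (eU q T) : nOne F q →* nOne F q).range := by
      rintro T _ rfl a b e
      exact QuotientGroup.eq.1 (eq_of_heq (Sigma.mk.inj_iff.1 e).2)
    have hT : tupG (emb (rep x)) = tupG (emb (rep y)) := congrArg (fun s => s.1.1) h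
    obtain ⟨z, hz⟩ := key _ _ hT _ _ (congrArg (fun s => (⟨s.1.1, s.2⟩ :
      Σ T : S F n n, nOne F q ⧸ (powMonoidHom (eU q T) : nOne F q →* nOne F q).range)) h)
    set T := tupG (emb (rep x)) with hTdef
    let H : Subgroup Fˣ := (Subgroup.centralizer {R T} ⊓ Cfsg.GU n F q).map Matrix.GeneralLinearGroup.det
    have hzH : (z : Fˣ) ^ eU q T ∈ H := by
      refine pow_eU_mem H (fun j hj y hy => ?_) z.2
      have hdgR : tupG (R T) = T := hR _ (hmem _)
      obtain ⟨C, hC, hCR, hCd⟩ := exists_centralizer_pow hK hσ hU (hRm T)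
        (j := j) (by rw [hdgR]; exact hj) hy
      exact ⟨C, ⟨Subgroup.mem_centralizer_singleton_iff.2 hCR, hC⟩, hCd⟩
    obtain ⟨k, ⟨hk, hkU⟩, hkd⟩ := hzH
    have hk' : k * R T = R T * k := Subgroup.mem_centralizer_singleton_iff.1 hk
    have hy : c y * R T = emb (rep y) * c y := by rw [hT]; exact hc y
    have hzd : Matrix.GeneralLinearGroup.det k =
        (Matrix.GeneralLinearGroup.det (c x))⁻¹ * Matrix.GeneralLinearGroup.det (c y) :=
      hkd.trans (congrArg Subtype.val hz)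
    let s : GL (Fin n) F := c y * k⁻¹ * (c x)⁻¹
    have hsm : s ∈ Cfsg.GU n F q := mul_mem (mul_mem (hcm y) (inv_mem hkU)) (inv_mem (hcm x))
    have hs : Matrix.GeneralLinearGroup.det s = 1 := by
      show Matrix.GeneralLinearGroup.det (c y * k⁻¹ * (c x)⁻¹) = 1
      rw [map_mul, map_mul, map_inv, map_inv, hzd, mul_inv_rev, inv_inv]
      group
    let s' : ↥(Cfsg.SU n F q) := ⟨⟨s.1, congrArg Units.val hs⟩, hsm⟩
    rw [← hrep x, ← hrep y, ConjClasses.mk_eq_mk_iff_isConj]
    refine isConj_iff.2 ⟨s', hinj ?_⟩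
    have e1 : emb (rep x) = c x * R T * (c x)⁻¹ := eq_mul_inv_iff_mul_eq.2 (hc x).symm
    have e2 : emb (rep y) = c y * R T * (c y)⁻¹ := eq_mul_inv_iff_mul_eq.2 hy.symm
    rw [map_mul, map_mul, map_inv, show emb s' = s from Units.ext rfl, e1, e2]
    show c y * k⁻¹ * (c x)⁻¹ * (c x * R T * (c x)⁻¹) * (c y * k⁻¹ * (c x)⁻¹)⁻¹ = _
    calc _ = c y * (k⁻¹ * (R T * k)) * (c y)⁻¹ := by group
      _ = _ := by rw [← hk']; group
  refine (Nat.card_le_card_of_injective f hf).trans ?_
  rw [Nat.card_sigma]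
  refine le_of_eq ?_
  rw [Finset.sum_subtype _ (p := fun T => DT T = 1 ∧ SDual σ T) (fun T => by simp) (fun T => eU q T)]
  exact Finset.sum_congr rfl fun T _ => index_pow_nOne hK (eU_dvd_left q T.1)

end Cfsg.Agent.ClassNum
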