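import Cfsg.Agent.Lib.ClassNum.OrthCount

/-!
Tuples with signs for orthogonal groups, the exponent one carrying a weight of its own, and the recursive
bounds for their number in terms of a bound `ρ` for `1 / q`.
-/

set_option autoImplicit false
set_option linter.unusedSectionVars false

namespace Cfsg.Agent.ClassNum

open Polynomial S2478 FormsLib FormTorus

universe u

variable {F : Type u} [Field F] [Fintype F]

/-- The count with an initial weight. -/
def cntW (q : ℕ) (w : ℕ → ℕ) : ℕ → ℕ → ℕ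
  | 0, k => if k = 0 then 1 else 0
  | 1, k => w k
  | m + 2, k => ∑ a ∈ Finset.range (k / (m + 2) + 1), cwS q (Nat.succ (m + 2)) a * cntW q w (m + 1) (k - (m + 2) * a)

/-- Tuples with a condition at the exponent one. -/
abbrev DGP (F : Type u) [Field F] (R : F[X] → Bool × Bool → Prop) (m k : ℕ) : Type u :=
  {x : DG F Nat.succ m k // ∀ j : Fin m, (j : ℕ) = 0 → R (x.1.1.1 j).1 (x.1.2 j)}

theorem card_DGP (h2 : (2 : F) ≠ 0) (R : F[X] → Bool × Bool → Prop) (w : ℕ → ℕ)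
    (hw : ∀ a, Nat.card {v : VS F 2 a // R v.1.1.1.1 v.1.2} ≤ w a) :
    ∀ m k, Nat.card (DGP F R m k) ≤ cntW (Fintype.card F) w m k := by
  intro m
  induction m with
  | zero =>
    intro k
    refine le_trans ?_ (le_of_le_of_eq (card_DG h2 Nat.succ 0 k) (by rw [cntG, cntW]))
    haveI : Finite (DG F Nat.succ 0 k) := by
      haveI := (card_S (F := F) 0 k).2
      exact Subtype.finite
    exact Nat.card_le_card_of_injective _ Subtype.val_injective
  | succ m ih =>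
    intro k
    classical
    haveI : ∀ a, Finite (Pd F a) := fun a => (card_Pd a).2
    haveI : ∀ j, Finite (DG F Nat.succ m j) := fun j => by
      haveI := (card_S (F := F) m j).2
      exact Subtype.finite
    rcases m with _ | m
    · rw [cntW]
      refine le_trans ?_ (hw k)
      have hsum : ∀ x : DGP F R 1 k, (x.1.1.1.1 0).1.natDegree = k := fun x => by
        have := x.1.1.1.2
        simp at this
        exact this
      refine Nat.card_le_card_of_injective (fun x => ⟨⟨(⟨x.1.1.1.1 0, hsum x⟩, x.1.1.2 0), x.1.2 0⟩, x.2 0 rfl⟩)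
        fun x y h => ?_
      simp only [Subtype.mk.injEq, Prod.mk.injEq] at h
      refine Subtype.ext (Subtype.ext (Prod.ext (Subtype.ext (funext fun j => ?_)) (funext fun j => ?_))) <;>
        obtain rfl : j = 0 := Fin.ext (by omega)
      · exact h.1
      · exact h.2
    let g : DGP F R (m + 2) k → Σ a : Fin (k / (m + 2) + 1),
        VS F (Nat.succ (m + 2)) a × DGP F R (m + 1) (k - (m + 2) * a) :=
      fun x => ⟨(splitEquiv (m + 1) k x.1.1.1).1,
        ⟨((splitEquiv (m + 1) k x.1.1.1).2.1, x.1.1.2 (Fin.last (m + 1))), x.1.2 (Fin.last (m + 1))⟩,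
        ⟨⟨((splitEquiv (m + 1) k x.1.1.1).2.2, fun j => x.1.1.2 j.castSucc), fun j => x.1.2 j.castSucc⟩,
          fun j hj => x.2 j.castSucc hj⟩⟩
    have hg : Function.Injective g := fun x y h => by
      refine Subtype.ext (Subtype.ext (Prod.ext ((splitEquiv (m + 1) k).injective ?_) ?_))
      · exact congrArg (fun z : Σ a : Fin (k / (m + 2) + 1),
            VS F (Nat.succ (m + 2)) a × DGP F R (m + 1) (k - (m + 2) * a) =>
          (⟨z.1, z.2.1.1.1, z.2.2.1.1.1⟩ : Σ a : Fin (k / (m + 2) + 1), Pd F a × S F (m + 1) (k - (m + 2) * a))) h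
      · funext j
        refine Fin.lastCases ?_ (fun l => ?_) j
        · exact congrArg (fun z : Σ a : Fin (k / (m + 2) + 1),
            VS F (Nat.succ (m + 2)) a × DGP F R (m + 1) (k - (m + 2) * a) => z.2.1.1.2) h
        · exact congrArg (fun z : Σ a : Fin (k / (m + 2) + 1),
            VS F (Nat.succ (m + 2)) a × DGP F R (m + 1) (k - (m + 2) * a) => z.2.2.1.1.2 l) h
    refine (Nat.card_le_card_of_injective g hg).trans ?_
    rw [Nat.card_sigma, cntW,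
      Finset.sum_range (f := fun a => cwS _ (Nat.succ (m + 2)) a * cntW _ w (m + 1) (k - (m + 2) * a))]
    refine Finset.sum_le_sum fun a _ => ?_
    rw [Nat.card_prod]
    exact Nat.mul_le_mul (card_VS h2 _ a) (ih _)

/-- Guarded form of the recursion. -/
theorem cntW_le_sum (q : ℕ) (w : ℕ → ℕ) (m K : ℕ) :
    (cntW q w (m + 2) K : ℚ) ≤ ∑ b ∈ Finset.range (K + 1),
      ((if (m + 2) * (2 * b) ≤ K then
        (cwS q (Nat.succ (m + 2)) (2 * b) : ℚ) * cntW q w (m + 1) (K - (m + 2) * (2 * b)) else 0) +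
      (if (m + 2) * (2 * b + 1) ≤ K then
        (cwS q (Nat.succ (m + 2)) (2 * b + 1) : ℚ) * cntW q w (m + 1) (K - (m + 2) * (2 * b + 1)) else 0)) := by
  let f : ℕ → ℚ := fun a =>
    if (m + 2) * a ≤ K then (cwS q (Nat.succ (m + 2)) a : ℚ) * cntW q w (m + 1) (K - (m + 2) * a) else 0
  have hf : ∀ a, 0 ≤ f a := fun a => by simp only [f]; split_ifs <;> positivity
  have h2 : ∀ M, ∑ b ∈ Finset.range M, (f (2 * b) + f (2 * b + 1)) = ∑ a ∈ Finset.range (2 * M), f a := by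
    intro M
    induction M with
    | zero => simp
    | succ M ih =>
      rw [Finset.sum_range_succ, ih, show 2 * (M + 1) = 2 * M + 1 + 1 by ring, Finset.sum_range_succ,
        Finset.sum_range_succ]
      ring
  rw [cntW]
  push_cast
  refine le_trans (le_of_eq ?_) (le_trans (Finset.sum_le_sum_of_subset_of_nonneg
    (f := f) (Finset.range_mono (show K / (m + 2) + 1 ≤ 2 * (K + 1) by
      have := Nat.div_le_self K (m + 2); omega)) fun a _ _ => hf a) (h2 (K + 1)).ge)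
  refine Finset.sum_congr rfl fun a ha => ?_
  rw [Finset.mem_range, Nat.lt_succ_iff, Nat.le_div_iff_mul_le (Nat.succ_pos (m + 1))] at ha
  simp only [f]
  rw [if_pos (by rwa [mul_comm] at ha)]

/-- An even exponent. -/
theorem stepW_square (q : ℕ) {ρ : ℚ} (hq : 0 < q) (hρ : 1 / (q : ℚ) ≤ ρ) (hρ1 : ρ < 1) (w : ℕ → ℕ) (m r k : ℕ)
    (hr : r ≤ 1) (he : Even (m + 2)) (C : ℚ) (hC : 0 ≤ C)
    (h : ∀ j, (cntW q w (m + 1) (2 * j + r) : ℚ) ≤ C * q ^ j) :
    (cntW q w (m + 2) (2 * k + r) : ℚ) ≤ C * (1 / (1 - ρ ^ (m + 1))) * q ^ k := by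
  have hq0 : (q : ℚ) ≠ 0 := by exact_mod_cast hq.ne'
  set z : ℚ := q * (1 / q) ^ (m + 2) with hz
  have hρ0 : 0 ≤ ρ := le_trans (by positivity) hρ
  have hz0 : 0 ≤ z := by positivity
  have hzle : z ≤ ρ ^ (m + 1) := by
    refine le_trans (le_of_eq ?_) (pow_le_pow_left₀ (show (0 : ℚ) ≤ 1 / q by positivity) hρ (m + 1))
    rw [hz, pow_succ]
    field_simp
  have hlt : ρ ^ (m + 1) < 1 := pow_lt_one₀ hρ0 hρ1 (Nat.succ_ne_zero m)
  refine (cntW_le_sum q w m _).trans ?_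
  calc _ ≤ ∑ b ∈ Finset.range (2 * k + r + 1), C * q ^ k * z ^ b := by
        refine Finset.sum_le_sum fun b _ => ?_
        have hc : ∀ a, cwS q (Nat.succ (m + 2)) a = cO q a := fun a => by
          rw [cwS, if_neg (Nat.not_even_iff_odd.2 (by obtain ⟨l, hl⟩ := he; exact ⟨l, by omega⟩))]
        rw [hc, hc, cO, cO, if_pos (even_two_mul b), if_neg (Nat.not_even_iff_odd.2 (odd_two_mul_add_one b)),
          Nat.cast_zero, zero_mul, ite_self, add_zero, Nat.mul_div_cancel_left _ two_pos]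
        split_ifs with hle
        · have hle' : (m + 2) * b ≤ k := by
            rw [show (m + 2) * (2 * b) = 2 * ((m + 2) * b) by ring] at hle
            omega
          rw [show 2 * k + r - (m + 2) * (2 * b) = 2 * (k - (m + 2) * b) + r by
            rw [show (m + 2) * (2 * b) = 2 * ((m + 2) * b) by ring]; omega]
          push_cast
          refine le_trans (mul_le_mul_of_nonneg_left (h _) (by positivity)) (le_of_eq ?_)
          rw [hz, mul_pow, ← pow_mul, pow_sub₀ _ hq0 hle', one_div, inv_pow]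
          ring
        · positivity
    _ ≤ C * q ^ k * (1 / (1 - z)) := by
        rw [← Finset.mul_sum]
        exact mul_le_mul_of_nonneg_left (geom_le hz0 (hzle.trans_lt hlt) _) (by positivity)
    _ ≤ C * q ^ k * (1 / (1 - ρ ^ (m + 1))) :=
        mul_le_mul_of_nonneg_left (one_div_le_one_div_of_le (by linarith) (by linarith)) (by positivity)
    _ = _ := by ring

/-- An odd exponent. -/
theorem stepW_signs (q : ℕ) {ρ : ℚ} (hq : 0 < q) (hρ : 1 / (q : ℚ) ≤ ρ) (hρ1 : ρ < 1) (w : ℕ → ℕ)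
    (l r r' s k : ℕ) (C C' : ℚ) (hC : 0 ≤ C) (hC' : 0 ≤ C') (hr : r + r' = 1) (hs : s + r = l + 2)
    (h : ∀ j, (cntW q w (2 * (l + 1)) (2 * j + r) : ℚ) ≤ C * q ^ j)
    (h' : ∀ j, (cntW q w (2 * (l + 1)) (2 * j + r') : ℚ) ≤ C' * q ^ j) :
    (cntW q w (2 * (l + 1) + 1) (2 * k + r) : ℚ) ≤
      (C * ((1 + 6 * ρ ^ (2 * (l + 1) + 1) + (ρ ^ (2 * (l + 1) + 1)) ^ 2) / (1 - ρ ^ (2 * (l + 1)))) +
        C' * ρ ^ s * ((4 + 4 * ρ ^ (2 * (l + 1) + 1)) / (1 - ρ ^ (2 * (l + 1))))) * q ^ k := by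
  have hq0 : (q : ℚ) ≠ 0 := by exact_mod_cast hq.ne'
  set L := l + 1 with hL
  set z : ℚ := (1 / q) ^ (2 * L + 1) with hz
  set y : ℚ := ρ ^ (2 * L + 1) with hy
  have hρ0 : 0 ≤ ρ := le_trans (by positivity) hρ
  have hz0 : 0 ≤ z := by positivity
  have hzy : z ≤ y := pow_le_pow_left₀ (by positivity) hρ _
  have hqz : (q : ℚ) * z ≤ ρ ^ (2 * L) := by
    refine le_trans (le_of_eq ?_) (pow_le_pow_left₀ (show (0 : ℚ) ≤ 1 / q by positivity) hρ (2 * L))
    rw [hz, pow_succ]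
    field_simp
  have hlt : ρ ^ (2 * L) < 1 := pow_lt_one₀ hρ0 hρ1 (by omega)
  rw [show 2 * L + 1 = 2 * l + 1 + 2 by omega]
  refine (cntW_le_sum q w (2 * l + 1) _).trans ?_
  rw [show 2 * l + 1 + 2 = 2 * L + 1 by omega, show 2 * l + 1 + 1 = 2 * L by omega]
  have hw : ∀ a, cwS q (Nat.succ (2 * L + 1)) a = cE q a := fun a => by
    rw [cwS, if_pos ⟨L + 1, by omega⟩]
  calc _ ≤ ∑ b ∈ Finset.range (2 * k + r + 1), (C * q ^ k * ((cE q (2 * b) : ℚ) * z ^ b) +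
          C' * (1 / q) ^ s * q ^ k * ((cE q (2 * b + 1) : ℚ) * z ^ b)) := by
        refine Finset.sum_le_sum fun b _ => add_le_add ?_ ?_
        · rw [hw]
          split_ifs with hle
          · have hle' : (2 * L + 1) * b ≤ k := by
              rw [show (2 * L + 1) * (2 * b) = 2 * ((2 * L + 1) * b) by ring] at hle
              omega
            rw [show 2 * k + r - (2 * L + 1) * (2 * b) = 2 * (k - (2 * L + 1) * b) + r by
              rw [show (2 * L + 1) * (2 * b) = 2 * ((2 * L + 1) * b) by ring]; omega]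
            refine le_trans (mul_le_mul_of_nonneg_left (h _) (by positivity)) (le_of_eq ?_)
            rw [hz, ← pow_mul, pow_sub₀ _ hq0 hle', one_div, inv_pow]
            ring
          · positivity
        · rw [hw]
          split_ifs with hle
          · have hmul : (2 * L + 1) * (2 * b + 1) = 2 * ((2 * L + 1) * b) + (2 * L + 1) := by ring
            have hle' : (2 * L + 1) * b + s ≤ k := by omega
            rw [show 2 * k + r - (2 * L + 1) * (2 * b + 1) = 2 * (k - ((2 * L + 1) * b + s)) + r' by omega]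
            refine le_trans (mul_le_mul_of_nonneg_left (h' _) (by positivity)) (le_of_eq ?_)
            rw [hz, ← pow_mul, pow_sub₀ _ hq0 hle', one_div, inv_pow, inv_pow, pow_add, mul_inv]
            ring
          · positivity
    _ ≤ C * q ^ k * ((1 + 6 * z + z ^ 2) / (1 - q * z)) +
          C' * (1 / q) ^ s * q ^ k * ((4 + 4 * z) / (1 - q * z)) := by
        rw [Finset.sum_add_distrib, ← Finset.mul_sum, ← Finset.mul_sum]
        exact add_le_add (mul_le_mul_of_nonneg_left (sum_cE_even_le q hz0 (hqz.trans_lt hlt) _) (by positivity))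
          (mul_le_mul_of_nonneg_left (sum_cE_odd_le q hz0 (hqz.trans_lt hlt) _) (by positivity))
    _ ≤ C * q ^ k * ((1 + 6 * y + y ^ 2) / (1 - ρ ^ (2 * L))) +
          C' * ρ ^ s * q ^ k * ((4 + 4 * y) / (1 - ρ ^ (2 * L))) := by
        have d0 : (0 : ℚ) < 1 - q * z := by linarith
        have d1 : (0 : ℚ) < 1 - ρ ^ (2 * L) := by linarith
        have hy0 : 0 ≤ y := by positivity
        refine add_le_add (mul_le_mul_of_nonneg_left ?_ (by positivity)) ?_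
        · exact div_le_div₀ (by positivity) (by nlinarith) d1 (by linarith)
        · refine mul_le_mul (mul_le_mul_of_nonneg_right (mul_le_mul_of_nonneg_left
            (pow_le_pow_left₀ (by positivity) hρ s) hC') (by positivity)) ?_
            (div_nonneg (by positivity) d0.le) (by positivity)
          exact div_le_div₀ (by positivity) (by linarith) d1 (by linarith)
    _ = _ := by ring

/-- The bounds propagate from `m` to `m + 1`. -/
def stepB (ρ : ℚ) (m : ℕ) (p : ℚ × ℚ) : ℚ × ℚ :=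
  if Even (m + 1) then (p.1 * (1 / (1 - ρ ^ m)), p.2 * (1 / (1 - ρ ^ m)))
  else
    (p.1 * ((1 + 6 * ρ ^ (m + 1) + (ρ ^ (m + 1)) ^ 2) / (1 - ρ ^ m)) +
      p.2 * ρ ^ (m / 2 + 1) * ((4 + 4 * ρ ^ (m + 1)) / (1 - ρ ^ m)),
    p.2 * ((1 + 6 * ρ ^ (m + 1) + (ρ ^ (m + 1)) ^ 2) / (1 - ρ ^ m)) +
      p.1 * ρ ^ (m / 2) * ((4 + 4 * ρ ^ (m + 1)) / (1 - ρ ^ m)))

/-- Iterated bounds starting at `m₀`. -/
def iterB (ρ : ℚ) (m₀ : ℕ) (p : ℚ × ℚ) : ℕ → ℚ × ℚ
  | 0 => p
  | j + 1 => stepB ρ (m₀ + j) (iterB ρ m₀ p j)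

theorem stepB_ge {ρ : ℚ} (h0 : 0 ≤ ρ) (h1 : ρ < 1) (m : ℕ) (hm : 1 ≤ m) {p : ℚ × ℚ} (hp : 0 ≤ p.1 ∧ 0 ≤ p.2) :
    p.1 ≤ (stepB ρ m p).1 ∧ p.2 ≤ (stepB ρ m p).2 := by
  obtain ⟨a1, a2⟩ := hp
  have hd : (0 : ℚ) < 1 - ρ ^ m := by linarith [pow_lt_one₀ h0 h1 (show m ≠ 0 by omega)]
  have hp' : (0 : ℚ) ≤ ρ ^ m := by positivity
  have hp2 : (0 : ℚ) ≤ ρ ^ (m + 1) := by positivity
  have one_le : (1 : ℚ) ≤ (1 + 6 * ρ ^ (m + 1) + (ρ ^ (m + 1)) ^ 2) / (1 - ρ ^ m) := by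
    rw [le_div_iff₀ hd]
    nlinarith
  rw [stepB]
  split_ifs
  · exact ⟨le_mul_of_one_le_right a1 (by rw [le_div_iff₀ hd]; linarith),
      le_mul_of_one_le_right a2 (by rw [le_div_iff₀ hd]; linarith)⟩
  · exact ⟨le_add_of_le_of_nonneg (le_mul_of_one_le_right a1 one_le) (by positivity),
      le_add_of_le_of_nonneg (le_mul_of_one_le_right a2 one_le) (by positivity)⟩

theorem iterB_mono {ρ : ℚ} (h0 : 0 ≤ ρ) (h1 : ρ < 1) {m₀ : ℕ} (hm : 1 ≤ m₀) {p : ℚ × ℚ} (hp : 0 ≤ p.1 ∧ 0 ≤ p.2)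
    {i j : ℕ} (hij : i ≤ j) :
    (iterB ρ m₀ p i).1 ≤ (iterB ρ m₀ p j).1 ∧ (iterB ρ m₀ p i).2 ≤ (iterB ρ m₀ p j).2 := by
  have hn : ∀ j, 0 ≤ (iterB ρ m₀ p j).1 ∧ 0 ≤ (iterB ρ m₀ p j).2 := by
    intro j
    induction j with
    | zero => exact hp
    | succ j ih =>
      obtain ⟨b1, b2⟩ := stepB_ge h0 h1 (m₀ + j) (by omega) ih
      exact ⟨ih.1.trans b1, ih.2.trans b2⟩
  induction j, hij using Nat.le_induction with
  | base => exact ⟨le_rfl, le_rfl⟩
  | succ j hj ih =>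
    obtain ⟨b1, b2⟩ := stepB_ge h0 h1 (m₀ + j) (by omega) (hn j)
    exact ⟨ih.1.trans b1, ih.2.trans b2⟩

theorem cntW_le_iterB (q : ℕ) {ρ : ℚ} (hq : 0 < q) (hρ : 1 / (q : ℚ) ≤ ρ) (hρ1 : ρ < 1) (w : ℕ → ℕ)
    {m₀ : ℕ} (hm : 1 ≤ m₀) {p : ℚ × ℚ} (hp : 0 ≤ p.1 ∧ 0 ≤ p.2)
    (h₀ : ∀ k, (cntW q w m₀ (2 * k) : ℚ) ≤ p.1 * q ^ k ∧ (cntW q w m₀ (2 * k + 1) : ℚ) ≤ p.2 * q ^ k) :
    ∀ j k, (cntW q w (m₀ + j) (2 * k) : ℚ) ≤ (iterB ρ m₀ p j).1 * q ^ k ∧
      (cntW q w (m₀ + j) (2 * k + 1) : ℚ) ≤ (iterB ρ m₀ p j).2 * q ^ k := by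
  have hρ0 : 0 ≤ ρ := le_trans (by positivity) hρ
  intro j
  induction j with
  | zero => exact h₀
  | succ j ih =>
    intro k
    obtain ⟨n1, n2⟩ : 0 ≤ (iterB ρ m₀ p j).1 ∧ 0 ≤ (iterB ρ m₀ p j).2 := by
      obtain ⟨b1, b2⟩ := iterB_mono hρ0 hρ1 hm hp (Nat.zero_le j)
      exact ⟨hp.1.trans b1, hp.2.trans b2⟩
    show (cntW q w (m₀ + j + 1) (2 * k) : ℚ) ≤ _ ∧ (cntW q w (m₀ + j + 1) (2 * k + 1) : ℚ) ≤ _
    rw [iterB, stepB]
    rcases Nat.even_or_odd (m₀ + j + 1) with he | ho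
    · rw [if_pos he]
      obtain ⟨i, hi⟩ : ∃ i, m₀ + j = i + 1 := ⟨m₀ + j - 1, by omega⟩
      rw [hi] at ih he ⊢
      exact ⟨stepW_square q hq hρ hρ1 w i 0 k (by omega) he _ n1 fun j => (ih j).1,
        stepW_square q hq hρ hρ1 w i 1 k le_rfl he _ n2 fun j => (ih j).2⟩
    · rw [if_neg (Nat.not_even_iff_odd.2 ho)]
      obtain ⟨l, hl⟩ := ho
      obtain ⟨i, rfl⟩ : ∃ i, l = i + 1 := ⟨l - 1, by omega⟩
      rw [show m₀ + j = 2 * (i + 1) by omega] at ih ⊢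
      rw [show 2 * (i + 1) / 2 = i + 1 by omega]
      exact ⟨stepW_signs q hq hρ hρ1 w i 0 1 (i + 2) k _ _ n1 n2 (by omega) rfl (fun j => (ih j).1)
          fun j => (ih j).2,
        stepW_signs q hq hρ hρ1 w i 1 0 (i + 1) k _ _ n2 n1 (by omega) rfl (fun j => (ih j).2)
          fun j => (ih j).1⟩

set_option maxHeartbeats 1000000 in
/-- The bounds in the limit. -/
theorem iterB_tail {ρ : ℚ} (h0 : 0 < ρ) (h1 : ρ ≤ 1 / 3) (c U : ℚ) (hc : 0 ≤ c) (hcρ : 1 ≤ c * c * ρ)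
    (hcρ' : c * ρ ≤ 4 / 5 ∧ c * ρ ≤ 1 - ρ - 1 / 40) (l₀ m₀ j₀ : ℕ) (hl : 5 ≤ l₀) (hm : 1 ≤ m₀)
    (hj : m₀ + j₀ = 2 * l₀) {p : ℚ × ℚ} (hp : 0 ≤ p.1 ∧ 0 ≤ p.2)
    (hb : (iterB ρ m₀ p j₀).1 ≤ U * (1 - 4 * ρ ^ l₀) ∧ (iterB ρ m₀ p j₀).2 ≤ c * (U * (1 - 4 * ρ ^ l₀))) :
    ∀ j, (iterB ρ m₀ p j).1 ≤ U ∧ (iterB ρ m₀ p j).2 ≤ c * U := by
  have hρ1 : ρ < 1 := by linarith
  have key : ∀ i, (iterB ρ m₀ p (j₀ + 2 * i)).1 ≤ U * (1 - 4 * ρ ^ (l₀ + i)) ∧
      (iterB ρ m₀ p (j₀ + 2 * i)).2 ≤ c * (U * (1 - 4 * ρ ^ (l₀ + i))) := by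
    intro i
    induction i with
    | zero => simpa using hb
    | succ i ih =>
      obtain ⟨i1, i2⟩ := ih
      obtain ⟨n1, n2⟩ : 0 ≤ (iterB ρ m₀ p (j₀ + 2 * i)).1 ∧ 0 ≤ (iterB ρ m₀ p (j₀ + 2 * i)).2 := by
        obtain ⟨b1, b2⟩ := iterB_mono h0.le hρ1 hm hp (Nat.zero_le (j₀ + 2 * i))
        exact ⟨hp.1.trans b1, hp.2.trans b2⟩
      set y := ρ ^ (l₀ + i) with hy
      set B := U * (1 - 4 * y) with hB
      have hy1 : y ≤ 1 / 243 := by
        refine (pow_le_pow_left₀ h0.le h1 _).trans ?_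
        exact (pow_le_pow_of_le_one (by norm_num) (by norm_num) (show 5 ≤ l₀ + i by omega)).trans_eq (by norm_num)
      have hy0 : 0 < y := by positivity
      have hB0 : 0 ≤ B := le_trans n1 i1
      have hU : 0 ≤ U := by
        have : 0 < 1 - 4 * y := by linarith
        exact nonneg_of_mul_nonneg_left hB0 this
      rw [show j₀ + 2 * (i + 1) = j₀ + 2 * i + 1 + 1 by ring, iterB, iterB, stepB, stepB,
        show m₀ + (j₀ + 2 * i + 1) = 2 * (l₀ + i) + 1 by omega, show m₀ + (j₀ + 2 * i) = 2 * (l₀ + i) by omega,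
        if_pos (show Even (2 * (l₀ + i) + 1 + 1) from ⟨l₀ + i + 1, by ring⟩),
        if_neg (Nat.not_even_iff_odd.2 (odd_two_mul_add_one (l₀ + i))), Nat.mul_div_cancel_left _ two_pos,
        show ρ ^ (2 * (l₀ + i) + 1) = ρ * y ^ 2 by rw [pow_succ, pow_mul', ← hy]; ring,
        show ρ ^ (2 * (l₀ + i)) = y ^ 2 by rw [pow_mul', ← hy],
        show ρ ^ (l₀ + i + 1) = ρ * y by rw [pow_succ, ← hy]; ring,
        show ρ ^ (l₀ + (i + 1)) = ρ * y by rw [← add_assoc, pow_succ, ← hy]; ring, ← hy]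
      set P := (1 + 6 * (ρ * y ^ 2) + (ρ * y ^ 2) ^ 2) / (1 - y ^ 2) with hP
      set Q := (4 + 4 * (ρ * y ^ 2)) / (1 - y ^ 2) with hQ
      have d1 : (0 : ℚ) < 1 - y ^ 2 := by nlinarith
      have d2 : (0 : ℚ) < 1 - ρ * y ^ 2 := by nlinarith
      have hP0 : 0 ≤ P := div_nonneg (by positivity) d1.le
      have hQ0 : 0 ≤ Q := div_nonneg (by positivity) d1.le
      have hkey : (1 - 4 * y) * (P + c * ρ * y * Q) * (1 / (1 - ρ * y ^ 2)) ≤ 1 - 4 * (ρ * y) := by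
        have e : P + c * ρ * y * Q = (1 + 6 * (ρ * y ^ 2) + (ρ * y ^ 2) ^ 2 +
            c * ρ * y * (4 + 4 * (ρ * y ^ 2))) / (1 - y ^ 2) := by rw [hP, hQ]; ring
        rw [e, mul_one_div, mul_div_assoc', div_div, div_le_iff₀ (mul_pos d1 d2)]
        obtain ⟨c1, c2⟩ := hcρ'
        have hcr : 0 ≤ c * ρ := mul_nonneg hc h0.le
        set a := ρ * y ^ 2 with ha
        have ha0 : 0 ≤ a := by positivity
        have hay : a ≤ y ^ 2 / 3 := by nlinarith
        have hy2 : y ^ 2 ≤ y / 243 := by nlinarith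
        have hK : 6 + a + 4 * (c * ρ * y) ≤ 7 := by nlinarith
        have lhs : (1 - 4 * y) * (1 + 6 * a + a ^ 2 + c * ρ * y * (4 + 4 * a)) ≤
            1 + 4 * (c * ρ) * y - 4 * y + 7 * a := by
          have h1 := mul_le_mul_of_nonneg_left hK ha0
          have h2 : 0 ≤ y * (a * (6 + a + 4 * (c * ρ * y))) := by positivity
          have h3 : 0 ≤ c * ρ * y * y := by positivity
          linarith
        have rhs : 1 - 4 * (ρ * y) - 2 * y ^ 2 ≤ (1 - 4 * (ρ * y)) * ((1 - y ^ 2) * (1 - a)) := by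
          have h1 : 0 ≤ (1 - 4 * (ρ * y)) * (y ^ 2 * a) := mul_nonneg (by nlinarith) (by positivity)
          have h2 : 0 ≤ ρ * y * (y ^ 2 + a) := by positivity
          linarith
        have h4 := mul_le_mul_of_nonneg_right c2 hy0.le
        linarith
      have hinv : (0 : ℚ) ≤ 1 / (1 - ρ * y ^ 2) := by positivity
      constructor
      · calc _ ≤ (B * P + c * B * (ρ * y) * Q) * (1 / (1 - ρ * y ^ 2)) := by simp only; gcongr
          _ = U * ((1 - 4 * y) * (P + c * ρ * y * Q) * (1 / (1 - ρ * y ^ 2))) := by rw [hB]; ring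
          _ ≤ U * (1 - 4 * (ρ * y)) := mul_le_mul_of_nonneg_left hkey hU
      · calc _ ≤ (c * B * P + B * y * Q) * (1 / (1 - ρ * y ^ 2)) := by simp only; gcongr
          _ ≤ c * (B * (P + c * ρ * y * Q)) * (1 / (1 - ρ * y ^ 2)) := by
              refine mul_le_mul_of_nonneg_right ?_ hinv
              nlinarith [mul_le_mul_of_nonneg_left hcρ (mul_nonneg (mul_nonneg hB0 hy0.le) hQ0)]
          _ = c * (U * ((1 - 4 * y) * (P + c * ρ * y * Q) * (1 / (1 - ρ * y ^ 2)))) := by rw [hB]; ring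
          _ ≤ c * (U * (1 - 4 * (ρ * y))) :=
              mul_le_mul_of_nonneg_left (mul_le_mul_of_nonneg_left hkey hU) hc
  intro j
  obtain ⟨a1, a2⟩ := iterB_mono h0.le hρ1 hm hp (show j ≤ j₀ + 2 * j by omega)
  obtain ⟨k1, k2⟩ := key j
  have hle : (iterB ρ m₀ p (j₀ + 2 * j)).1 ≤ U := by
    refine k1.trans ?_
    have : 0 ≤ U := by
      have h3 : 0 < 1 - 4 * ρ ^ (l₀ + j) := by
        have := (pow_le_pow_left₀ h0.le h1 (l₀ + j)).trans
          ((pow_le_pow_of_le_one (by norm_num) (by norm_num) (show 5 ≤ l₀ + j by omega)).trans_eq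
            (show ((1 : ℚ) / 3) ^ 5 = 1 / 243 by norm_num))
        linarith
      refine nonneg_of_mul_nonneg_left (le_trans ?_ k1) h3
      exact hp.1.trans (iterB_mono h0.le hρ1 hm hp (Nat.zero_le _)).1
    nlinarith [pow_pos h0 (l₀ + j)]
  refine ⟨a1.trans hle, a2.trans (k2.trans ?_)⟩
  refine mul_le_mul_of_nonneg_left ?_ hc
  have h3 : 0 ≤ U := le_trans (le_trans hp.1 (iterB_mono h0.le hρ1 hm hp (Nat.zero_le _)).1) hle
  nlinarith [pow_pos h0 (l₀ + j)]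

end Cfsg.Agent.ClassNum
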